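import Cfsg.Agent.Lib.Bicyclic.Defs
import Cfsg.Agent.Lib.Fusion.MetacyclicClosedTwo
import Cfsg.Agent.Lib.PGroups.Omega
import Cfsg.Agent.Lib.PGroups.Basic
import Cfsg.Agent.Lib.Coprime.Basic

/-!
# Conjugates of an involution with abelian centralizer (S5217, piece 2)

If `e` is an involution outside a subgroup of index two, `C(e)` is abelian without square roots of
`z`, and `N(C(e))` moves `e` only to `ez`, then the conjugates of `e` form one coset `e⟨r⟩` of a
cyclic group inverted by `e`.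
-/

set_option autoImplicit false
set_option linter.unusedSectionVars false
set_option linter.style.haveILetI false

namespace CfsgLib.Bicyclic.Chain

open Cfsg Subgroup

universe u

variable {G : Type u} [Group G]

/-- A normal subgroup of order at least four inside `Φ(G)` has centre of order at least four. -/
theorem four_le_center [Finite G] (hG : IsPGroup 2 G) (N : Subgroup G) [N.Normal]
    (hN : N ≤ frattini G) (h4 : 4 ≤ Nat.card N) : 4 ≤ Nat.card (center N) := by
  haveI : Fact (Nat.Prime 2) := ⟨Nat.prime_two⟩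
  obtain ⟨R, hRn, -, hRN, hR⟩ := CfsgLib.PGroups.exists_normal_card_eq (p := 2) hG
    (N := (⊥ : Subgroup G)) (M := N) bot_le (k := 2) (by simp) h4
  haveI := hRn
  have hC : (centralizer (R : Set G)).index ≤ 2 := by
    simpa using CfsgLib.PGroups.index_centralizer_le hG 2 hR
  have hΦ : frattini G ≤ centralizer (R : Set G) := by
    rcases (show (centralizer (R : Set G)).index = 1 ∨ (centralizer (R : Set G)).index = 2 by
      have := Subgroup.FiniteIndex.index_ne_zero (H := centralizer (R : Set G)); omega) with h | h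
    · rw [Subgroup.index_eq_one.1 h]; exact le_top
    · refine frattini_le_coatom ⟨fun h' => by rw [h', Subgroup.index_top] at h; omega,
        fun K hK => ?_⟩
      have h1 := Subgroup.index_dvd_of_le hK.le
      rw [h] at h1
      rcases (Nat.dvd_prime Nat.prime_two).1 h1 with h2 | h2
      · exact Subgroup.index_eq_one.1 h2
      · exfalso
        refine hK.ne (Subgroup.eq_of_le_of_card_ge hK.le ?_)
        have h3 := K.card_mul_index
        rw [h2, ← (centralizer (R : Set G)).card_mul_index, h] at h3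
        omega
  have hle : R.subgroupOf N ≤ center N := fun r hr => Subgroup.mem_center_iff.2 fun v =>
    Subtype.ext (Subgroup.mem_centralizer_iff.1 (hΦ (hN v.2)) r (mem_subgroupOf.1 hr)).symm
  calc 4 = Nat.card R := by rw [hR]; norm_num
    _ = Nat.card (R.subgroupOf N) := (Nat.card_congr (subgroupOfEquivOfLe hRN).toEquiv).symm
    _ ≤ Nat.card (center N) := Subgroup.card_le_of_le hle

/-- A metacyclic group has no image of exponent two and order eight or more. -/
theorem card_le_four {S T : Type*} [Group S] [Group T] [Finite T] (hm : IsMetacyclic S)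
    (f : S →* T) (hf : Function.Surjective f) (hT : ∀ t : T, t * t = 1) : Nat.card T ≤ 4 := by
  obtain ⟨N, hN, hNc, hQc⟩ := hm
  haveI := hN
  haveI := hNc
  haveI := hQc
  have hcyc : ∀ (U : Type _) [Group U] [Finite U] [IsCyclic U], (∀ u : U, u * u = 1) →
      Nat.card U ≤ 2 := by
    intro U _ _ _ hU
    obtain ⟨g, hg⟩ := IsCyclic.exists_generator (α := U)
    rw [← orderOf_eq_card_of_forall_mem_zpowers hg]
    exact Nat.le_of_dvd two_pos (orderOf_dvd_of_pow_eq_one (by rw [pow_two, hU]))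
  haveI : (N.map f).Normal := hN.map f hf
  haveI : IsCyclic (N.map f) := isCyclic_of_surjective (f.subgroupMap N)
    (MonoidHom.subgroupMap_surjective f N)
  have h1 := hcyc (N.map f) fun u => Subtype.ext (hT u)
  have hsurj : Function.Surjective
      (QuotientGroup.map N (N.map f) f (Subgroup.le_comap_map f N)) := by
    intro v
    induction v using QuotientGroup.induction_on with
    | _ t => obtain ⟨s, rfl⟩ := hf t; exact ⟨(s : S ⧸ N), rfl⟩
  haveI : IsCyclic (T ⧸ N.map f) := isCyclic_of_surjective _ hsurj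
  have h2 := hcyc (T ⧸ N.map f) fun u => by
    induction u using QuotientGroup.induction_on with
    | _ t => rw [← QuotientGroup.mk_mul, hT]; rfl
  rw [← (N.map f).card_mul_index]
  exact Nat.mul_le_mul h1 h2

/-- The conjugates of `e` under `H` are `e⟨r⟩`. -/
def Coset (e : G) (H : Subgroup G) : Prop :=
  ∃ r : G, e * r * e⁻¹ = r⁻¹ ∧ (∀ h ∈ H, ∃ i : ℤ, h * e * h⁻¹ = e * r ^ i) ∧
    ∀ i : ℤ, ∃ h ∈ H, h * e * h⁻¹ = e * r ^ i

theorem exists_involution [Finite G] (hG : IsPGroup 2 G) {r : G} (hr : r ≠ 1) :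
    ∃ u ∈ zpowers r, u ≠ 1 ∧ u * u = 1 := by
  obtain ⟨m, hm⟩ := IsPGroup.iff_orderOf.1 hG r
  obtain ⟨m, rfl⟩ : ∃ k, m = k + 1 := Nat.exists_eq_add_one_of_ne_zero fun h => hr
    (orderOf_eq_one_iff.1 (by rw [hm, h, pow_zero]))
  refine ⟨r ^ 2 ^ m, npow_mem_zpowers r _, ?_, ?_⟩
  · intro h
    have := Nat.le_of_dvd (by positivity) (orderOf_dvd_of_pow_eq_one h)
    rw [hm] at this
    exact absurd this (by simp [pow_succ])
  · rw [← pow_add, ← two_mul, ← pow_succ', ← hm, pow_orderOf_eq_one]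

/-- A cyclic group has one involution at most. -/
theorem involution_unique [Finite G] {r u v : G} (hu : u ∈ zpowers r) (hv : v ∈ zpowers r)
    (hu1 : u ≠ 1) (hv1 : v ≠ 1) (hu2 : u * u = 1) (hv2 : v * v = 1) : u = v := by
  classical
  letI : Fintype (zpowers r) := Fintype.ofFinite _
  by_contra hne
  have hsub : ({1, ⟨u, hu⟩, ⟨v, hv⟩} : Finset (zpowers r)) ⊆
      Finset.univ.filter fun w => w ^ 2 = 1 := by
    intro w hw
    simp only [Finset.mem_insert, Finset.mem_singleton] at hw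
    rw [Finset.mem_filter, pow_two]
    rcases hw with rfl | rfl | rfl
    · exact ⟨Finset.mem_univ _, one_mul 1⟩
    · exact ⟨Finset.mem_univ _, Subtype.ext hu2⟩
    · exact ⟨Finset.mem_univ _, Subtype.ext hv2⟩
  have := (Finset.card_le_card hsub).trans (IsCyclic.card_pow_eq_one_le two_pos)
  rw [Finset.card_insert_of_notMem, Finset.card_insert_of_notMem, Finset.card_singleton] at this
  · omega
  · simpa using hne
  · simp [Subtype.ext_iff, Ne.symm hu1, Ne.symm hv1]

/-- One step up the chain. -/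
theorem step [Finite G] (hG : IsPGroup 2 G) {e z : G} (hee : e * e = 1) (hz : z * z = 1)
    (hz1 : z ≠ 1) (hsq : ∀ v : G, Commute v e → v * v ≠ z) {H H' : Subgroup G}
    (hN : normalizer ((centralizer ({e} : Set G) : Subgroup G) : Set G) ≤ H)
    (hP : ∀ p : G, Commute p e → ∀ q : G, Commute q e → Commute p q)
    (hHH' : H ≤ H') {s : G} (hs : s ∈ H') (hsH : s ∉ H) (hsn : s ∈ normalizer (H : Set G))
    (hcov : ∀ h' ∈ H', h' ∈ H ∨ ∃ h ∈ H, h' = s * h) (hτ : ∃ h ∈ H, h * e * h⁻¹ = e * z)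
    (hH : Coset e H) : Coset e H' := by
  obtain ⟨r, hr, hr1, hr2⟩ := hH
  have hei : e⁻¹ = e := inv_eq_of_mul_eq_one_left hee
  have hPH : ∀ p : G, Commute p e → p ∈ H := fun p hp =>
    hN (Subgroup.le_normalizer (Subgroup.mem_centralizer_singleton_iff.2 hp.eq))
  obtain ⟨g, hg⟩ : ∃ g, g = s * e * s⁻¹ := ⟨_, rfl⟩
  obtain ⟨r₂, hr₂⟩ : ∃ r₂, r₂ = s * r * s⁻¹ := ⟨_, rfl⟩
  have hconj : ∀ i : ℤ, s * (e * r ^ i) * s⁻¹ = g * r₂ ^ i := fun i => by
    rw [hg, hr₂, conj_zpow]; group
  -- a conjugate of `e` in the new half commuting with `e` gives a contradiction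
  have hout : ∀ i : ℤ, ¬ Commute e (g * r₂ ^ i) := by
    intro i hc
    obtain ⟨h, hh, he⟩ := hr2 i
    rw [← hconj, ← he] at hc
    have hs' : s * h ∈ normalizer ((centralizer ({e} : Set G) : Subgroup G) : Set G) := by
      have hsub : centralizer ({e} : Set G) ≤
          (centralizer ({e} : Set G)).map (MulAut.conj (s * h)).toMonoidHom := by
        intro p hp
        have hpe : Commute p e := Subgroup.mem_centralizer_singleton_iff.1 hp
        have hcomm : Commute p ((s * h) * e * (s * h)⁻¹) :=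
          hP p hpe _ (by rw [show (s * h) * e * (s * h)⁻¹ = s * (h * e * h⁻¹) * s⁻¹ by group]
                         exact hc.symm)
        refine ⟨(s * h)⁻¹ * p * (s * h), Subgroup.mem_centralizer_singleton_iff.2 ?_, by
          simp only [MulEquiv.coe_toMonoidHom, MulAut.conj_apply]; group⟩
        calc (s * h)⁻¹ * p * (s * h) * e
            = (s * h)⁻¹ * (p * ((s * h) * e * (s * h)⁻¹)) * (s * h) := by group
          _ = e * ((s * h)⁻¹ * p * (s * h)) := by rw [hcomm.eq]; group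
      exact Subgroup.mem_normalizer_iff_map_conj_eq.2 (Subgroup.eq_of_le_of_card_ge hsub
        (Nat.card_congr (equivMapOfInjective _ _ (MulAut.conj (s * h)).injective).toEquiv).ge).symm
    exact hsH (by simpa using mul_mem (hN hs') (inv_mem hh))
  have heH : e ∈ H := hPH e (Commute.refl e)
  have hgH : g ∈ H := hg ▸ (Subgroup.mem_normalizer_iff.1 hsn e).1 heH
  -- the second half is invariant under `H`
  have hinv : ∀ k ∈ H, ∀ i : ℤ, ∃ j : ℤ, k * (g * r₂ ^ i) * k⁻¹ = g * r₂ ^ j := by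
    intro k hk i
    obtain ⟨h, hh, he⟩ := hr2 i
    have hk' : s⁻¹ * k * s ∈ H := (Subgroup.mem_normalizer_iff''.1 hsn k).1 hk
    obtain ⟨j, hj⟩ := hr1 _ (mul_mem hk' hh)
    refine ⟨j, ?_⟩
    rw [← hconj, ← hconj, ← hj, ← he]; group
  obtain ⟨a, ha⟩ := hinv e heH 0
  obtain ⟨b, hb⟩ := hinv e heH 1
  rw [zpow_zero, mul_one, hei] at ha
  rw [zpow_one, hei] at hb
  have he2 : e * r₂ * e = r₂ ^ (b - a) := by
    have h1 : e * (g * r₂) * e = (e * g * e) * (e * r₂ * e) := by
      have : (e * g * e) * (e * r₂ * e) = e * g * (e * e) * r₂ * e := by group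
      rw [this, hee]; group
    rw [hb, ha, mul_assoc g] at h1
    have h2 := mul_left_cancel h1
    have h3 : e * r₂ * e = (r₂ ^ a)⁻¹ * r₂ ^ b := by rw [h2, inv_mul_cancel_left]
    rw [h3, ← zpow_neg, ← zpow_add]
    congr 1
    ring
  obtain ⟨c, hc⟩ := hr1 g hgH
  have hgg : g * g = 1 := by
    have : g * g = s * (e * e) * s⁻¹ := by rw [hg]; group
    rw [this, hee]; group
  have hgi : g⁻¹ = g := inv_eq_of_mul_eq_one_left hgg
  rw [hgi] at hc
  obtain ⟨ρ, hρ⟩ : ∃ ρ, ρ = (e * g) * (e * g) := ⟨_, rfl⟩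
  have hρ1 : ρ = r ^ c := by
    rw [hρ, show (e * g) * (e * g) = e * (g * e * g) by group, hc, ← mul_assoc, hee, one_mul]
  have hρ2 : ρ = r₂ ^ (-a) := by
    have h : ρ = (e * g * e) * g := by rw [hρ]; group
    rw [h, ha]
    have h3 : g * r₂ ^ a * g = (g * r₂ * g⁻¹) ^ a := by rw [conj_zpow, hgi]
    have h4 : g * r₂ * g⁻¹ = r₂⁻¹ := by
      rw [hg, hr₂, show s * e * s⁻¹ * (s * r * s⁻¹) * (s * e * s⁻¹)⁻¹ = s * (e * r * e⁻¹) * s⁻¹ by
        group, hr]
      group
    rw [h3, h4, inv_zpow, zpow_neg]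
  have hρne : ρ ≠ 1 := fun h => hout 0 (by
    rw [zpow_zero, mul_one, commute_iff_eq]
    have h5 : e * g = (e * g)⁻¹ := (inv_eq_of_mul_eq_one_left (hρ.symm.trans h)).symm
    rw [h5, mul_inv_rev, hei, hgi])
  obtain ⟨k, hk, hkz⟩ := hτ
  obtain ⟨i₀, hi₀⟩ := hr1 k hk
  rw [hkz] at hi₀
  have hzr : z ∈ zpowers r := ⟨i₀, (mul_left_cancel hi₀).symm⟩
  have hzr₂ : z ∈ zpowers r₂ := by
    obtain ⟨u, hu, hu1, hu2⟩ := exists_involution hG hρne
    have h1 : u = z := involution_unique (zpowers_le.2 (by rw [hρ1]; exact zpow_mem_zpowers r c) hu)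
      hzr hu1 hz1 hu2 hz
    exact h1 ▸ zpowers_le.2 (by rw [hρ2]; exact zpow_mem_zpowers r₂ _) hu
  -- `r₂ ↦ r₂ (e r₂ e)⁻¹` on the second cyclic group
  have hfix : ∀ u ∈ zpowers r₂, Commute e u → u * u = 1 := by
    intro u hu hcu
    by_contra hne
    obtain ⟨v, hv, hv1, hv2⟩ := exists_involution hG hne
    obtain ⟨j, hj⟩ := hv
    have hvm : v ∈ zpowers r₂ := zpowers_le.2 (mul_mem hu hu) ⟨j, hj⟩
    refine hsq (u ^ j) (hcu.symm.zpow_left j) ?_
    rw [← (Commute.refl u).mul_zpow]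
    exact (hj : (u * u) ^ j = v).trans (involution_unique hvm hzr₂ hv1 hz1 hv2 hz)
  set m : ℤ := 1 - (b - a) with hm
  -- `ρ` generates the second cyclic group
  have hgen : r₂ ∈ zpowers ρ := by
    obtain ⟨M, hM⟩ := IsPGroup.iff_orderOf.1 hG r₂
    have h2M : r₂ ^ ((2 : ℤ) ^ M) = 1 := by
      rw [show ((2 : ℤ) ^ M) = ((2 ^ M : ℕ) : ℤ) by push_cast; rfl, zpow_natCast, ← hM,
        pow_orderOf_eq_one]
    have hMa : ¬ (2 : ℤ) ∣ a := by
      intro hdvd
      -- solve `t * m ≡ -a`, producing a fixed reflection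
      have hex : ∃ t : ℤ, r₂ ^ (t * m) = r₂ ^ a := by
        obtain ⟨a', ha'⟩ := hdvd
        rw [ha']
        rcases Nat.eq_zero_or_pos M with rfl | hM0
        · refine ⟨0, ?_⟩
          rw [pow_zero, orderOf_eq_one_iff] at hM
          simp [hM]
        have hm2 : ∀ j : ℤ, r₂ ^ (j * m) = 1 → ((2 ^ (M - 1) : ℕ) : ℤ) ∣ j := by
          intro j hj
          have hcj : Commute e (r₂ ^ j) := by
            have h6 : e * r₂ ^ j * e⁻¹ = r₂ ^ ((b - a) * j) := by
              rw [← conj_zpow, hei, he2, ← zpow_mul]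
            have h7 : r₂ ^ ((b - a) * j) = r₂ ^ j := by
              rw [show (b - a) * j = j + -(j * m) by rw [hm]; ring, zpow_add, zpow_neg, hj, inv_one,
                mul_one]
            rw [commute_iff_eq]
            exact mul_inv_eq_iff_eq_mul.1 (h6.trans h7)
          have h8 := hfix _ (zpow_mem_zpowers r₂ j) hcj
          rw [← zpow_add] at h8
          have h9 := orderOf_dvd_iff_zpow_eq_one.2 h8
          rw [hM, show M = M - 1 + 1 by omega, pow_succ', ← two_mul] at h9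
          push_cast at h9 ⊢
          exact Int.dvd_of_mul_dvd_mul_left (by norm_num) h9
        -- `2 ^ M ∤ 2 ^ (M - 2) * m`
        by_cases hM1 : M = 1
        · subst hM1
          refine ⟨0, ?_⟩
          rw [zero_mul, zpow_zero, zpow_mul,
            orderOf_dvd_iff_zpow_eq_one.1 (by rw [hM]; norm_num : (orderOf r₂ : ℤ) ∣ 2), one_zpow]
        have hm4 : ¬ (4 : ℤ) ∣ m := by
          rintro ⟨m', hm'⟩
          have hh := hm2 ((2 ^ (M - 2) : ℕ) : ℤ) (by
            have he : (((2 ^ (M - 2) : ℕ) : ℤ)) * 4 = (2 : ℤ) ^ M := by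
              push_cast
              rw [show (4 : ℤ) = 2 ^ 2 by norm_num, ← pow_add]; congr 1; omega
            rw [hm', ← mul_assoc, zpow_mul, he, h2M, one_zpow])
          rw [Int.natCast_dvd_natCast, Nat.pow_dvd_pow_iff_le_right one_lt_two] at hh
          omega
        by_cases hmo : (2 : ℤ) ∣ m
        · obtain ⟨m₁, hm₁⟩ := hmo
          have hodd : ¬ (2 : ℤ) ∣ m₁ := fun h => hm4 (by
            rw [hm₁]; obtain ⟨q, rfl⟩ := h; exact ⟨q, by ring⟩)
          obtain ⟨x, y, hxy⟩ : IsCoprime ((2 : ℤ) ^ M) m₁ :=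
            ((Int.prime_two.coprime_iff_not_dvd).2 hodd).pow_left
          refine ⟨y * a', ?_⟩
          rw [show y * a' * m = 2 * a' + (2 : ℤ) ^ M * (-(2 * a' * x)) by
            rw [hm₁]; linear_combination (2 * a') * hxy, zpow_add,
            zpow_mul r₂ ((2 : ℤ) ^ M), h2M, one_zpow, mul_one]
        · obtain ⟨x, y, hxy⟩ : IsCoprime ((2 : ℤ) ^ M) m :=
            ((Int.prime_two.coprime_iff_not_dvd).2 hmo).pow_left
          refine ⟨y * (2 * a'), ?_⟩
          rw [show y * (2 * a') * m = 2 * a' + (2 : ℤ) ^ M * (-(2 * a' * x)) by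
            linear_combination (2 * a') * hxy, zpow_add,
            zpow_mul r₂ ((2 : ℤ) ^ M), h2M, one_zpow, mul_one]
      obtain ⟨t, ht⟩ := hex
      refine hout t ?_
      have h10 : e * (g * r₂ ^ t) * e⁻¹ = g * r₂ ^ t := by
        rw [show e * (g * r₂ ^ t) * e⁻¹ = (e * g * e⁻¹) * (e * r₂ * e⁻¹) ^ t by
          rw [conj_zpow]; group, hei, ha, he2, ← zpow_mul, mul_assoc, ← zpow_add]
        have h11 : a + (b - a) * t = t + (a - t * m) := by rw [hm]; ring
        rw [h11, zpow_add, zpow_sub, ht, mul_inv_cancel, mul_one]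
      rw [commute_iff_eq]
      exact mul_inv_eq_iff_eq_mul.1 h10
    obtain ⟨x, y, hxy⟩ : IsCoprime ((2 : ℤ) ^ M) a :=
      ((Int.prime_two.coprime_iff_not_dvd).2 hMa).pow_left
    refine ⟨-y, ?_⟩
    show ρ ^ (-y) = r₂
    have h13 : -a * -y = 1 + (2 : ℤ) ^ M * -x := by linear_combination hxy
    rw [hρ2, ← zpow_mul, h13, zpow_add, zpow_mul r₂ ((2 : ℤ) ^ M), h2M, one_zpow, mul_one,
      zpow_one]
  have hgenr : r ∈ zpowers ρ := by
    have hle : zpowers ρ ≤ zpowers r := zpowers_le.2 (hρ1 ▸ zpow_mem_zpowers r c)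
    have hle₂ : zpowers r₂ ≤ zpowers ρ := zpowers_le.2 hgen
    have heq : zpowers ρ = zpowers r := Subgroup.eq_of_le_of_card_ge hle (by
      refine le_trans (le_of_eq ?_) (Subgroup.card_le_of_le hle₂)
      rw [Nat.card_zpowers, Nat.card_zpowers, hr₂]
      exact (orderOf_injective (MulAut.conj s).toMonoidHom (MulAut.conj s).injective r).symm)
    rw [heq]; exact mem_zpowers r
  -- the new generator
  have hρe : zpowers ρ ≤ zpowers (e * g) := zpowers_le.2 (by
    rw [hρ]; exact mul_mem (mem_zpowers _) (mem_zpowers _))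
  refine ⟨e * g, ?_, fun h' hh' => ?_, fun i => ?_⟩
  · rw [← mul_assoc e e g, hee, one_mul, mul_inv_rev, hgi, hei]
  · rcases hcov h' hh' with h | ⟨h, hh, rfl⟩
    · obtain ⟨i, hi⟩ := hr1 h' h
      obtain ⟨j, hj⟩ := hρe hgenr
      refine ⟨j * i, ?_⟩
      have hj' : (e * g) ^ j = r := hj
      rw [hi, zpow_mul, hj']
    · obtain ⟨i, hi⟩ := hr1 h hh
      obtain ⟨j, hj⟩ := hρe hgen
      have hj' : (e * g) ^ j = r₂ := hj
      refine ⟨1 + j * i, ?_⟩
      rw [show s * h * e * (s * h)⁻¹ = s * (h * e * h⁻¹) * s⁻¹ by group, hi, hconj, zpow_add,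
        zpow_one, zpow_mul, hj', ← mul_assoc, ← mul_assoc, hee, one_mul]
  · have hρpow : ∀ q : ℤ, (e * g) ^ (2 * q) = ρ ^ q := fun q => by
      rw [zpow_mul, zpow_two, hρ]
    rcases Int.even_or_odd' i with ⟨q, rfl | rfl⟩
    · obtain ⟨h, hh, he⟩ := hr2 (c * q)
      exact ⟨h, hHH' hh, by rw [he, hρpow, hρ1, ← zpow_mul]⟩
    · obtain ⟨h, hh, he⟩ := hr2 (-a * q)
      refine ⟨s * h, mul_mem hs (hHH' hh), ?_⟩
      rw [show s * h * e * (s * h)⁻¹ = s * (h * e * h⁻¹) * s⁻¹ by group, he, hconj,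
        show (2 * q + 1 : ℤ) = 1 + 2 * q by ring, zpow_add, zpow_one, hρpow, hρ2, ← zpow_mul,
        ← mul_assoc, ← mul_assoc, hee, one_mul]

/-- All conjugates of `e`. -/
theorem coset_top [Finite G] (hG : IsPGroup 2 G) {e z : G} (hee : e * e = 1) (hz : z * z = 1)
    (hz1 : z ≠ 1) (hze : Commute z e) (hsq : ∀ v : G, Commute v e → v * v ≠ z)
    (hP : ∀ p : G, Commute p e → ∀ q : G, Commute q e → Commute p q)
    (hN : ∀ n ∈ normalizer ((centralizer ({e} : Set G) : Subgroup G) : Set G),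
      n * e * n⁻¹ = e ∨ n * e * n⁻¹ = e * z)
    (hτ : ∃ n ∈ normalizer ((centralizer ({e} : Set G) : Subgroup G) : Set G),
      n * e * n⁻¹ = e * z) : Coset e (⊤ : Subgroup G) := by
  haveI : Fact (Nat.Prime 2) := ⟨Nat.prime_two⟩
  haveI := hG.isNilpotent
  set N₀ := normalizer ((centralizer ({e} : Set G) : Subgroup G) : Set G) with hN₀
  suffices key : ∀ (d : ℕ) (H : Subgroup G), H.index = d → N₀ ≤ H → Coset e H → Coset e ⊤ by
    refine key _ N₀ rfl le_rfl ⟨z, ?_, fun n hn => ?_, fun i => ?_⟩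
    · rw [← hze.eq, mul_inv_cancel_right]
      exact eq_inv_of_mul_eq_one_left hz
    · rcases hN n hn with h | h
      · exact ⟨0, by simp [h]⟩
      · exact ⟨1, by simp [h]⟩
    · rcases Int.even_or_odd' i with ⟨q, rfl | rfl⟩
      · exact ⟨1, one_mem _, by rw [zpow_mul, zpow_two, hz, one_zpow]; simp⟩
      · obtain ⟨n, hn, h⟩ := hτ
        exact ⟨n, hn, by rw [h, zpow_add, zpow_mul, zpow_two, hz, one_zpow, zpow_one, one_mul]⟩
  intro d
  induction d using Nat.strong_induction_on with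
  | _ d ih =>
    intro H hd hle hH
    by_cases htop : H = ⊤
    · exact htop ▸ hH
    obtain ⟨t, ht, htH⟩ := SetLike.exists_of_lt
      (Group.normalizerCondition_of_isNilpotent H (lt_top_iff_ne_top.2 htop))
    -- an element of the normalizer of order two modulo `H`
    have hfind : ∀ (k : ℕ), t ^ 2 ^ k ∈ H →
        ∃ s ∈ normalizer (H : Set G), s ∉ H ∧ s * s ∈ H := by
      intro k
      induction k with
      | zero => intro h; rw [pow_zero, pow_one] at h; exact absurd h htH
      | succ k ihk =>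
        intro h
        by_cases h' : t ^ 2 ^ k ∈ H
        · exact ihk h'
        · exact ⟨_, pow_mem ht _, h', by rwa [← pow_two, ← pow_mul, ← pow_succ]⟩
    obtain ⟨k, hk⟩ := hG t
    obtain ⟨s, hs, hsH, hss⟩ := hfind k (by rw [hk]; exact one_mem H)
    have hcov : ∀ h' ∈ H ⊔ zpowers s, h' ∈ H ∨ ∃ h ∈ H, h' = s * h := by
      intro h' hh'
      rw [sup_comm] at hh'
      obtain ⟨u, ⟨i, rfl⟩, h, hh, rfl⟩ := (Coprime.mem_sup_iff_of_le_normalizer
        (zpowers_le.2 hs)).1 hh'
      show s ^ i * h ∈ H ∨ _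
      rcases Int.even_or_odd' i with ⟨q, rfl | rfl⟩
      · left
        rw [zpow_mul, zpow_two]
        exact mul_mem (zpow_mem hss q) hh
      · refine Or.inr ⟨(s * s) ^ q * h, mul_mem (zpow_mem hss q) hh, ?_⟩
        show s ^ (2 * q + 1) * h = _
        rw [add_comm, zpow_add, zpow_one, zpow_mul, zpow_two, mul_assoc]
    obtain ⟨n, hn, hne⟩ := hτ
    have hstep := step hG hee hz hz1 hsq hle hP le_sup_left (mem_sup_right (mem_zpowers s)) hsH hs
      hcov ⟨n, hle hn, hne⟩ hH
    refine ih (H ⊔ zpowers s).index ?_ _ rfl (hle.trans le_sup_left) hstep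
    rw [← hd]
    exact Subgroup.index_strictAnti (lt_of_le_of_ne le_sup_left fun h =>
      hsH (h.ge (mem_sup_right (mem_zpowers s))))

end CfsgLib.Bicyclic.Chain
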