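import Cfsg.Agent.Lib.Bicyclic.Chain

/-!
# Piece 2a: a four-group datum makes the derived subgroup cyclic
-/

set_option autoImplicit false
set_option linter.unusedSectionVars false
set_option linter.style.haveILetI false

namespace CfsgLib.Bicyclic.Chain

open Cfsg Subgroup
open scoped commutatorElement

universe u

variable {G : Type u} [Group G]

theorem commutator_le_of_two {a b : G} (hab : closure ({a, b} : Set G) = ⊤) (N : Subgroup G)
    [N.Normal] (h : ⁅a, b⁆ ∈ N) : commutator G ≤ N := by
  set π := QuotientGroup.mk' N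
  have hc : π a * π b = π b * π a := by
    rw [← commutatorElement_eq_one_iff_mul_comm, ← map_commutatorElement]
    exact (QuotientGroup.eq_one_iff _).2 h
  have hgen : ∀ w : G, π a * π w = π w * π a ∧ π b * π w = π w * π b := by
    intro w
    have hle : closure ({a, b} : Set G) ≤
        (centralizer ({π a, π b} : Set (G ⧸ N))).comap π := by
      rw [closure_le]
      rintro s (rfl | rfl) <;> refine Subgroup.mem_centralizer_iff.2 ?_ <;> rintro t (rfl | rfl)
      · rfl
      · exact hc.symm
      · exact hc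
      · rfl
    have := Subgroup.mem_centralizer_iff.1 (hle (hab ▸ mem_top w))
    exact ⟨this _ (Or.inl rfl), this _ (Or.inr rfl)⟩
  rw [_root_.commutator_def, commutator_le]
  intro v _ w _
  refine (QuotientGroup.eq_one_iff _).1 ?_
  show π ⁅v, w⁆ = 1
  rw [map_commutatorElement, commutatorElement_eq_one_iff_mul_comm]
  have hle : closure ({a, b} : Set G) ≤ (centralizer ({π w} : Set (G ⧸ N))).comap π := by
    rw [closure_le]
    rintro s (rfl | rfl) <;> refine Subgroup.mem_centralizer_singleton_iff.2 ?_
    · exact (hgen w).1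
    · exact (hgen w).2
  exact Subgroup.mem_centralizer_singleton_iff.1 (hle (hab ▸ mem_top v))

/-- Two generators, one of them outside the Frattini subgroup prescribed. -/
theorem exists_partner [Finite G] (hG : IsPGroup 2 G) {e : G} (he : e ∉ frattini G)
    (hidx : (frattini G).index = 4) : ∃ a : G, closure ({e, a} : Set G) = ⊤ := by
  classical
  haveI : Fact (Nat.Prime 2) := ⟨Nat.prime_two⟩
  set H := frattini G ⊔ zpowers e
  have hHlt : H ≠ ⊤ := by
    intro h
    have h1 : zpowers e = ⊤ := frattini_nongenerating (by rw [sup_comm]; exact h)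
    haveI : IsCyclic G := ⟨e, fun x => show x ∈ zpowers e by rw [h1]; exact mem_top x⟩
    have h2 : commutator G = ⊥ := by
      rw [_root_.commutator_def, Subgroup.commutator_eq_bot_iff_le_centralizer]
      exact fun u _ => Subgroup.mem_centralizer_iff.2 fun v _ =>
        (IsCyclic.isMulCommutative (α := G)).is_comm.comm v u
    have hN : frattini G ≤ (zpowers (e ^ 2)) := by
      haveI : (zpowers (e ^ 2)).Normal := ⟨fun v hv g => by
        rwa [(IsCyclic.isMulCommutative (α := G)).is_comm.comm g v, mul_inv_cancel_right]⟩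
      refine CfsgLib.PGroups.frattini_le_of_elementary_quotient (p := 2) (h2 ▸ bot_le) fun g => ?_
      obtain ⟨i, rfl⟩ : g ∈ zpowers e := by rw [h1]; exact mem_top g
      refine ⟨i, ?_⟩
      show (e ^ 2) ^ i = (e ^ i) ^ 2
      rw [← zpow_natCast e 2, ← zpow_natCast (e ^ i) 2, ← zpow_mul, ← zpow_mul, mul_comm]
    have h5 : (zpowers (e ^ 2)).index ≤ 2 := by
      have hlt : Nat.card (⊤ : Subgroup G) ≤ 2 * Nat.card (zpowers (e ^ 2)) := by
        rw [← h1, Nat.card_zpowers, Nat.card_zpowers, orderOf_pow' e two_ne_zero]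
        have hg := Nat.gcd_le_right (orderOf e) two_pos
        have hd := Nat.div_mul_cancel (Nat.gcd_dvd_left (orderOf e) 2)
        calc orderOf e = orderOf e / (orderOf e).gcd 2 * (orderOf e).gcd 2 := hd.symm
          _ ≤ orderOf e / (orderOf e).gcd 2 * 2 := Nat.mul_le_mul_left _ hg
          _ = _ := mul_comm _ _
      rw [Subgroup.card_top, ← (zpowers (e ^ 2)).card_mul_index, mul_comm 2] at hlt
      exact Nat.le_of_mul_le_mul_left hlt Nat.card_pos
    have h6 := (zpowers (e ^ 2)).index_dvd_of_le le_rfl
    have h7 := Nat.le_of_dvd (Nat.pos_of_ne_zero Subgroup.FiniteIndex.index_ne_zero)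
      (Subgroup.index_dvd_of_le (le_sup_left : frattini G ≤ frattini G ⊔ zpowers (e ^ 2)))
    have h8 : (frattini G).index ≤ 2 := by
      have hsq : e ^ 2 ∈ frattini G := CfsgLib.PGroups.pow_mem_frattini hG e
      exact (Nat.le_of_dvd (Nat.pos_of_ne_zero Subgroup.FiniteIndex.index_ne_zero)
        (Subgroup.index_dvd_of_le (zpowers_le.2 hsq))).trans h5
    omega
  obtain ⟨a, ha⟩ : ∃ a : G, a ∉ H := by
    by_contra h
    push Not at h
    exact hHlt (eq_top_iff.2 fun x _ => h x)
  refine ⟨a, frattini_nongenerating ?_⟩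
  by_contra hne
  have h1 : frattini G < H := lt_of_le_of_ne le_sup_left fun h =>
    he (h.symm.le (mem_sup_right (mem_zpowers e)))
  have heK : e ∈ closure ({e, a} : Set G) ⊔ frattini G :=
    mem_sup_left (subset_closure (Or.inl rfl))
  have h2 : H < closure ({e, a} : Set G) ⊔ frattini G := lt_of_le_of_ne
    (sup_le le_sup_right (zpowers_le.2 heK))
    fun h => ha (h.symm.le (mem_sup_left (subset_closure (Or.inr rfl))))
  set K := closure ({e, a} : Set G) ⊔ frattini G
  have hpos := Nat.card_pos (α := frattini G)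
  have d1 := Subgroup.card_dvd_of_le h1.le
  have d2 := Subgroup.card_dvd_of_le h2.le
  have d3 := Subgroup.card_subgroup_dvd_card K
  have c1 : Nat.card (frattini G) < Nat.card H := lt_of_le_of_ne (Subgroup.card_le_of_le h1.le)
    fun h => h1.ne (Subgroup.eq_of_le_of_card_ge h1.le h.ge)
  have c2 : Nat.card H < Nat.card K := lt_of_le_of_ne (Subgroup.card_le_of_le h2.le)
    fun h => h2.ne (Subgroup.eq_of_le_of_card_ge h2.le h.ge)
  have c3 : Nat.card K < Nat.card G := lt_of_le_of_ne (Subgroup.card_le_card_group K)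
    fun h => hne (Subgroup.eq_top_of_card_eq K h)
  have hdbl : ∀ {x y : ℕ}, x ∣ y → x < y → 2 * x ≤ y := by
    rintro x y ⟨q, rfl⟩ hxy
    have : 2 ≤ q := by
      rcases q with _ | _ | q
      · simp at hxy
      · simp at hxy
      · omega
    calc 2 * x = x * 2 := mul_comm _ _
      _ ≤ x * q := Nat.mul_le_mul_left x this
  have := hdbl d1 c1
  have := hdbl d2 c2
  have := hdbl d3 c3
  have hc := (frattini G).card_mul_index
  rw [hidx] at hc
  omega

/-- The conjugates of `e` forming a coset make the derived subgroup cyclic. -/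
theorem commutator_isCyclic {e r : G} (hr : ∀ g : G, g * r * g⁻¹ ∈ zpowers r) {a : G}
    (hea : closure ({e, a} : Set G) = ⊤) (hc : ⁅e, a⁆ ∈ zpowers r) :
    IsCyclic ↥(commutator G) := by
  haveI : (zpowers r).Normal := ⟨fun v hv g => by
    obtain ⟨i, rfl⟩ := hv
    show g * r ^ i * g⁻¹ ∈ zpowers r
    rw [← conj_zpow]
    exact zpow_mem (hr g) i⟩
  exact isCyclic_of_injective (Subgroup.inclusion (commutator_le_of_two hea _ hc))
    (Subgroup.inclusion_injective _)

/-- An index two subgroup missing an element outside the Frattini subgroup exists. -/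
theorem exists_index_two [Finite G] (hG : IsPGroup 2 G) {e : G} (he : e ∉ frattini G) :
    ∃ W : Subgroup G, W.index = 2 ∧ e ∉ W := by
  haveI : Fact (Nat.Prime 2) := ⟨Nat.prime_two⟩
  rw [CfsgLib.PGroups.mem_frattini_iff] at he
  push Not at he
  obtain ⟨W, hW, heW⟩ := he
  exact ⟨W, CfsgLib.PGroups.index_eq_of_isCoatom hG hW, heW⟩

/-- Piece 2a. -/
theorem stmtFourChain : StmtFourChain.{u} := by
  intro G _ _ M hS e z τ C h
  classical
  haveI : Fact (Nat.Prime 2) := ⟨Nat.prime_two⟩
  have hG := hS.pgroup
  obtain ⟨hee, hzz, he1, hz1, hne, hcomm, -, hdisj, hcent, hcentral, htz, hte, htC, htsq, hnorm⟩ := h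
  set P := centralizer ({e} : Set G) with hP
  have hPmem : ∀ {p : G}, p ∈ P ↔ Commute p e := fun {p} => Subgroup.mem_centralizer_singleton_iff
  have heE : e ∈ closure ({e, z} : Set G) := subset_closure (Or.inl rfl)
  have hzE : z ∈ closure ({e, z} : Set G) := subset_closure (Or.inr rfl)
  have heP : e ∈ P := hPmem.2 (Commute.refl e)
  have hzP : z ∈ P := hPmem.2 hcomm.symm
  have hPcomm : ∀ p ∈ P, ∀ q ∈ P, Commute p q := hcent ▸ hcentral
  -- squares in the four-group
  have hEsq : ∀ v ∈ closure ({e, z} : Set G), v * v = 1 := by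
    intro v hv
    induction hv using Subgroup.closure_induction with
    | mem x hx => rcases hx with rfl | rfl <;> assumption
    | one => exact one_mul 1
    | mul x y hx hy ihx ihy =>
      have hxy : Commute x y := hPcomm x (hcent.symm ▸ mem_sup_left hx) y
        (hcent.symm ▸ mem_sup_left hy)
      rw [hxy.symm.mul_mul_mul_comm, ihx, ihy, one_mul]
    | inv x _ ihx => rw [← mul_inv_rev, ihx, inv_one]
  have hdecomp : ∀ v ∈ P, ∃ u ∈ closure ({e, z} : Set G), ∃ c ∈ C, v = u * c := by
    intro v hv
    rw [hcent] at hv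
    obtain ⟨u, hu, c, hc, rfl⟩ := (Coprime.mem_sup_iff_of_le_normalizer
      (H := closure ({e, z} : Set G)) (N := C) (by
        refine le_trans ?_ (Subgroup.centralizer_le_normalizer _)
        exact fun u hu => Subgroup.mem_centralizer_iff.2 fun c hc =>
          (hcentral c (mem_sup_right hc) u (mem_sup_left hu)).eq)).1 hv
    exact ⟨u, hu, c, hc, rfl⟩
  have hsq : ∀ v ∈ P, v * v ∈ C := by
    intro v hv
    obtain ⟨u, hu, c, hc, rfl⟩ := hdecomp v hv
    have hcu : Commute c u := hcentral c (mem_sup_right hc) u (mem_sup_left hu)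
    rw [hcu.mul_mul_mul_comm, hEsq u hu, one_mul]
    exact mul_mem hc hc
  -- the two conjugates under the normalizer
  have hN : ∀ n ∈ normalizer (P : Set G), n * e * n⁻¹ = e ∨ n * e * n⁻¹ = e * z := by
    intro n hn
    rw [hcent, hnorm, sup_comm] at hn
    obtain ⟨t, ⟨i, rfl⟩, p, hp, rfl⟩ := (Coprime.mem_sup_iff_of_le_normalizer (zpowers_le.2
      (hnorm ▸ mem_sup_right (mem_zpowers τ)))).1 hn
    rw [← hcent] at hp htsq
    have h1 : τ ^ i * p * e * (τ ^ i * p)⁻¹ = τ ^ i * e * (τ ^ i)⁻¹ := by
      rw [show τ ^ i * p * e * (τ ^ i * p)⁻¹ = τ ^ i * (p * e * p⁻¹) * (τ ^ i)⁻¹ by group,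
        (hPmem.1 hp).eq, mul_inv_cancel_right]
    have h2 : ∀ q : ℤ, τ ^ (2 * q) * e * (τ ^ (2 * q))⁻¹ = e := fun q => by
      rw [zpow_mul, zpow_two, (hPmem.1 (zpow_mem htsq q)).eq, mul_inv_cancel_right]
    show τ ^ i * p * e * (τ ^ i * p)⁻¹ = e ∨ τ ^ i * p * e * (τ ^ i * p)⁻¹ = e * z
    rw [h1]
    rcases Int.even_or_odd' i with ⟨q, rfl | rfl⟩
    · exact Or.inl (h2 q)
    · right
      rw [show τ ^ (2 * q + 1) * e * (τ ^ (2 * q + 1))⁻¹ =
        τ * (τ ^ (2 * q) * e * (τ ^ (2 * q))⁻¹) * τ⁻¹ by group, h2, hte]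
  -- `e` lies outside the Frattini subgroup
  have heW : e ∉ frattini G := by
    intro heW
    set W := frattini G with hW
    haveI : W.Normal := hW ▸ inferInstance
    have hzW : z ∈ W := by
      have := Subgroup.Normal.conj_mem inferInstance e heW τ
      rw [hte] at this
      simpa [← mul_assoc, hee] using mul_mem heW this
    have hCW : ∀ c ∈ C, c ∈ W → c = 1 := by
      intro c hc hcW
      by_contra hc1
      obtain ⟨u, hu, hu1, hu2⟩ := exists_involution hG hc1
      have huC : u ∈ C := zpowers_le.2 hc hu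
      have huW : u ∈ W := zpowers_le.2 hcW hu
      let D : Subgroup G :=
        { carrier := {v | v ∈ P ∧ v ∈ W ∧ v * v = 1}
          one_mem' := ⟨one_mem _, one_mem _, one_mul 1⟩
          mul_mem' := fun {v w} hv hw => ⟨mul_mem hv.1 hw.1, mul_mem hv.2.1 hw.2.1, by
            rw [(hPcomm w hw.1 v hv.1).mul_mul_mul_comm, hv.2.2, hw.2.2, one_mul]⟩
          inv_mem' := fun {v} hv => ⟨inv_mem hv.1, inv_mem hv.2.1, by
            rw [← mul_inv_rev, hv.2.2, inv_one]⟩ }
      have hDW : D ≤ W := fun v hv => hv.2.1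
      have h4 := card_le_four (CfsgLib.Fusion.MetacyclicTwo.isMetacyclic_subgroup hS.frattini_meta (D.subgroupOf W))
        ((Subgroup.subgroupOfEquivOfLe hDW).toMonoidHom)
        (Subgroup.subgroupOfEquivOfLe hDW).surjective
        fun t => Subtype.ext t.2.2.2
      have huP : u ∈ P := hcent.symm ▸ mem_sup_right huC
      have huE : ∀ w ∈ closure ({e, z} : Set G), u ≠ w := by
        rintro w hw rfl
        exact hu1 (Subgroup.mem_bot.1 (hdisj ▸ ⟨hw, huC⟩ : u ∈ (⊥ : Subgroup G)))
      letI : Fintype D := Fintype.ofFinite _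
      let f : Fin 5 → D := ![1, ⟨e, heP, heW, hee⟩, ⟨z, hzP, hzW, hzz⟩,
        ⟨e * z, mul_mem heP hzP, mul_mem heW hzW, hEsq _ (mul_mem heE hzE)⟩, ⟨u, huP, huW, hu2⟩]
      have hf : Function.Injective f := by
        have n1 : e * z ≠ 1 := fun h => hne (by
          rw [← mul_one e, ← hzz, ← mul_assoc, h, one_mul])
        have n2 : e * z ≠ e := fun h => hz1 (mul_eq_left.1 h)
        have n3 : e * z ≠ z := fun h => he1 (mul_eq_right.1 h)
        have m1 := huE _ heE
        have m2 := huE _ hzE
        have m3 := huE _ (mul_mem heE hzE)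
        intro i j hij
        fin_cases i <;> fin_cases j <;>
          simp [f, Subtype.ext_iff, he1, hz1, hne, hne.symm, n1, n2, n3, m1, m2, m3, hu1,
            Ne.symm he1, Ne.symm hz1, Ne.symm n1, Ne.symm n2, Ne.symm n3, Ne.symm m1, Ne.symm m2,
            Ne.symm m3, Ne.symm hu1] at hij ⊢
      have := Nat.card_le_card_of_injective f hf
      rw [Nat.card_fin] at this
      omega
    have hCWE : ∀ v ∈ W, v ∈ P → v ∈ closure ({e, z} : Set G) := by
      intro v hvW hvP
      obtain ⟨u, hu, c, hc, rfl⟩ := hdecomp v hvP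
      have huW : u ∈ W := (closure_le W).2 (by rintro w (rfl | rfl) <;> assumption) hu
      rw [hCW c hc (by simpa using mul_mem (inv_mem huW) hvW), mul_one]
      exact hu
    by_cases hcen : ∀ w ∈ W, Commute w e
    · -- `W = E`
      have hg : ∀ g : G, g ∈ normalizer (P : Set G) := by
        intro g
        have hE' : ∀ v ∈ W, v ∈ closure ({e, z} : Set G) := fun v hv =>
          hCWE v hv (hPmem.2 (hcen v hv))
        have hge := hE' _ (Subgroup.Normal.conj_mem inferInstance e heW g)
        refine Subgroup.mem_normalizer_iff_map_conj_eq.2 (Subgroup.eq_of_le_of_card_ge ?_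
          (Nat.card_congr (equivMapOfInjective _ _ (MulAut.conj g).injective).toEquiv).le)
        rintro _ ⟨p, hp, rfl⟩
        have hpE : ∀ w ∈ closure ({e, z} : Set G), Commute p w := fun w hw =>
          hPcomm p hp w (hcent.symm ▸ mem_sup_left hw)
        have h' : Commute p (g⁻¹ * e * g) := hpE _ (hE' _ (by
          simpa using Subgroup.Normal.conj_mem inferInstance e heW g⁻¹))
        have := h'.map (MulAut.conj g)
        refine hPmem.2 ?_
        simpa [mul_assoc] using this
      have hsqc : ∀ g : G, g * g ∈ center G := by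
        have hP1 : ∀ p ∈ P, p * p = 1 := fun p hp => hCW _ (hsq p hp)
          (by rw [← pow_two]; exact CfsgLib.PGroups.pow_mem_frattini hG p)
        have hgen : ∀ v ∈ P, τ * v = v * τ → v ∈ center G := by
          intro v hv htv
          refine Subgroup.mem_center_iff.2 fun g => ?_
          have hg' := hg g
          rw [hcent, hnorm, sup_comm] at hg'
          obtain ⟨t, ⟨i, rfl⟩, p, hp, rfl⟩ := (Coprime.mem_sup_iff_of_le_normalizer (zpowers_le.2
            (hnorm ▸ mem_sup_right (mem_zpowers τ)))).1 hg'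
          rw [← hcent] at hp
          exact ((Commute.zpow_left htv i).mul_left (hPcomm p hp v hv)).eq
        intro g
        have hg' := hg g
        rw [hcent, hnorm, sup_comm] at hg'
        obtain ⟨t, ⟨i, rfl⟩, p, hp, rfl⟩ := (Coprime.mem_sup_iff_of_le_normalizer (zpowers_le.2
          (hnorm ▸ mem_sup_right (mem_zpowers τ)))).1 hg'
        rw [← hcent] at hp htsq
        show τ ^ i * p * (τ ^ i * p) ∈ center G
        rcases Int.even_or_odd' i with ⟨q, rfl | rfl⟩
        · have hw : τ ^ (2 * q) * p ∈ P := by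
            rw [zpow_mul, zpow_two]; exact mul_mem (zpow_mem htsq q) hp
          rw [hP1 _ hw]; exact one_mem _
        · have hw : (τ * τ) ^ q * p ∈ P := mul_mem (zpow_mem htsq q) hp
          have hτp : ∀ v ∈ P, τ * v * τ⁻¹ ∈ P := fun v hv =>
            (Subgroup.mem_normalizer_iff.1 (hg τ) v).1 hv
          rw [show τ ^ (2 * q + 1) * p = τ * ((τ * τ) ^ q * p) by
            rw [add_comm, zpow_add, zpow_one, zpow_mul, zpow_two, mul_assoc]]
          set w := (τ * τ) ^ q * p
          refine hgen _ ?_ ?_
          · rw [show τ * w * (τ * w) = τ * w * τ⁻¹ * (τ * τ) * w by group]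
            exact mul_mem (mul_mem (hτp w hw) htsq) hw
          · have c1 : w * (τ * τ) = τ * τ * w := (hPcomm w hw _ htsq).eq
            have c2 : Commute (τ * w * τ⁻¹) w := hPcomm _ (hτp w hw) w hw
            calc τ * (τ * w * (τ * w)) = (τ * τ * w) * (τ * w * τ⁻¹) * τ := by group
              _ = (w * (τ * τ)) * (τ * w * τ⁻¹) * τ := by rw [c1]
              _ = w * ((τ * τ) * (τ * w * τ⁻¹)) * τ := by simp only [mul_assoc]
              _ = w * ((τ * w * τ⁻¹) * (τ * τ)) * τ := by rw [(hPcomm _ htsq _ (hτp w hw)).eq]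
              _ = (w * (τ * w * τ⁻¹)) * (τ * τ) * τ := by simp only [mul_assoc]
              _ = ((τ * w * τ⁻¹) * w) * (τ * τ) * τ := by rw [c2.eq]
              _ = (τ * w * τ⁻¹) * (w * (τ * τ)) * τ := by simp only [mul_assoc]
              _ = (τ * w * τ⁻¹) * (τ * τ * w) * τ := by rw [c1]
              _ = τ * w * (τ * w) * τ := by group
      have hle : frattini G ≤ center G := by
        refine CfsgLib.PGroups.frattini_le_of_elementary_quotient (p := 2) ?_
          fun g => by rw [pow_two]; exact hsqc g
        rw [_root_.commutator_def, commutator_le]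
        intro a _ b _
        refine (QuotientGroup.eq_one_iff _).1 ?_
        show QuotientGroup.mk' (center G) ⁅a, b⁆ = 1
        have hsq' : ∀ v : G ⧸ center G, v⁻¹ = v := fun v => by
          induction v using QuotientGroup.induction_on with
          | _ g => exact inv_eq_of_mul_eq_one_left ((QuotientGroup.eq_one_iff _).2 (hsqc g))
        rw [map_commutatorElement, commutatorElement_eq_one_iff_mul_comm]
        conv_rhs => rw [← hsq' (_ * _), mul_inv_rev, hsq', hsq']
      have := Subgroup.mem_center_iff.1 (hle heW) τ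
      rw [this, mul_inv_cancel_right] at hte
      exact hz1 (left_eq_mul.1 hte)
    · push Not at hcen
      obtain ⟨w₀, hw₀, hw₀e⟩ := hcen
      have h4 : 4 ≤ Nat.card W := by
        have h5 : Nat.card (closure ({e, z} : Set G)) ≤ Nat.card W :=
          Subgroup.card_le_of_le ((closure_le W).2 (by rintro w (rfl | rfl) <;> assumption))
        have h6 : 3 ≤ Nat.card (closure ({e, z} : Set G)) := by
          let f : Fin 3 → closure ({e, z} : Set G) := ![1, ⟨e, heE⟩, ⟨z, hzE⟩]
          have hf : Function.Injective f := by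
            intro i j hij
            fin_cases i <;> fin_cases j <;>
              simp [f, Subtype.ext_iff, he1, hz1, hne, hne.symm, Ne.symm he1, Ne.symm hz1] at hij ⊢
          simpa using Nat.card_le_card_of_injective f hf
        obtain ⟨k, hk⟩ := IsPGroup.iff_card.1 (hG.to_subgroup W)
        rcases k with _ | _ | k
        · rw [pow_zero] at hk; omega
        · rw [zero_add, pow_one] at hk; omega
        · rw [hk]
          calc 4 = 2 ^ 2 := by norm_num
            _ ≤ _ := Nat.pow_le_pow_right two_pos (by omega)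
      have hZ := four_le_center hG W le_rfl h4
      have hsub : ∀ v : center W, (((v : W) : G) = 1 ∨ ((v : W) : G) = z) := by
        intro v
        have hv : ∀ w ∈ W, Commute w ((v : W) : G) := fun w hw =>
          congrArg Subtype.val (Subgroup.mem_center_iff.1 v.2 ⟨w, hw⟩)
        have hvE := hCWE _ (v : W).2 (hPmem.2 (hv e heW).symm)
        have hor : ∀ x ∈ closure ({e, z} : Set G), x = 1 ∨ x = e ∨ x = z ∨ x = e * z := by
          intro x hx
          induction hx using Subgroup.closure_induction with
          | mem x hx => rcases hx with rfl | rfl <;> simp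
          | one => exact Or.inl rfl
          | mul x y _ _ ihx ihy =>
            have hze : z * e = e * z := hcomm.eq.symm
            have k1 : e * (e * z) = z := by rw [← mul_assoc, hee, one_mul]
            have k2 : z * (e * z) = e := by rw [← mul_assoc, hze, mul_assoc, hzz, mul_one]
            have k3 : e * z * e = z := by rw [mul_assoc, hze, k1]
            have k4 : e * z * z = e := by rw [mul_assoc, hzz, mul_one]
            have k5 : e * z * (e * z) = 1 := by rw [← mul_assoc, k3, hzz]
            rcases ihx with rfl | rfl | rfl | rfl <;> rcases ihy with rfl | rfl | rfl | rfl <;>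
              simp [hee, hzz, hze, k1, k2, k3, k4, k5]
          | inv x hx ihx =>
            rw [inv_eq_of_mul_eq_one_left (hEsq x hx)]; exact ihx
        rcases hor _ hvE with h | h | h | h
        · exact Or.inl h
        · exact absurd (h ▸ hv w₀ hw₀ : Commute w₀ e) hw₀e
        · exact Or.inr h
        · exfalso
          -- `z` is central in `W` as `v * e`
          have h7 : Commute w₀ ((v : W) : G) := hv w₀ hw₀
          rw [h] at h7
          have h9 := hv (τ * w₀ * τ⁻¹) (Subgroup.Normal.conj_mem inferInstance w₀ hw₀ τ)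
          rw [h, ← hte] at h9
          have := h9.map (MulAut.conj τ⁻¹)
          simp [mul_assoc] at this
          exact hw₀e this
      let g : center W → Fin 2 := fun v => if ((v : W) : G) = z then 1 else 0
      have hg : Function.Injective g := by
        intro v v' hvv
        refine Subtype.ext (Subtype.ext ?_)
        rcases hsub v with h | h <;> rcases hsub v' with h' | h' <;>
          simp [g, h, h', Ne.symm hz1] at hvv ⊢
      have := Nat.card_le_card_of_injective g hg
      rw [Nat.card_fin] at this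
      omega
  -- the coset and the conclusion
  obtain ⟨r, hr, hr1, hr2⟩ := coset_top hG hee hzz hz1 hcomm.symm
    (fun v hv hvz => hz1 (Subgroup.mem_bot.1 (hdisj ▸
      (⟨hzE, hvz ▸ hsq v (hPmem.2 hv)⟩ : z ∈ closure ({e, z} : Set G) ⊓ C))))
    (fun p hp q hq => hPcomm p (hPmem.2 hp) q (hPmem.2 hq)) hN
    ⟨τ, by rw [← hP, hcent, hnorm]; exact mem_sup_right (mem_zpowers τ), hte⟩
  obtain ⟨a, hea⟩ := exists_partner hG heW hS.frattini_index
  refine commutator_isCyclic (r := r) (fun g => ?_) hea ?_
  · obtain ⟨h, -, hh⟩ := hr2 1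
    obtain ⟨i, hi⟩ := hr1 (g * h) (mem_top _)
    obtain ⟨j, hj⟩ := hr1 g (mem_top _)
    refine ⟨-j + i, ?_⟩
    show r ^ (-j + i) = g * r * g⁻¹
    rw [show g * r * g⁻¹ = (g * e * g⁻¹)⁻¹ * (g * (e * r ^ (1 : ℤ)) * g⁻¹) by group, ← hh,
      show g * (h * e * h⁻¹) * g⁻¹ = (g * h) * e * (g * h)⁻¹ by group, hi, hj]
    group
  · obtain ⟨i, hi⟩ := hr1 a (mem_top _)
    refine ⟨i, ?_⟩
    show r ^ i = ⁅e, a⁆
    rw [commutatorElement_def, inv_eq_of_mul_eq_one_left hee,
      show e * a * e * a⁻¹ = e * (a * e * a⁻¹) by group, hi, ← mul_assoc, hee, one_mul]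

end CfsgLib.Bicyclic.Chain
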