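import Cfsg.Agent.Lib.Bicyclic.ChainFour

/-!
# Piece 2b: a quaternion datum makes the derived subgroup cyclic
-/

set_option autoImplicit false
set_option linter.unusedSectionVars false
set_option linter.style.haveILetI false

namespace CfsgLib.Bicyclic.Chain

open Cfsg Subgroup
open scoped commutatorElement

universe u

variable {G : Type u} [Group G]

/-- Elements generated by pairwise commuting elements commute. -/
theorem commute_of_closure {T : Set G} (hT : ∀ s ∈ T, ∀ t ∈ T, Commute s t) :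
    ∀ p ∈ closure T, ∀ q ∈ closure T, Commute p q := by
  have h1 : closure T ≤ centralizer T :=
    (closure_le _).2 fun s hs => Subgroup.mem_centralizer_iff.2 fun t ht => (hT t ht s hs).eq
  have h2 : closure T ≤ centralizer ((closure T : Subgroup G) : Set G) :=
    (closure_le _).2 fun s hs => Subgroup.mem_centralizer_iff.2 fun t ht =>
      (Subgroup.mem_centralizer_iff.1 (h1 ht) s hs).symm
  exact fun p hp q hq => (Subgroup.mem_centralizer_iff.1 (h2 hq) p hp)

theorem quat_facts [Finite G] {i j : G} (ho : orderOf i = 4) (hsq : j * j = i * i)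
    (hinv : j * i * j⁻¹ = i⁻¹) :
    i * i ≠ 1 ∧ i * i * (i * i) = 1 ∧ i⁻¹ = i * (i * i) ∧ i * j ≠ j * i ∧
      (i * j) * (i * j) = i * i := by
  have h4 : i ^ 4 = 1 := by rw [← ho, pow_orderOf_eq_one]
  have hne : i * i ≠ 1 := fun h => by
    have := Nat.le_of_dvd two_pos (orderOf_dvd_of_pow_eq_one (by rwa [pow_two] : i ^ 2 = 1))
    omega
  have hzz : i * i * (i * i) = 1 := by rw [← h4]; simp [pow_succ, mul_assoc]
  have hi : i⁻¹ = i * (i * i) := inv_eq_of_mul_eq_one_left (by rw [← hzz]; group)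
  refine ⟨hne, hzz, hi, fun h => hne ?_, ?_⟩
  · have h2 : j * i * j⁻¹ = i := by rw [← h, mul_inv_cancel_right]
    rw [h2] at hinv
    nth_rw 1 [hinv]
    exact inv_mul_cancel i
  · calc (i * j) * (i * j) = i * (j * i * j⁻¹) * (j * j) := by group
      _ = i * i := by rw [hinv, hsq, mul_inv_cancel, one_mul]

/-- `i` lies outside the Frattini subgroup. -/
theorem quat_not_mem_frattini [Finite G] {M : Subgroup G} (hS : Shape G M) {i j τ : G}
    (h : QuatData G i j τ) : i ∉ frattini G := by
  intro hiW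
  classical
  haveI : Fact (Nat.Prime 2) := ⟨Nat.prime_two⟩
  have hG := hS.pgroup
  obtain ⟨ho, hsq, hinv, -, -, hti, -, -, -⟩ := h
  obtain ⟨hne, hzz, hi, hnc, hij2⟩ := quat_facts ho hsq hinv
  set W := frattini G with hW
  haveI : W.Normal := hW ▸ inferInstance
  have hjW : j ∈ W := hti ▸ Subgroup.Normal.conj_mem inferInstance i hiW τ
  set z := i * i with hz
  have hzW : z ∈ W := mul_mem hiW hiW
  set C := quatCent i j
  have hC : ∀ {v : G}, v ∈ C ↔ Commute v i ∧ Commute v j := by
    intro v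
    rw [show C = centralizer ({i, j} : Set G) from rfl, Subgroup.mem_centralizer_iff]
    exact ⟨fun h => ⟨(h i (Or.inl rfl)).symm, (h j (Or.inr rfl)).symm⟩,
      fun h w hw => by rcases hw with rfl | rfl; exacts [h.1.eq.symm, h.2.eq.symm]⟩
  have hzi : Commute z i := (Commute.refl i).mul_left (Commute.refl i)
  have hzj : Commute z j := hsq ▸ (Commute.refl j).mul_left (Commute.refl j)
  by_cases hx : ∃ x ∈ C, x ∈ W ∧ x ≠ 1 ∧ x ≠ z ∧ (x * x = 1 ∨ x * x = z)
  · obtain ⟨x, hxC, hxW, hx1, hxz, hxx⟩ := hx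
    set S := closure ({i, j, x} : Set G) with hSdef
    have hSW : S ≤ W := (closure_le W).2 (by rintro w (rfl | rfl | rfl) <;> assumption)
    have hzS : z ∈ S := mul_mem (subset_closure (Or.inl rfl)) (subset_closure (Or.inl rfl))
    set Z : Subgroup S := zpowers (⟨z, hzS⟩ : S)
    have hzc : ∀ s ∈ S, Commute s z := fun s hs => by
      refine Subgroup.mem_centralizer_singleton_iff.1 ((closure_le (centralizer {z})).2 ?_ hs)
      rintro w (rfl | rfl | rfl) <;> refine Subgroup.mem_centralizer_singleton_iff.2 ?_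
      · exact hzi.symm.eq
      · exact hzj.symm.eq
      · exact (((hC.1 hxC).1).mul_right (hC.1 hxC).1).eq
    haveI : Z.Normal := ⟨fun v hv g => by
      obtain ⟨k, rfl⟩ := hv
      refine ⟨k, Subtype.ext ?_⟩
      show ((⟨z, hzS⟩ : S) ^ k : S).val = g * ((⟨z, hzS⟩ : S) ^ k : S).val * (g : G)⁻¹
      rw [Subgroup.coe_zpow, ((hzc g g.2).zpow_right k).eq, mul_inv_cancel_right]⟩
    set π := QuotientGroup.mk' Z
    have hZmem : ∀ v : S, v ∈ Z → (v : G) = 1 ∨ (v : G) = z := by
      rintro v ⟨k, rfl⟩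
      show ((⟨z, hzS⟩ : S) ^ k : S).val = 1 ∨ ((⟨z, hzS⟩ : S) ^ k : S).val = z
      rw [Subgroup.coe_zpow]
      rcases Int.even_or_odd' k with ⟨q, rfl | rfl⟩
      · left; rw [zpow_mul, zpow_two, hzz, one_zpow]
      · right; rw [zpow_add, zpow_mul, zpow_two, hzz, one_zpow, zpow_one, one_mul]
    let iS : S := ⟨i, subset_closure (Or.inl rfl)⟩
    let jS : S := ⟨j, subset_closure (Or.inr (Or.inl rfl))⟩
    let xS : S := ⟨x, subset_closure (Or.inr (Or.inr rfl))⟩
    have hπ1 : ∀ v : S, ((v : G) = 1 ∨ (v : G) = z) → π v = 1 := fun v hv => by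
      refine (QuotientGroup.eq_one_iff v).2 ?_
      rcases hv with h | h
      · rw [show v = 1 from Subtype.ext h]; exact one_mem _
      · rw [show v = ⟨z, hzS⟩ from Subtype.ext h]; exact mem_zpowers _
    have hgen : closure ({iS, jS, xS} : Set S) = ⊤ := by
      refine Subgroup.map_injective S.subtype_injective ?_
      rw [MonoidHom.map_closure, ← MonoidHom.range_eq_map, Subgroup.range_subtype]
      simp [Set.image_insert_eq, iS, jS, xS, ← hSdef]
    have hcl : closure (π '' {iS, jS, xS}) = ⊤ := by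
      rw [← MonoidHom.map_closure, hgen,
        Subgroup.map_top_of_surjective π (QuotientGroup.mk'_surjective Z)]
    have hcomm : ∀ p q : S ⧸ Z, Commute p q := by
      have hgc : ∀ s ∈ π '' {iS, jS, xS}, ∀ t ∈ π '' {iS, jS, xS}, Commute s t := by
        have hk : ∀ a b : S, ((⁅a, b⁆ : S) : G) = 1 ∨ ((⁅a, b⁆ : S) : G) = z → Commute (π a) (π b) :=
          fun a b h => by
            rw [← commutatorElement_eq_one_iff_commute, ← map_commutatorElement]
            exact hπ1 _ h
        have hij : Commute (π iS) (π jS) := hk iS jS (Or.inr (by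
          show i * j * i⁻¹ * j⁻¹ = z
          rw [show i * j * i⁻¹ * j⁻¹ = i * (j * i * j⁻¹)⁻¹ by group, hinv, inv_inv]))
        have hix : Commute (π iS) (π xS) := hk iS xS (Or.inl (by
          show i * x * i⁻¹ * x⁻¹ = 1
          rw [(hC.1 hxC).1.symm.eq]; group))
        have hjx : Commute (π jS) (π xS) := hk jS xS (Or.inl (by
          show j * x * j⁻¹ * x⁻¹ = 1
          rw [(hC.1 hxC).2.symm.eq]; group))
        rintro _ ⟨a, ha, rfl⟩ _ ⟨b, hb, rfl⟩
        rcases ha with rfl | rfl | rfl <;> rcases hb with rfl | rfl | rfl <;>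
          first
          | exact Commute.refl _
          | assumption
          | exact hij.symm
          | exact hix.symm
          | exact hjx.symm
      exact fun p q => commute_of_closure hgc p (hcl ▸ mem_top p) q (hcl ▸ mem_top q)
    have hexp : ∀ t : S ⧸ Z, t * t = 1 := by
      intro t
      have ht : t ∈ closure (π '' {iS, jS, xS}) := hcl ▸ mem_top t
      induction ht using Subgroup.closure_induction with
      | mem w hw =>
        obtain ⟨a, ha, rfl⟩ := hw
        rw [← map_mul]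
        refine hπ1 _ ?_
        rcases ha with rfl | rfl | rfl
        · exact Or.inr rfl
        · exact Or.inr hsq
        · exact hxx
      | one => exact one_mul 1
      | mul a b _ _ iha ihb => rw [(hcomm b a).mul_mul_mul_comm, iha, ihb, one_mul]
      | inv a _ iha => rw [← mul_inv_rev, iha, inv_one]
    have h4 := card_le_four (CfsgLib.Fusion.MetacyclicTwo.isMetacyclic_subgroup hS.frattini_meta
      (S.subgroupOf W)) (π.comp (Subgroup.subgroupOfEquivOfLe hSW).toMonoidHom)
      ((QuotientGroup.mk'_surjective Z).comp (Subgroup.subgroupOfEquivOfLe hSW).surjective) hexp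
    let f : Fin 5 → S := ![1, iS, jS, iS * jS, xS]
    have hf : Function.Injective fun k => π (f k) := by
      intro a b hab
      have hmem : ((f a : S) : G)⁻¹ * (f b : S) = 1 ∨ ((f a : S) : G)⁻¹ * (f b : S) = z :=
        hZmem _ (QuotientGroup.eq.1 hab)
      have hab' : ((f b : S) : G) = (f a : S) ∨ ((f b : S) : G) = (f a : S) * z := by
        rcases hmem with h | h
        · exact Or.inl (inv_mul_eq_one.1 h).symm
        · exact Or.inr (inv_mul_eq_iff_eq_mul.1 h)
      -- commutation with `i` and `j` separates the five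
      have key : ∀ v w : G, (w = v ∨ w = v * z) →
          (Commute v i ↔ Commute w i) ∧ (Commute v j ↔ Commute w j) := by
        rintro v w (rfl | rfl)
        · exact ⟨Iff.rfl, Iff.rfl⟩
        · exact ⟨⟨fun h => h.mul_left hzi, fun h => by
            simpa using h.mul_left hzi.inv_left⟩, ⟨fun h => h.mul_left hzj, fun h => by
            simpa using h.mul_left hzj.inv_left⟩⟩
      obtain ⟨ki, kj⟩ := key _ _ hab'
      have e1 : ¬ Commute j i := fun h => hnc h.eq.symm
      have e2 : ¬ Commute i j := fun h => hnc h.eq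
      have e3 : ¬ Commute (i * j) i := fun h => e1 (by
        simpa using ((Commute.refl i).inv_left).mul_left h)
      have e4 : ¬ Commute (i * j) j := fun h => e2 (by
        simpa using h.mul_left (Commute.refl j).inv_left)
      have e5 := (hC.1 hxC).1
      have e6 := (hC.1 hxC).2
      fin_cases a <;> fin_cases b <;>
        simp [f, iS, jS, xS, e1, e2, e3, e4, e5, e6, hx1, hxz] at ki kj hab' ⊢
      all_goals
        rcases hab' with h | h
        · exact hx1 h.symm
        · exact hxz (by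
            first
            | exact h.trans (one_mul z)
            | exact (eq_inv_of_mul_eq_one_left h.symm).trans (inv_eq_of_mul_eq_one_left hzz))
    have := Nat.card_le_card_of_injective _ hf
    rw [Nat.card_fin] at this
    omega
  · push Not at hx
    have hcl : ∀ (n : ℕ) (x : G), x ∈ C → x ∈ W → x ^ 2 ^ n = 1 → x = 1 ∨ x = z := by
      intro n
      induction n with
      | zero => intro x _ _ h; exact Or.inl (by simpa using h)
      | succ n ih =>
        intro x hxC hxW h
        by_contra hne'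
        push Not at hne'
        obtain ⟨h1, h2⟩ := hne'
        rcases ih (x * x) (mul_mem hxC hxC) (mul_mem hxW hxW)
          (by rw [← pow_two, ← pow_mul, ← pow_succ']; exact h) with h' | h'
        · exact (hx x hxC hxW h1 h2).1 h'
        · exact (hx x hxC hxW h1 h2).2 h'
    have h4 : 4 ≤ Nat.card W := by
      rw [← ho, ← Nat.card_zpowers]
      exact Subgroup.card_le_of_le (zpowers_le.2 hiW)
    have hZ := four_le_center hG W le_rfl h4
    let g : center W → Fin 2 := fun v => if ((v : W) : G) = z then 1 else 0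
    have hsub : ∀ v : center W, ((v : W) : G) = 1 ∨ ((v : W) : G) = z := by
      intro v
      obtain ⟨n, hn⟩ := hG ((v : W) : G)
      refine hcl n _ (hC.2 ⟨?_, ?_⟩) (v : W).2 hn
      · exact (congrArg Subtype.val (Subgroup.mem_center_iff.1 v.2 ⟨i, hiW⟩)).symm
      · exact (congrArg Subtype.val (Subgroup.mem_center_iff.1 v.2 ⟨j, hjW⟩)).symm
    have hg : Function.Injective g := by
      intro v v' hvv
      refine Subtype.ext (Subtype.ext ?_)
      rcases hsub v with h | h <;> rcases hsub v' with h' | h' <;>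
        simp [g, h, h', Ne.symm hne] at hvv ⊢
    have := Nat.card_le_card_of_injective g hg
    rw [Nat.card_fin] at this
    omega

/-- Piece 2b. -/
theorem stmtQuatChain : StmtQuatChain.{u} := by
  intro G _ _ M hS i j τ h
  classical
  haveI : Fact (Nat.Prime 2) := ⟨Nat.prime_two⟩
  have hG := hS.pgroup
  have hiW := quat_not_mem_frattini hS h
  obtain ⟨ho, hsq, hinv, ⟨w, hw, hCeq⟩, hNi, hti, htj, htsq, hnorm⟩ := h
  obtain ⟨hne, hzz, hi, hnc, hij2⟩ := quat_facts ho hsq hinv
  obtain ⟨z, hz⟩ : ∃ z, z = i * i := ⟨_, rfl⟩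
  rw [← hz] at hne hzz hi hij2 hsq hCeq
  have hzi : Commute z i := hz ▸ (Commute.refl i).mul_left (Commute.refl i)
  have hzj : Commute z j := hsq ▸ (Commute.refl j).mul_left (Commute.refl j)
  have hji : j * i = i * z * j := by
    rw [show i * z = i⁻¹ by rw [hi, hz], ← hinv, inv_mul_cancel_right]
  set U := centralizer ({z} : Set G) with hU
  have hUm : ∀ {v : G}, v ∈ U ↔ Commute v z := fun {v} => Subgroup.mem_centralizer_singleton_iff
  set C := quatCent i j with hCdef
  have hC : ∀ {v : G}, v ∈ C ↔ Commute v i ∧ Commute v j := by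
    intro v
    rw [show C = centralizer ({i, j} : Set G) from rfl, Subgroup.mem_centralizer_iff]
    exact ⟨fun h => ⟨(h i (Or.inl rfl)).symm, (h j (Or.inr rfl)).symm⟩,
      fun h w hw => by rcases hw with rfl | rfl; exacts [h.1.eq.symm, h.2.eq.symm]⟩
  have hCc : ∀ p ∈ C, ∀ q ∈ C, Commute p q := by
    have hCle : C ≤ closure ({z, w} : Set G) := hCeq.le.trans (sup_le
      (zpowers_le.2 (subset_closure (Or.inl rfl))) (zpowers_le.2 (subset_closure (Or.inr rfl))))
    have hwz : Commute w z := hz ▸ (hC.1 hw).1.mul_right (hC.1 hw).1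
    intro p hp q hq
    refine commute_of_closure (T := {z, w}) ?_ p (hCle hp) q (hCle hq)
    rintro s (rfl | rfl) t (rfl | rfl) <;>
      first | exact Commute.refl _ | exact hwz | exact hwz.symm
  have hCU : ∀ c ∈ C, c ∈ U := fun c hc => hUm.2 (hz ▸ (hC.1 hc).1.mul_right (hC.1 hc).1)
  set P := quatProd i j with hPdef
  have hPle : P ≤ U := sup_le ((closure_le U).2 (by
    rintro v (rfl | rfl)
    · exact hUm.2 hzi.symm
    · exact hUm.2 hzj.symm)) hCU
  have hzU : z ∈ U := hUm.2 (Commute.refl z)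
  have hiU : i ∈ U := hUm.2 hzi.symm
  have hjU : j ∈ U := hUm.2 hzj.symm
  have hτU : τ ∈ U := by
    refine hUm.2 (mul_inv_eq_iff_eq_mul.1 ?_)
    calc τ * z * τ⁻¹ = (τ * i * τ⁻¹) * (τ * i * τ⁻¹) := by rw [hz]; group
      _ = z := by rw [hti, hsq]
  set Z : Subgroup U := zpowers (⟨z, hzU⟩ : U)
  haveI : Z.Normal := ⟨fun v hv g => by
    obtain ⟨k, rfl⟩ := hv
    refine ⟨k, Subtype.ext ?_⟩
    show ((⟨z, hzU⟩ : U) ^ k : U).val = g * ((⟨z, hzU⟩ : U) ^ k : U).val * (g : G)⁻¹
    rw [Subgroup.coe_zpow, ((hUm.1 g.2).zpow_right k).eq, mul_inv_cancel_right]⟩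
  set π := QuotientGroup.mk' Z
  have hπs : Function.Surjective π := QuotientGroup.mk'_surjective Z
  have hπ : ∀ u v : U, π u = π v → (v : G) = u ∨ (v : G) = u * z := by
    intro u v huv
    obtain ⟨k, hk⟩ := QuotientGroup.eq.1 huv
    have hk' : z ^ k = (u : G)⁻¹ * v := congrArg Subtype.val hk
    rcases Int.even_or_odd' k with ⟨q, rfl | rfl⟩
    · rw [zpow_mul, zpow_two, hzz, one_zpow] at hk'
      exact Or.inl (inv_mul_eq_one.1 hk'.symm).symm
    · rw [zpow_add, zpow_mul, zpow_two, hzz, one_zpow, zpow_one, one_mul] at hk'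
      exact Or.inr (inv_mul_eq_iff_eq_mul.1 hk'.symm)
  have hπz : π ⟨z, hzU⟩ = 1 := (QuotientGroup.eq_one_iff _).2 (mem_zpowers _)
  have hπeq : ∀ u v : U, ((v : G) = u ∨ (v : G) = u * z) → π v = π u := by
    rintro u v (h | h)
    · rw [Subtype.ext h]
    · rw [show v = u * ⟨z, hzU⟩ from Subtype.ext h, map_mul, hπz, mul_one]
  let iU : U := ⟨i, hiU⟩
  let jU : U := ⟨j, hjU⟩
  let τU : U := ⟨τ, hτU⟩
  have hee : π iU * π iU = 1 := by
    rw [← map_mul, hπeq 1 (iU * iU) (Or.inr (by show i * i = 1 * z; rw [hz, one_mul])), map_one]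
  have hjj : π jU * π jU = 1 := by
    rw [← map_mul, hπeq 1 (jU * jU) (Or.inr (by show j * j = 1 * z; rw [hsq, one_mul])), map_one]
  have hij : Commute (π iU) (π jU) := by
    rw [commute_iff_eq, ← map_mul, ← map_mul]
    refine (hπeq (iU * jU) (jU * iU) (Or.inr ?_)).symm
    show j * i = i * j * z
    rw [hji, mul_assoc i z j, hzj.eq, ← mul_assoc]
  -- the image of `P`
  have hPcl : ∀ u : U, (u : G) ∈ P → ∃ c : U, (c : G) ∈ C ∧
      (π u = π c ∨ π u = π iU * π c ∨ π u = π jU * π c ∨ π u = π iU * π jU * π c) := by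
    let K : Subgroup G :=
      { carrier := {v | ∃ hv : v ∈ U, ∃ c : U, (c : G) ∈ C ∧ (π ⟨v, hv⟩ = π c ∨
          π ⟨v, hv⟩ = π iU * π c ∨ π ⟨v, hv⟩ = π jU * π c ∨ π ⟨v, hv⟩ = π iU * π jU * π c)}
        one_mem' := ⟨one_mem U, 1, one_mem C, Or.inl rfl⟩
        mul_mem' := by
          rintro v v' ⟨hv, c, hc, h1⟩ ⟨hv', c', hc', h2⟩
          refine ⟨mul_mem hv hv', c * c', mul_mem hc hc', ?_⟩
          rw [show (⟨v * v', mul_mem hv hv'⟩ : U) = ⟨v, hv⟩ * ⟨v', hv'⟩ from rfl, map_mul, map_mul]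
          have ci : Commute (π c) (π iU) :=
            (show Commute c iU from Subtype.ext (hC.1 hc).1.eq).map π
          have cj : Commute (π c) (π jU) :=
            (show Commute c jU from Subtype.ext (hC.1 hc).2.eq).map π
          have ci' : ∀ x, π c * (π iU * x) = π iU * (π c * x) := fun x => ci.left_comm x
          have cj' : ∀ x, π c * (π jU * x) = π jU * (π c * x) := fun x => cj.left_comm x
          have ji' : ∀ x, π jU * (π iU * x) = π iU * (π jU * x) := fun x => hij.symm.left_comm x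
          have ii' : ∀ x, π iU * (π iU * x) = x := fun x => by rw [← mul_assoc, hee, one_mul]
          have jj' : ∀ x, π jU * (π jU * x) = x := fun x => by rw [← mul_assoc, hjj, one_mul]
          rcases h1 with h1 | h1 | h1 | h1 <;> rcases h2 with h2 | h2 | h2 | h2 <;>
            simp only [h1, h2, mul_assoc, ci', cj', ji', ii', jj', true_or, or_true]
        inv_mem' := by
          rintro v ⟨hv, c, hc, h1⟩
          refine ⟨inv_mem hv, c⁻¹, inv_mem hc, ?_⟩
          rw [show (⟨v⁻¹, inv_mem hv⟩ : U) = (⟨v, hv⟩ : U)⁻¹ from rfl, map_inv, map_inv]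
          have ci : Commute (π c)⁻¹ (π iU) :=
            ((show Commute c iU from Subtype.ext (hC.1 hc).1.eq).map π).inv_left
          have cj : Commute (π c)⁻¹ (π jU) :=
            ((show Commute c jU from Subtype.ext (hC.1 hc).2.eq).map π).inv_left
          rcases h1 with h1 | h1 | h1 | h1 <;> rw [h1]
          · exact Or.inl rfl
          · right; left; rw [mul_inv_rev, inv_eq_of_mul_eq_one_left hee, ci.eq]
          · right; right; left; rw [mul_inv_rev, inv_eq_of_mul_eq_one_left hjj, cj.eq]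
          · right; right; right
            rw [mul_inv_rev, mul_inv_rev, inv_eq_of_mul_eq_one_left hee,
              inv_eq_of_mul_eq_one_left hjj, ← hij.eq, ← mul_assoc, ci.eq, mul_assoc, cj.eq,
              mul_assoc] }
    have hPK : P ≤ K := sup_le ((closure_le K).2 (by
      rintro v (rfl | rfl)
      · exact ⟨hiU, 1, one_mem C, Or.inr (Or.inl (by rw [map_one, mul_one]))⟩
      · exact ⟨hjU, 1, one_mem C, Or.inr (Or.inr (Or.inl (by rw [map_one, mul_one])))⟩))
      fun c hc => ⟨hCU c hc, ⟨c, hCU c hc⟩, hc, Or.inl rfl⟩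
    intro u hu
    obtain ⟨hv, c, hc, hcase⟩ := hPK hu
    exact ⟨c, hc, hcase⟩
  have hcent : ∀ u : U, Commute (π u) (π iU) ↔ (u : G) ∈ P := by
    intro u
    constructor
    · intro h
      rw [← hNi, Subgroup.mem_normalizer_iff_map_conj_eq]
      refine Subgroup.eq_of_le_of_card_ge ?_
        (Nat.card_congr (equivMapOfInjective _ _ (MulAut.conj (u : G)).injective).toEquiv).le
      rw [MonoidHom.map_zpowers, zpowers_le]
      show (u : G) * i * (u : G)⁻¹ ∈ zpowers i
      rcases hπ iU (u * iU * u⁻¹) (by rw [map_mul, map_mul, map_inv, h.eq, mul_inv_cancel_right])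
        with e | e
      · rw [show (u : G) * i * (u : G)⁻¹ = i from e]; exact mem_zpowers i
      · rw [show (u : G) * i * (u : G)⁻¹ = i * z from e, hz]
        exact mul_mem (mem_zpowers i) (mul_mem (mem_zpowers i) (mem_zpowers i))
    · intro hu
      obtain ⟨c, hc, h⟩ := hPcl u hu
      have ci : Commute (π c) (π iU) := (show Commute c iU from Subtype.ext (hC.1 hc).1.eq).map π
      rcases h with h | h | h | h <;> rw [h]
      · exact ci
      · exact (Commute.refl _).mul_left ci
      · exact hij.symm.mul_left ci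
      · exact ((Commute.refl _).mul_left hij.symm).mul_left ci
  have hPcomm : ∀ p : U ⧸ Z, Commute p (π iU) → ∀ q : U ⧸ Z, Commute q (π iU) → Commute p q := by
    intro p hp q hq
    obtain ⟨a, rfl⟩ := hπs p
    obtain ⟨b, rfl⟩ := hπs q
    obtain ⟨c, hc, h1⟩ := hPcl a ((hcent a).1 hp)
    obtain ⟨c', hc', h2⟩ := hPcl b ((hcent b).1 hq)
    have cc : Commute (π c) (π c') :=
      (show Commute c c' from Subtype.ext (hCc _ hc _ hc').eq).map π
    have ci : ∀ {d : U}, (d : G) ∈ C → Commute (π d) (π iU) := fun {d} hd =>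
      (show Commute d iU from Subtype.ext (hC.1 hd).1.eq).map π
    have cj : ∀ {d : U}, (d : G) ∈ C → Commute (π d) (π jU) := fun {d} hd =>
      (show Commute d jU from Subtype.ext (hC.1 hd).2.eq).map π
    have e1 : ∀ x ∈ ({π iU, π jU, π c, π c'} : Set (U ⧸ Z)),
        ∀ y ∈ ({π iU, π jU, π c, π c'} : Set (U ⧸ Z)), Commute x y := by
      rintro x (rfl | rfl | rfl | rfl) y (rfl | rfl | rfl | rfl) <;>
        first
        | exact Commute.refl _
        | exact hij
        | exact hij.symm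
        | exact cc
        | exact cc.symm
        | exact ci hc
        | exact ci hc'
        | exact (ci hc).symm
        | exact (ci hc').symm
        | exact cj hc
        | exact cj hc'
        | exact (cj hc).symm
        | exact (cj hc').symm
    have mi : π iU ∈ closure ({π iU, π jU, π c, π c'} : Set (U ⧸ Z)) := subset_closure (by simp)
    have mj : π jU ∈ closure ({π iU, π jU, π c, π c'} : Set (U ⧸ Z)) := subset_closure (by simp)
    have mc : π c ∈ closure ({π iU, π jU, π c, π c'} : Set (U ⧸ Z)) := subset_closure (by simp)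
    have mc' : π c' ∈ closure ({π iU, π jU, π c, π c'} : Set (U ⧸ Z)) := subset_closure (by simp)
    refine commute_of_closure e1 _ ?_ _ ?_
    · rcases h1 with h | h | h | h <;> rw [h] <;>
        first
        | exact mc
        | exact mul_mem mi mc
        | exact mul_mem mj mc
        | exact mul_mem (mul_mem mi mj) mc
    · rcases h2 with h | h | h | h <;> rw [h] <;>
        first
        | exact mc'
        | exact mul_mem mi mc'
        | exact mul_mem mj mc'
        | exact mul_mem (mul_mem mi mj) mc'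
  have hk2 : π (iU * jU) * π (iU * jU) = 1 := by
    rw [map_mul, hij.symm.mul_mul_mul_comm, hee, hjj, one_mul]
  have hk1 : π (iU * jU) ≠ 1 := by
    intro h
    rw [map_mul] at h
    have h' : π iU = π jU := by rw [eq_inv_of_mul_eq_one_left h, inv_eq_of_mul_eq_one_left hjj]
    rcases hπ _ _ h' with e | e
    · exact hnc (by rw [show j = i from e])
    · exact hnc (by rw [show j = i * z from e, mul_assoc i z i, hzi.eq])
  have hsq' : ∀ v : U ⧸ Z, Commute v (π iU) → v * v ≠ π (iU * jU) := by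
    intro v hv hvk
    obtain ⟨a, rfl⟩ := hπs v
    obtain ⟨c, hc, h1⟩ := hPcl a ((hcent a).1 hv)
    have ci : Commute (π c) (π iU) := (show Commute c iU from Subtype.ext (hC.1 hc).1.eq).map π
    have cj : Commute (π c) (π jU) := (show Commute c jU from Subtype.ext (hC.1 hc).2.eq).map π
    have haa : π a * π a = π (c * c) := by
      rw [map_mul]
      rcases h1 with h | h | h | h <;> rw [h]
      · rw [ci.mul_mul_mul_comm, hee, one_mul]
      · rw [cj.mul_mul_mul_comm, hjj, one_mul]
      · rw [(ci.mul_right cj).mul_mul_mul_comm, ← map_mul π iU jU, hk2, one_mul]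
    rw [haa] at hvk
    have hmem : i * j ∈ C := by
      rcases hπ _ _ hvk with e | e
      · rw [show i * j = (c : G) * c from e]; exact mul_mem hc hc
      · rw [show i * j = (c : G) * c * z from e]
        exact mul_mem (mul_mem hc hc) (hCeq.ge (mem_sup_left (mem_zpowers z)))
    exact hnc (mul_left_cancel (by
      have := (hC.1 hmem).1.eq
      rw [mul_assoc] at this
      exact this.symm))
  have hτe : π τU * π iU * (π τU)⁻¹ = π iU * π (iU * jU) := by
    rw [← map_inv, ← map_mul, ← map_mul, ← map_mul]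
    refine (hπeq (τU * iU * τU⁻¹) (iU * (iU * jU)) (Or.inr ?_)).symm
    show i * (i * j) = τ * i * τ⁻¹ * z
    rw [hti, ← mul_assoc, ← hz, hzj.eq]
  have hN : ∀ n ∈ normalizer ((centralizer ({π iU} : Set (U ⧸ Z)) : Subgroup _) : Set (U ⧸ Z)),
      n * π iU * n⁻¹ = π iU ∨ n * π iU * n⁻¹ = π iU * π (iU * jU) := by
    intro n hn
    obtain ⟨a, rfl⟩ := hπs n
    have ha : (a : G) ∈ normalizer (P : Set G) := by
      refine Subgroup.mem_normalizer_iff_map_conj_eq.2 (Subgroup.eq_of_le_of_card_ge ?_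
        (Nat.card_congr (equivMapOfInjective _ _ (MulAut.conj (a : G)).injective).toEquiv).le)
      rintro _ ⟨v, hv, rfl⟩
      have h1 : π ⟨v, hPle hv⟩ ∈ centralizer ({π iU} : Set (U ⧸ Z)) :=
        Subgroup.mem_centralizer_singleton_iff.2 ((hcent ⟨v, hPle hv⟩).2 hv).eq
      have h2 := (Subgroup.mem_normalizer_iff.1 hn _).1 h1
      rw [← map_inv, ← map_mul, ← map_mul] at h2
      exact (hcent _).1 (Subgroup.mem_centralizer_singleton_iff.1 h2)
    rw [hnorm, sup_comm] at ha
    obtain ⟨t, ⟨k, rfl⟩, p, hp, hpe⟩ := (Coprime.mem_sup_iff_of_le_normalizer (zpowers_le.2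
      (hnorm ▸ mem_sup_right (mem_zpowers τ)))).1 ha
    have ha' : a = τU ^ k * ⟨p, hPle hp⟩ := Subtype.ext hpe.symm
    have hfix : ∀ v : U, (v : G) ∈ P → π v * π iU * (π v)⁻¹ = π iU := fun v hv => by
      rw [((hcent v).2 hv).eq, mul_inv_cancel_right]
    have h2 : ∀ q : ℤ, π τU ^ (2 * q) * π iU * (π τU ^ (2 * q))⁻¹ = π iU := fun q => by
      rw [← map_zpow]
      refine hfix _ ?_
      rw [Subgroup.coe_zpow, zpow_mul, zpow_two]
      exact zpow_mem htsq q
    rw [ha', map_mul, map_zpow]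
    rw [show π τU ^ k * π ⟨p, hPle hp⟩ * π iU * (π τU ^ k * π ⟨p, hPle hp⟩)⁻¹ =
      π τU ^ k * (π ⟨p, hPle hp⟩ * π iU * (π ⟨p, hPle hp⟩)⁻¹) * (π τU ^ k)⁻¹ by group,
      hfix ⟨p, hPle hp⟩ hp]
    rcases Int.even_or_odd' k with ⟨q, rfl | rfl⟩
    · exact Or.inl (h2 q)
    · right
      rw [show π τU ^ (2 * q + 1) * π iU * (π τU ^ (2 * q + 1))⁻¹ =
        π τU * (π τU ^ (2 * q) * π iU * (π τU ^ (2 * q))⁻¹) * (π τU)⁻¹ by group, h2, hτe]
  have hτN : π τU ∈
      normalizer ((centralizer ({π iU} : Set (U ⧸ Z)) : Subgroup _) : Set (U ⧸ Z)) := by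
    have hτn : τ ∈ normalizer (P : Set G) := hnorm ▸ mem_sup_right (mem_zpowers τ)
    refine Subgroup.mem_normalizer_iff_map_conj_eq.2 (Subgroup.eq_of_le_of_card_ge ?_
      (Nat.card_congr (equivMapOfInjective _ _ (MulAut.conj (π τU)).injective).toEquiv).le)
    rintro _ ⟨v, hv, rfl⟩
    obtain ⟨b, rfl⟩ := hπs v
    show π τU * π b * (π τU)⁻¹ ∈ _
    rw [← map_inv, ← map_mul, ← map_mul]
    exact Subgroup.mem_centralizer_singleton_iff.2 ((hcent _).2
      ((Subgroup.mem_normalizer_iff.1 hτn _).1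
        ((hcent b).1 (Subgroup.mem_centralizer_singleton_iff.1 hv)))).eq
  obtain ⟨rb, hrb, hr1, hr2⟩ := coset_top ((hG.to_subgroup U).to_quotient Z) hee hk2 hk1
    ((map_mul π iU jU).symm ▸ ((Commute.refl _).mul_left hij.symm)) hsq' hPcomm hN ⟨_, hτN, hτe⟩
  obtain ⟨rU, rfl⟩ := hπs rb
  obtain ⟨r, hr⟩ : ∃ r, r = (rU : G) := ⟨_, rfl⟩
  -- `z` is a power of `r`
  have hzr : z ∈ zpowers r := by
    obtain ⟨m, hm⟩ := hr1 (π τU) (mem_top _)
    rw [hτe] at hm
    have h5 : π (rU ^ m) = π (iU * jU) := by rw [map_zpow]; exact (mul_left_cancel hm).symm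
    have h6 : ((rU ^ m : U) : G) = r ^ m := by rw [hr, Subgroup.coe_zpow]
    rcases hπ _ _ h5 with e | e
    · refine ⟨m + m, ?_⟩
      show r ^ (m + m) = z
      rw [← hij2, zpow_add, show i * j = r ^ m by rw [← h6]; exact e]
    · refine ⟨m + m, ?_⟩
      have e' : i * j = r ^ m * z := by rw [← h6]; exact e
      show r ^ (m + m) = z
      have hc : Commute (r ^ m) z := h6 ▸ hUm.1 (rU ^ m).2
      rw [← hij2, e', hc.symm.mul_mul_mul_comm, hzz, mul_one, zpow_add]
  have hmemr : ∀ (v : U) (k : ℤ), π v = π rU ^ k → (v : G) ∈ zpowers r := by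
    intro v k hv
    rw [← map_zpow] at hv
    rcases hπ _ _ hv.symm with e | e <;> rw [e, Subgroup.coe_zpow, ← hr]
    · exact zpow_mem_zpowers r k
    · exact mul_mem (zpow_mem_zpowers r k) hzr
  have hii : ∀ u : U, i⁻¹ * ((u : G) * i * (u : G)⁻¹) ∈ zpowers r := by
    intro u
    obtain ⟨k, hk⟩ := hr1 (π u) (mem_top _)
    exact hmemr (iU⁻¹ * (u * iU * u⁻¹)) k (by simp only [map_mul, map_inv, hk]; group)
  have hnr : ∀ u : U, (u : G) * r * (u : G)⁻¹ ∈ zpowers r := by
    intro u
    obtain ⟨h, -, hh⟩ := hr2 1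
    obtain ⟨k, hk⟩ := hr1 (π u * h) (mem_top _)
    obtain ⟨l, hl⟩ := hr1 (π u) (mem_top _)
    suffices h' : ((u * rU * u⁻¹ : U) : G) ∈ zpowers r by
      simpa [hr, mul_assoc] using h'
    refine hmemr (u * rU * u⁻¹) (-l + k) ?_
    rw [map_mul, map_mul, map_inv, show π u * π rU * (π u)⁻¹ =
      (π u * π iU * (π u)⁻¹)⁻¹ * (π u * (π iU * π rU ^ (1 : ℤ)) * (π u)⁻¹) by group, ← hh,
      show π u * (h * π iU * h⁻¹) * (π u)⁻¹ = (π u * h) * π iU * (π u * h)⁻¹ by group, hk, hl]
    group
  by_cases hUtop : U = ⊤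
  · -- `z` is central
    obtain ⟨a, hea⟩ := exists_partner hG hiW hS.frattini_index
    have hau : ∀ g : G, g ∈ U := fun g => hUtop ▸ mem_top g
    refine commutator_isCyclic (r := r) (fun g => hnr ⟨g, hau g⟩) hea ?_
    have hb : i⁻¹ * (a * i * a⁻¹) ∈ zpowers r := hii ⟨a, hau a⟩
    obtain ⟨k, hk⟩ := inv_mem hb
    have hk' : r ^ k = (i⁻¹ * (a * i * a⁻¹))⁻¹ := hk
    rw [show ⁅i, a⁆ = i * r ^ k * i⁻¹ by rw [hk', commutatorElement_def]; group, ← conj_zpow]
    exact zpow_mem (hnr iU) k
  · exfalso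
    obtain ⟨s, hs, hsU⟩ : ∃ s, s ∈ normalizer (U : Set G) ∧ s ∉ U := by
      haveI := hG.isNilpotent
      exact SetLike.exists_of_lt
        (Group.normalizerCondition_of_isNilpotent U (lt_top_iff_ne_top.2 hUtop))
    have hrU : r ∈ U := hr ▸ rU.2
    have hconj : ∀ u ∈ U, ∀ v ∈ zpowers r, u * v * u⁻¹ ∈ zpowers r := by
      rintro u hu _ ⟨k, rfl⟩
      show u * r ^ k * u⁻¹ ∈ zpowers r
      rw [← conj_zpow]
      exact zpow_mem (hnr ⟨u, hu⟩) k
    have hizr : i * i ∈ zpowers r := hz ▸ hzr
    let D : Subgroup G :=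
      { carrier := {v | v ∈ zpowers r ∨ i⁻¹ * v ∈ zpowers r}
        one_mem' := Or.inl (one_mem _)
        mul_mem' := by
          rintro v v' (hv | hv) (hv' | hv')
          · exact Or.inl (mul_mem hv hv')
          · right
            rw [show i⁻¹ * (v * v') = (i⁻¹ * v * (i⁻¹)⁻¹) * (i⁻¹ * v') by group]
            exact mul_mem (hconj _ (inv_mem hiU) v hv) hv'
          · right; rw [← mul_assoc]; exact mul_mem hv hv'
          · left
            rw [show v * v' = i * (i⁻¹ * v) * i⁻¹ * (i * i) * (i⁻¹ * v') by group]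
            exact mul_mem (mul_mem (hconj i hiU _ hv) hizr) hv'
        inv_mem' := by
          rintro v (hv | hv)
          · exact Or.inl (inv_mem hv)
          · right
            rw [show i⁻¹ * v⁻¹ = (i⁻¹ * (i⁻¹ * v)⁻¹ * (i⁻¹)⁻¹) * (i * i)⁻¹ by group]
            exact mul_mem (hconj _ (inv_mem hiU) _ (inv_mem hv)) (inv_mem hizr) }
    have hDU : D ≤ U := by
      rintro v (hv | hv)
      · exact zpowers_le.2 hrU hv
      · simpa using mul_mem hiU (zpowers_le.2 hrU hv)
    have hDn : ∀ u ∈ U, ∀ v ∈ D, u * v * u⁻¹ ∈ D := by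
      rintro u hu v (hv | hv)
      · exact Or.inl (hconj u hu v hv)
      · right
        rw [show i⁻¹ * (u * v * u⁻¹) = i⁻¹ * (u * i * u⁻¹) * (u * (i⁻¹ * v) * u⁻¹) by group]
        exact mul_mem (hii ⟨u, hu⟩) (hconj u hu _ hv)
    -- the only involution of `D` is `z`
    have hinvol : ∀ v ∈ D, v ≠ 1 → v * v = 1 → v = z := by
      rintro v (hv | ⟨k, hk⟩) hv1 hv2
      · exact involution_unique hv hzr hv1 hne hv2 hzz
      · exfalso
        obtain ⟨b, -, hb⟩ := hr2 k
        obtain ⟨b, rfl⟩ := hπs b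
        have hk' : r ^ k = i⁻¹ * v := hk
        have hv' : v ∈ U := hDU (Or.inr ⟨k, hk⟩)
        have h5 : π (b * iU * b⁻¹) = π ⟨v, hv'⟩ := by
          rw [map_mul, map_mul, map_inv, hb, ← map_zpow, ← map_mul]
          exact congrArg π (Subtype.ext (by
            show i * ((rU ^ k : U) : G) = v
            rw [Subgroup.coe_zpow, ← hr, hk', mul_inv_cancel_left]))
        have hbz : (b : G) * z * (b : G)⁻¹ = z := by rw [(hUm.1 b.2).eq, mul_inv_cancel_right]
        have hbb : (b : G) * i * (b : G)⁻¹ * ((b : G) * i * (b : G)⁻¹) = z := by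
          rw [show (b : G) * i * (b : G)⁻¹ * ((b : G) * i * (b : G)⁻¹) =
            b * (i * i) * (b : G)⁻¹ by group, ← hz, hbz]
        have hcb : Commute z ((b : G) * i * (b : G)⁻¹) :=
          (hUm.1 (mul_mem (mul_mem b.2 hiU) (inv_mem b.2))).symm
        rcases hπ _ _ h5 with e | e
        · rw [show v = b * i * (b : G)⁻¹ from e, hbb] at hv2
          exact hne hv2
        · rw [show v = b * i * (b : G)⁻¹ * z from e, hcb.mul_mul_mul_comm, hbb, hzz, mul_one]
            at hv2
          exact hne hv2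
    have htriv : ∀ v ∈ D, s⁻¹ * v * s ∈ D → v = 1 := by
      intro v hv hv'
      by_contra hv1
      obtain ⟨u, hu, hu1, hu2⟩ := exists_involution hG hv1
      have hu' : s⁻¹ * u * s ∈ D := by
        obtain ⟨k, rfl⟩ := hu
        show s⁻¹ * v ^ k * s ∈ D
        rw [show s⁻¹ * v ^ k * s = (s⁻¹ * v * s) ^ k by
          simpa using (conj_zpow (a := s⁻¹) (b := v) (i := k)).symm]
        exact zpow_mem hv' k
      have huz := hinvol u (zpowers_le.2 hv hu) hu1 hu2
      have huz' := hinvol _ hu' (fun h => hu1 (by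
        have := congrArg (fun y => s * y * s⁻¹) h
        simpa [mul_assoc] using this)) (by
          rw [show s⁻¹ * u * s * (s⁻¹ * u * s) = s⁻¹ * (u * u) * s by group, hu2]; group)
      rw [huz] at huz'
      exact hsU (hUm.2 (by
        have := congrArg (fun y => s * y) huz'
        simp only [← mul_assoc, mul_inv_cancel, one_mul] at this
        exact this.symm))
    have hcomm : ∀ d ∈ D, ∀ d' ∈ D, Commute d (s * d' * s⁻¹) := by
      intro d hd d' hd'
      have hd'U : s * d' * s⁻¹ ∈ U := (Subgroup.mem_normalizer_iff.1 hs _).1 (hDU hd')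
      have hdU : s⁻¹ * d * s ∈ U := (Subgroup.mem_normalizer_iff''.1 hs _).1 (hDU hd)
      rw [← commutatorElement_eq_one_iff_commute]
      refine htriv _ ?_ ?_
      · rw [show ⁅d, s * d' * s⁻¹⁆ = d * ((s * d' * s⁻¹) * d⁻¹ * (s * d' * s⁻¹)⁻¹) by
          rw [commutatorElement_def]; group]
        exact mul_mem hd (hDn _ hd'U _ (inv_mem hd))
      · rw [show s⁻¹ * ⁅d, s * d' * s⁻¹⁆ * s =
          ((s⁻¹ * d * s) * d' * (s⁻¹ * d * s)⁻¹) * d'⁻¹ by rw [commutatorElement_def]; group]
        exact mul_mem (hDn _ hdU _ hd') (inv_mem hd')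
    have hiD : i ∈ D := Or.inr (by rw [inv_mul_cancel]; exact one_mem _)
    have hjD : j ∈ D := Or.inr (hti ▸ hii τU)
    have hcC : ∀ d ∈ D, s * d * s⁻¹ ∈ C := fun d hd =>
      hC.2 ⟨(hcomm i hiD d hd).symm, (hcomm j hjD d hd).symm⟩
    have h := (hCc _ (hcC i hiD) _ (hcC j hjD)).eq
    apply hnc
    have h' : s * (i * j) * s⁻¹ = s * (j * i) * s⁻¹ := by
      calc s * (i * j) * s⁻¹ = (s * i * s⁻¹) * (s * j * s⁻¹) := by group
        _ = (s * j * s⁻¹) * (s * i * s⁻¹) := h
        _ = _ := by group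
    exact mul_left_cancel (mul_right_cancel h')

end CfsgLib.Bicyclic.Chain
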