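import Mathlib
import Cfsg.Prelude.Def_FusionSystem
import Cfsg.Prelude.Def_OddOrderLocal

/-!
# Fusion systems on bicyclic non-metacyclic 2-groups (statement S5217): interface

The plan is in `tools/S5217_plan.md`.
-/

set_option autoImplicit false

namespace CfsgLib.Bicyclic

open Cfsg Subgroup

universe u

/-- A product of two cyclic groups. -/
def IsBicyclic (G : Type u) [Group G] : Prop := ∃ x y : G, ∀ g : G, ∃ i j : ℤ, g = x ^ i * y ^ j

/-- What is used of the structure of a bicyclic non-metacyclic 2-group; `M` is the maximal subgroup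
which is not metacyclic. -/
structure Shape (G : Type u) [Group G] (M : Subgroup G) : Prop where
  pgroup : IsPGroup 2 G
  not_meta : ¬ IsMetacyclic G
  index : M.index = 2
  frattini_index : (frattini G).index = 4
  frattini_meta : IsMetacyclic ↥(frattini G)
  le_of_not_meta : ∀ H : Subgroup G, ¬ IsMetacyclic ↥H → H = ⊤ ∨ H ≤ M
  gens : ∃ a b : G, closure {a, b} = ⊤ ∧ b * b ∈ commutator G ∧ a * a ∉ commutator G ⊔ zpowers b

/-- A four-group `⟨e, z⟩` whose centralizer is `⟨e, z⟩ × C`, with `τ` exchanging `e` and `ez`. -/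
structure FourData (G : Type u) [Group G] (e z τ : G) (C : Subgroup G) : Prop where
  ee : e * e = 1
  zz : z * z = 1
  e_ne : e ≠ 1
  z_ne : z ≠ 1
  ne : e ≠ z
  comm : Commute e z
  cyclic : IsCyclic ↥C
  disj : closure {e, z} ⊓ C = ⊥
  cent_e : centralizer ({e} : Set G) = closure {e, z} ⊔ C
  central : ∀ p ∈ closure {e, z} ⊔ C, ∀ q ∈ closure {e, z} ⊔ C, Commute p q
  tau_z : τ * z * τ⁻¹ = z
  tau_e : τ * e * τ⁻¹ = e * z
  tau_C : τ ∈ normalizer (C : Set G)
  tau_sq : τ * τ ∈ closure {e, z} ⊔ C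
  norm : normalizer ((closure {e, z} ⊔ C : Subgroup G) : Set G) =
    closure {e, z} ⊔ C ⊔ zpowers τ

/-- The centralizer of the quaternion group `⟨i, j⟩`. -/
def quatCent {G : Type u} [Group G] (i j : G) : Subgroup G := centralizer ({i, j} : Set G)

/-- The product of the quaternion group `⟨i, j⟩` with its centralizer. -/
def quatProd {G : Type u} [Group G] (i j : G) : Subgroup G := closure {i, j} ⊔ quatCent i j

/-- A quaternion group `⟨i, j⟩` with `τ` exchanging the two cyclic subgroups. -/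
structure QuatData (G : Type u) [Group G] (i j τ : G) : Prop where
  order_i : orderOf i = 4
  sq : j * j = i * i
  inv : j * i * j⁻¹ = i⁻¹
  cent : ∃ w ∈ quatCent i j, quatCent i j = zpowers (i * i) ⊔ zpowers w
  norm_i : normalizer ((zpowers i : Subgroup G) : Set G) = quatProd i j
  tau_i : τ * i * τ⁻¹ = j
  tau_j : τ * j * τ⁻¹ = i ∨ τ * j * τ⁻¹ = i⁻¹
  tau_sq : τ * τ ∈ quatProd i j
  norm : normalizer ((quatProd i j : Subgroup G) : Set G) = quatProd i j ⊔ zpowers τ

/-- `S` supports a saturated fusion system which is not the inner one. -/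
def Noninner {Ω : Type u} [Group Ω] (S : Subgroup Ω) : Prop :=
  ∃ F : FusionSystem S, F.IsSaturated 2 ∧
    ¬ ∀ P : Subgroup Ω, F.Hom P = (innerFusionSystem S).Hom P

/-! ## The pieces -/

/-- Piece 1: the structure. -/
def StmtShape : Prop := ∀ (G : Type u) [Group G] [Finite G], IsPGroup 2 G → IsBicyclic G →
  ¬ IsMetacyclic G → ∃ M : Subgroup G, Shape G M

/-- Piece 2a: a four-group datum makes the derived subgroup cyclic. -/
def StmtFourChain : Prop := ∀ (G : Type u) [Group G] [Finite G] (M : Subgroup G), Shape G M →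
  ∀ (e z τ : G) (C : Subgroup G), FourData G e z τ C → IsCyclic ↥(commutator G)

/-- Piece 2b: a quaternion datum makes the derived subgroup cyclic. -/
def StmtQuatChain : Prop := ∀ (G : Type u) [Group G] [Finite G] (M : Subgroup G), Shape G M →
  ∀ (i j τ : G), QuatData G i j τ → IsCyclic ↥(commutator G)

/-- Piece 3: what an essential subgroup looks like. -/
def StmtEssential : Prop := ∀ (Ω : Type u) [Group Ω] (S : Subgroup Ω) [Finite S] (M : Subgroup ↥S),
  Shape ↥S M → Noninner S → IsCyclic ↥(commutator ↥S) ∨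
    (∃ (e z τ : ↥S) (C : Subgroup ↥S), FourData ↥S e z τ C) ∨
    ∃ i j τ : ↥S, QuatData ↥S i j τ

/-- Piece 4: a cyclic derived subgroup yields a datum, with central `z`. -/
def StmtPivot : Prop := ∀ (G : Type u) [Group G] [Finite G] (M : Subgroup G), Shape G M →
  IsCyclic ↥(commutator G) →
    (∃ (e z τ : G) (C : Subgroup G), FourData G e z τ C) ∨
    ∃ i j τ : G, QuatData G i j τ ∧ i * i ∈ center G

/-- Piece 5a: the fusion system of a four-group datum. -/
def StmtFourSystem : Prop := ∀ (Ω : Type u) [Group Ω] (S : Subgroup Ω) [Finite S],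
  IsPGroup 2 ↥S → ∀ (e z τ : ↥S) (C : Subgroup ↥S), FourData ↥S e z τ C → Noninner S

/-- Piece 5b: the fusion system of a quaternion datum. -/
def StmtQuatSystem : Prop := ∀ (Ω : Type u) [Group Ω] (S : Subgroup Ω) [Finite S],
  IsPGroup 2 ↥S → ∀ (i j τ : ↥S), QuatData ↥S i j τ → i * i ∈ center ↥S → Noninner S

/-- The statement. -/
def StmtMain : Prop := ∀ (Ω : Type u) [Group Ω] (S : Subgroup Ω) [Finite S],
  IsPGroup 2 ↥S → IsBicyclic ↥S → ¬ IsMetacyclic ↥S →
    (Noninner S ↔ IsCyclic ↥(commutator ↥S))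

/-- The assembly. -/
theorem main_of (h₁ : StmtShape.{u}) (h₂ : StmtFourChain.{u}) (h₂' : StmtQuatChain.{u})
    (h₃ : StmtEssential.{u}) (h₄ : StmtPivot.{u}) (h₅ : StmtFourSystem.{u})
    (h₅' : StmtQuatSystem.{u}) : StmtMain.{u} := by
  intro Ω _ S _ hS hb hm
  obtain ⟨M, hM⟩ := h₁ ↥S hS hb hm
  constructor
  · intro hF
    rcases h₃ Ω S M hM hF with h | ⟨e, z, τ, C, h⟩ | ⟨i, j, τ, h⟩
    · exact h
    · exact h₂ ↥S M hM e z τ C h
    · exact h₂' ↥S M hM i j τ h
  · intro hc
    rcases h₄ ↥S M hM hc with ⟨e, z, τ, C, h⟩ | ⟨i, j, τ, h, hz⟩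
    · exact h₅ Ω S hS e z τ C h
    · exact h₅' Ω S hS i j τ h hz

end CfsgLib.Bicyclic
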