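import Mathlib
import Cfsg.Agent.Lib.Bicyclic.Defs
import Cfsg.Agent.Lib.PGroups.MetacyclicTwoAut
import Cfsg.Agent.Lib.Fusion.MetacyclicClosedTwo

/-!
# S5217, piece 3: first consequences of the shape
-/

set_option autoImplicit false
set_option linter.style.haveILetI false

namespace CfsgLib.Bicyclic

open Cfsg Subgroup CfsgLib.PGroups
open scoped commutatorElement

universe u

variable {G : Type u} [Group G] [Finite G]

theorem frattini_index_le_four {X : Type u} [Group X] [Finite X] (h2 : IsPGroup 2 X)
    (hm : IsMetacyclic X) : (frattini X).index ≤ 4 := by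
  have h := MetacyclicTwoAut.card_le_four
    (OddOrder.isMetacyclic_of_surjective (QuotientGroup.mk' (frattini X))
      (QuotientGroup.mk'_surjective _) hm) ⊤ fun v _ => by
      induction v using QuotientGroup.induction_on with
      | H x => exact (QuotientGroup.eq_one_iff _).2 (pow_mem_frattini h2 x)
  rwa [card_top, ← index_eq_card] at h

theorem frattini_map_le {X : Type u} [Group X] [Finite X] (h2 : IsPGroup 2 X) (Y : Subgroup X) :
    (frattini Y).map Y.subtype ≤ frattini X := by
  haveI : Fact (Nat.Prime 2) := ⟨Nat.prime_two⟩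
  rw [map_le_iff_le_comap]
  refine frattini_le_of_elementary_quotient (p := 2) ?_ fun g => ?_
  · rw [commutator_def, Subgroup.commutator_le]
    intro a _ b _
    show Y.subtype ⁅a, b⁆ ∈ frattini X
    rw [map_commutatorElement]
    exact commutator_le_frattini h2 (commutator_mem_commutator (mem_top _) (mem_top _))
  · show Y.subtype (g ^ 2) ∈ frattini X
    rw [map_pow]
    exact pow_mem_frattini h2 _

theorem Shape.frattini_le {M : Subgroup G} (h : Shape G M) : frattini G ≤ M := by
  haveI : Fact (Nat.Prime 2) := ⟨Nat.prime_two⟩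
  exact frattini_le_coatom (isCoatom_of_index_eq_prime (p := 2) h.index)

/-- Every subgroup has Frattini index at most eight. -/
theorem Shape.frattini_index_le {M : Subgroup G} (h : Shape G M) (X : Subgroup G) :
    (frattini X).index ≤ 8 := by
  haveI : Fact (Nat.Prime 2) := ⟨Nat.prime_two⟩
  have hX2 : IsPGroup 2 X := h.pgroup.to_subgroup X
  by_cases hm : IsMetacyclic X
  · exact le_trans (frattini_index_le_four hX2 hm) (by norm_num)
  rcases h.le_of_not_meta X hm with rfl | hXM
  · have h1 := (frattini (⊤ : Subgroup G)).card_mul_index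
    have h2 := frattini_map_le h.pgroup (⊤ : Subgroup G)
    have h3 : (frattini G).map (topEquiv (G := G)).symm.toMonoidHom ≤ frattini (⊤ : Subgroup G) := by
      rw [map_le_iff_le_comap]
      refine frattini_le_of_elementary_quotient (p := 2) ?_ fun g => ?_
      · rw [commutator_def, Subgroup.commutator_le]
        intro a _ b _
        show (topEquiv (G := G)).symm.toMonoidHom ⁅a, b⁆ ∈ frattini (⊤ : Subgroup G)
        rw [map_commutatorElement]
        exact commutator_le_frattini hX2 (commutator_mem_commutator (mem_top _) (mem_top _))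
      · show (topEquiv (G := G)).symm.toMonoidHom (g ^ 2) ∈ frattini (⊤ : Subgroup G)
        rw [map_pow]
        exact pow_mem_frattini hX2 _
    have h4 := index_dvd_of_le h3
    replace h4 := h4.trans (dvd_of_eq ((index_map_equiv (frattini G)
      (topEquiv (G := G)).symm).trans h.frattini_index))
    exact le_trans (Nat.le_of_dvd (by norm_num) h4) (by norm_num)
  · set Y := (frattini G).subgroupOf X with hY
    have hYm : IsMetacyclic Y := by
      refine OddOrder.isMetacyclic_of_surjective (H := ↥((X ⊓ frattini G).subgroupOf (frattini G)))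
        ?_ ?_ (CfsgLib.Fusion.MetacyclicTwo.isMetacyclic_subgroup h.frattini_meta _)
      · exact
          { toFun := fun y => ⟨⟨((y : ↥(frattini G)) : G), (mem_subgroupOf.1 y.2).1⟩,
              mem_subgroupOf.2 (y : ↥(frattini G)).2⟩
            map_one' := rfl
            map_mul' := fun _ _ => rfl }
      · intro y
        exact ⟨⟨⟨((y : ↥X) : G), mem_subgroupOf.1 y.2⟩,
          mem_subgroupOf.2 ⟨(y : ↥X).2, mem_subgroupOf.1 y.2⟩⟩, rfl⟩
    have hYi : Y.index ≤ 2 := by
      show (frattini G).relIndex X ≤ 2
      refine le_trans (relIndex_le_of_le_right hXM ?_) (le_of_eq ?_)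
      · exact Subgroup.index_ne_zero_of_finite
      · have := relIndex_mul_index h.frattini_le
        rw [h.index, h.frattini_index] at this
        omega
    have h1 := index_dvd_of_le (frattini_map_le hX2 Y)
    rw [index_map_subtype] at h1
    have h2 : (frattini Y).index ≤ 4 := frattini_index_le_four (hX2.to_subgroup Y) hYm
    refine le_trans (Nat.le_of_dvd ?_ h1) (Nat.mul_le_mul h2 hYi)
    exact Nat.pos_of_ne_zero (Nat.mul_ne_zero Subgroup.index_ne_zero_of_finite
      Subgroup.index_ne_zero_of_finite)

/-- The automorphism group is a 2-group. -/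
theorem Shape.isPGroup_mulAut {M : Subgroup G} (h : Shape G M) : IsPGroup 2 (MulAut G) := by
  haveI : Fact (Nat.Prime 2) := ⟨Nat.prime_two⟩
  by_contra hA
  obtain ⟨r, α, hr, hr2, hα, hα1⟩ := MetacyclicTwoAut.exists_odd_prime_aut hA
  haveI := Fact.mk hr
  refine hα1 (MetacyclicTwoAut.eq_one_of_trivial h.pgroup hr2 hα fun x => ?_)
  -- a characteristic subgroup of index two
  obtain ⟨a, b, hab, hb, ha⟩ := h.gens
  let L : Subgroup G :=
    { carrier := {y | y * y ∈ commutator G}
      one_mem' := by simp
      mul_mem' := fun {p q} hp hq => by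
        simp only [Set.mem_ofPred_eq, ← QuotientGroup.eq_one_iff, QuotientGroup.mk_mul] at *
        have hc : Commute (p : G ⧸ commutator G) (q : G ⧸ commutator G) :=
          mul_comm (Abelianization.of p) (Abelianization.of q)
        rw [← sq, hc.mul_pow, sq, sq, hp, hq, one_mul]
      inv_mem' := fun {p} hp => by
        simp only [Set.mem_ofPred_eq] at *
        rw [← mul_inv_rev]
        exact inv_mem hp }
  set K : Subgroup G := L ⊔ frattini G with hK
  have hbF : b ∉ frattini G := fun hbF => h.not_meta (by
    have h1 : zpowers a ⊔ frattini G = ⊤ := by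
      rw [eq_top_iff, ← hab, closure_le]
      rintro y (rfl | rfl)
      exacts [mem_sup_left (mem_zpowers _), mem_sup_right hbF]
    have h2 := frattini_nongenerating h1
    haveI : IsCyclic G := ⟨⟨a, fun x => mem_zpowers_iff.1 (h2 ▸ mem_top x)⟩⟩
    exact ⟨⊤, inferInstance, isCyclic_of_surjective topEquiv.symm.toMonoidHom
      (MulEquiv.surjective _), isCyclic_of_surjective (QuotientGroup.mk' ⊤)
        (QuotientGroup.mk'_surjective _)⟩)
  have haK : a ∉ K := fun haK => ha (by
    have h1 : L ⊔ frattini G = ⊤ := by
      rw [eq_top_iff, ← hab, closure_le]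
      rintro y (rfl | rfl)
      exacts [haK, mem_sup_left hb]
    have h2 : L = ⊤ := frattini_nongenerating h1
    exact mem_sup_left (show a * a ∈ commutator G from (h2 ▸ mem_top a : a ∈ L)))
  have hKi : K.index = 2 := by
    have h1 := index_dvd_of_le (show frattini G ≤ K from le_sup_right)
    rw [h.frattini_index] at h1
    have h2 : K.index ≠ 1 := fun e => haK (index_eq_one.1 e ▸ mem_top a)
    have h3 : K.index ≠ 4 := fun e => hbF (by
      have he : frattini G = K := eq_of_le_of_card_ge le_sup_right (by
        have e1 := (frattini G).card_mul_index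
        have e2 := K.card_mul_index
        rw [h.frattini_index] at e1
        rw [e] at e2
        omega)
      rw [he]
      exact mem_sup_left hb)
    obtain ⟨i, hi, he⟩ := (Nat.dvd_prime_pow (m := 2) Nat.prime_two).1 h1
    interval_cases i <;> omega
  have hαK : ∀ y ∈ K, α y ∈ K := by
    have hLe : L ≤ K.comap α.toMonoidHom := fun y hy => mem_sup_left (by
      show α y * α y ∈ commutator G
      rw [← map_mul]
      exact (characteristic_iff_comap_eq.1 (inferInstance : (commutator G).Characteristic) α).ge hy)
    have hFe : frattini G ≤ K.comap α.toMonoidHom := fun y hy => mem_sup_right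
      ((characteristic_iff_comap_eq.1 (inferInstance : (frattini G).Characteristic) α).ge hy)
    exact fun y hy => sup_le hLe hFe hy
  set β := MetacyclicTwoAut.quotAut (frattini G) α with hβ
  let Fx : Subgroup (G ⧸ frattini G) := β.toMonoidHom.eqLocus (MonoidHom.id _)
  have hP : IsPGroup r (zpowers β) := by
    have hd : orderOf β ∣ r := orderOf_dvd_of_pow_eq_one (MulEquiv.ext fun v => by
      induction v using QuotientGroup.induction_on with
      | H y => rw [hβ, MetacyclicTwoAut.quotAut_pow, hα]; rfl)
    rcases (Nat.dvd_prime hr).1 hd with h1 | h1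
    · exact IsPGroup.of_card (n := 0) (by rw [Nat.card_zpowers, h1, pow_zero])
    · exact IsPGroup.of_card (n := 1) (by rw [Nat.card_zpowers, h1, pow_one])
  have hmod := hP.card_modEq_card_fixedPoints (G ⧸ frattini G)
  have hfixed : Nat.card (MulAction.fixedPoints (zpowers β) (G ⧸ frattini G)) = Nat.card Fx := by
    refine Nat.card_congr (Equiv.subtypeEquivRight fun v => ?_)
    constructor
    · intro hv
      exact hv ⟨β, mem_zpowers _⟩
    · rintro hv ⟨σ, i, rfl⟩
      have h1 : β ∈ MulAction.stabilizer (MulAut (G ⧸ frattini G)) v := hv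
      exact zpow_mem h1 i
  rw [hfixed, ← index_eq_card, h.frattini_index] at hmod
  -- the image of `K` is fixed
  have hmF : b ∉ frattini G := hbF
  have hbK : b ∈ K := mem_sup_left hb
  have hmFx : (b : G ⧸ frattini G) ∈ Fx := by
    show β (b : G ⧸ frattini G) = (b : G ⧸ frattini G)
    rw [hβ, MetacyclicTwoAut.quotAut_mk, eq_comm, QuotientGroup.eq]
    -- two elements of `K` outside the Frattini subgroup are congruent
    have hrel : (frattini G).relIndex K = 2 := by
      have := relIndex_mul_index (show frattini G ≤ K from le_sup_right)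
      rw [hKi, h.frattini_index] at this
      omega
    have hne : α b ∉ frattini G := fun hc => hbF
      ((characteristic_iff_comap_eq.1 (inferInstance : (frattini G).Characteristic) α).le hc)
    exact mem_subgroupOf.1 ((mul_mem_iff_of_index_two (show ((frattini G).subgroupOf K).index = 2
      from hrel) (a := (⟨b, hbK⟩ : K)⁻¹) (b := ⟨α b, hαK b hbK⟩)).2
      ⟨fun hc => absurd (inv_mem_iff.1 hc) fun h' => hmF (mem_subgroupOf.1 h'),
        fun hc => absurd (mem_subgroupOf.1 hc) hne⟩)
  have hFx2 : 2 ≤ Nat.card Fx := (one_lt_card_iff_ne_bot Fx).2 fun e =>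
    hmF ((QuotientGroup.eq_one_iff _).1 (by rw [e, mem_bot] at hmFx; exact hmFx))
  have hdvd := Fx.card_subgroup_dvd_card
  rw [← index_eq_card, h.frattini_index] at hdvd
  have hFx4 : Nat.card Fx = 4 := by
    have hle := Nat.le_of_dvd (by norm_num) hdvd
    by_contra h4
    have hc2 : Nat.card Fx = 2 := by
      interval_cases hc : Nat.card Fx <;> omega
    rw [hc2] at hmod
    have := (Nat.modEq_iff_dvd' (by norm_num)).1 hmod.symm
    exact hr2 ((Nat.prime_dvd_prime_iff_eq hr Nat.prime_two).1 this)
  have htop : Fx = ⊤ := Fx.eq_top_of_card_eq (by rw [hFx4, ← index_eq_card, h.frattini_index])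
  have hx : (x : G ⧸ frattini G) ∈ Fx := htop ▸ mem_top _
  have hx' : β (x : G ⧸ frattini G) = (x : G ⧸ frattini G) := hx
  rw [hβ, MetacyclicTwoAut.quotAut_mk, eq_comm, QuotientGroup.eq] at hx'
  exact hx'

end CfsgLib.Bicyclic
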