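import Mathlib
import Cfsg.Agent.Lib.Bicyclic.EssBasic

/-!
# S5217, piece 3: automorphisms commuting with an automorphism of order three
-/

set_option autoImplicit false
set_option linter.style.haveILetI false

namespace CfsgLib.Bicyclic

open Cfsg Subgroup CfsgLib.PGroups
open scoped commutatorElement

universe u

variable {X : Type u} [Group X] [Finite X]

theorem trivial_of_commute_four (h4 : Nat.card X = 4) (β g : MulAut X)
    (hfix : ∀ v, β v = v → v = 1) (hg : IsPGroup 2 (zpowers g))
    (hc : ∀ v, g (β v) = β (g v)) (v : X) : g v = v := by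
  haveI : Fact (Nat.Prime 2) := ⟨Nat.prime_two⟩
  let Fx : Subgroup X := g.toMonoidHom.eqLocus (MonoidHom.id X)
  have hmod := hg.card_modEq_card_fixedPoints X
  have hfixed : Nat.card (MulAction.fixedPoints (zpowers g) X) = Nat.card Fx := by
    refine Nat.card_congr (Equiv.subtypeEquivRight fun w => ?_)
    constructor
    · intro hw
      exact hw ⟨g, mem_zpowers _⟩
    · rintro hw ⟨σ, i, rfl⟩
      have h1 : g ∈ MulAction.stabilizer (MulAut X) w := hw
      exact zpow_mem h1 i
  rw [hfixed, h4] at hmod
  have hne : Fx ≠ ⊥ := fun e => by rw [e, card_bot] at hmod; exact absurd hmod (by decide)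
  obtain ⟨w, hw, hw1⟩ := SetLike.not_le_iff_exists.1 fun hle => hne (le_bot_iff.1 hle)
  rw [mem_bot] at hw1
  have hβw : β w ∈ Fx := by
    show g (β w) = β w
    rw [hc w, show g w = w from hw]
  have hd := Fx.card_subgroup_dvd_card
  rw [h4] at hd
  have h3 : 3 ≤ Nat.card Fx := by
    classical
    haveI := Fintype.ofFinite Fx
    have h5 := Finset.card_le_univ ({1, ⟨w, hw⟩, ⟨β w, hβw⟩} : Finset Fx)
    rw [← Nat.card_eq_fintype_card] at h5
    have n1 : β w ≠ 1 := fun e => hw1 ((map_eq_one_iff β β.injective).1 e)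
    have n2 : w ≠ β w := fun e => hw1 (hfix w e.symm)
    simp [Subtype.ext_iff, Ne.symm hw1, Ne.symm n1, n2] at h5
    have h6 : Nat.card Fx = Fintype.card Fx := Nat.card_eq_fintype_card
    omega
  have h44 : Nat.card Fx = 4 := by
    have := Nat.le_of_dvd (by norm_num) hd
    interval_cases hc' : Nat.card Fx <;> omega
  have htop : Fx = ⊤ := Fx.eq_top_of_card_eq (by rw [h44, h4])
  exact (htop ▸ mem_top v : v ∈ Fx)

/-- Two independent elements generate. -/
theorem pair_top (hidx : (frattini X).index = 4) {x y : X} (hx : x ∉ frattini X)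
    (hy : y ∉ frattini X) (hxy : x⁻¹ * y ∉ frattini X) : closure ({x, y} : Set X) = ⊤ := by
  refine frattini_nongenerating ?_
  set H := closure ({x, y} : Set X) ⊔ frattini X
  have hle : frattini X ≤ H := le_sup_right
  have hxH : x ∈ H := mem_sup_left (subset_closure (by simp))
  have hyH : y ∈ H := mem_sup_left (subset_closure (by simp))
  by_contra hne
  have h1 : H.index ∣ 4 := hidx ▸ index_dvd_of_le hle
  have h2 : H.index ≠ 1 := fun h => hne (index_eq_one.1 h)
  have h3 : H.index ≠ 4 := fun h => hx (by
    have he : frattini X = H := eq_of_le_of_card_ge hle (by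
      have e1 := (frattini X).card_mul_index
      have e2 := H.card_mul_index
      rw [hidx] at e1
      rw [h] at e2
      omega)
    rw [he]
    exact hxH)
  have hH : H.index = 2 := by
    obtain ⟨i, hi, he⟩ := (Nat.dvd_prime_pow (m := 2) Nat.prime_two).1 h1
    interval_cases i <;> omega
  have hrel : ((frattini X).subgroupOf H).index = 2 := by
    have := relIndex_mul_index hle
    rw [hH, hidx] at this
    show (frattini X).relIndex H = 2
    omega
  exact hxy (mem_subgroupOf.1 ((mul_mem_iff_of_index_two hrel (a := (⟨x, hxH⟩ : H)⁻¹)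
    (b := ⟨y, hyH⟩)).2 ⟨fun h => absurd (inv_mem_iff.1 h) fun h' => hx (mem_subgroupOf.1 h'),
      fun h => absurd (mem_subgroupOf.1 h) hy⟩))

theorem fix_small {K : Subgroup X} [K.Characteristic] (hK : Nat.card K ≤ 2) (φ : MulAut X)
    {x : X} (hx : x ∈ K) : φ x = x := by
  by_cases hx1 : x = 1
  · rw [hx1, map_one]
  have hφ : φ x ∈ K := (characteristic_iff_comap_eq.1 (inferInstance : K.Characteristic) φ).ge hx
  by_contra hne
  classical
  haveI := Fintype.ofFinite K
  have h5 := Finset.card_le_univ ({1, ⟨x, hx⟩, ⟨φ x, hφ⟩} : Finset K)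
  rw [← Nat.card_eq_fintype_card] at h5
  have n1 : φ x ≠ 1 := fun e => hx1 ((map_eq_one_iff φ φ.injective).1 e)
  simp [Subtype.ext_iff, Ne.symm hx1, Ne.symm n1, Ne.symm hne] at h5
  have h6 : Nat.card K = Fintype.card K := Nat.card_eq_fintype_card
  omega

/-- A 2-automorphism commuting with a fixed-point-free automorphism of order three is trivial, if
the Frattini subgroup has order at most two. -/
theorem trivial_of_commute (h2 : IsPGroup 2 X) (hidx : (frattini X).index = 4)
    (hΦ : Nat.card (frattini X) ≤ 2) (β g : MulAut X)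
    (hfix : ∀ x : X, x⁻¹ * β x ∈ frattini X → x ∈ frattini X)
    (hg : IsPGroup 2 (zpowers g)) (hc : ∀ x, g (β x) = β (g x)) (v : X) : g v = v := by
  haveI : Fact (Nat.Prime 2) := ⟨Nat.prime_two⟩
  set K := frattini X with hK
  set π := MetacyclicTwoAut.quotAut K with hπ
  have hq : ∀ x : X, x⁻¹ * g x ∈ K := by
    intro x
    have h := trivial_of_commute_four (X := X ⧸ K) (by rw [← index_eq_card, hidx]) (π β) (π g)
      (fun w => by
        induction w using QuotientGroup.induction_on with
        | H y =>
          rw [hπ, MetacyclicTwoAut.quotAut_mk, eq_comm, QuotientGroup.eq, QuotientGroup.eq_one_iff]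
          exact hfix y)
      (fun w => by
        obtain ⟨σ, i, hi⟩ := w
        obtain ⟨k, hk⟩ := hg ⟨g, mem_zpowers g⟩
        refine ⟨k, Subtype.ext ?_⟩
        show σ ^ 2 ^ k = 1
        rw [← hi]
        show ((π g) ^ i) ^ 2 ^ k = 1
        have hk' : g ^ 2 ^ k = 1 := congrArg Subtype.val hk
        have h1 : (π g) ^ 2 ^ k = 1 := MulEquiv.ext fun w => by
          induction w using QuotientGroup.induction_on with
          | H y => rw [hπ, MetacyclicTwoAut.quotAut_pow, hk']; rfl
        rw [← zpow_natCast ((π g) ^ i), ← zpow_mul, mul_comm, zpow_mul, zpow_natCast, h1, one_zpow])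
      (fun w => by
        induction w using QuotientGroup.induction_on with
        | H y =>
          simp only [hπ, MetacyclicTwoAut.quotAut_mk]
          rw [hc])
      (x : X ⧸ K)
    rw [hπ, MetacyclicTwoAut.quotAut_mk, eq_comm, QuotientGroup.eq] at h
    exact h
  let F0 : Subgroup X := g.toMonoidHom.eqLocus (MonoidHom.id X)
  have hβF : ∀ x ∈ F0, β x ∈ F0 := fun x hx => by
    show g (β x) = β x
    rw [hc x, show g x = x from hx]
  obtain ⟨x, -, hx⟩ : ∃ x ∈ (⊤ : Subgroup X), x ∉ K := SetLike.not_le_iff_exists.1 fun hle => by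
    rw [top_le_iff.1 hle, index_top] at hidx
    omega
  set y := x * β x with hy
  have hyF : y ∈ F0 := by
    show g y = y
    set e := x⁻¹ * g x with he
    have heK : e ∈ K := hq x
    have hgx : g x = x * e := by rw [he, mul_inv_cancel_left]
    have hee : e * e = 1 := by
      by_cases he1 : e = 1
      · rw [he1, one_mul]
      by_contra hne
      classical
      haveI := Fintype.ofFinite K
      have h5 := Finset.card_le_univ ({1, ⟨e, heK⟩, ⟨e * e, mul_mem heK heK⟩} : Finset K)
      rw [← Nat.card_eq_fintype_card] at h5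
      have n2 : e ≠ e * e := fun h => he1 (mul_eq_left.1 h.symm)
      simp [Subtype.ext_iff, Ne.symm he1, Ne.symm hne, n2] at h5
      have h6 : Nat.card K = Fintype.card K := Nat.card_eq_fintype_card
      omega
    have hez : ∀ w : X, w * e * w⁻¹ = e := fun w => fix_small hΦ (MulAut.conj w) heK
    rw [hy, map_mul, hgx, hc x, hgx, map_mul, fix_small hΦ β heK,
      show x * e * (β x * e) = x * (e * β x) * e by group,
      (mul_inv_eq_iff_eq_mul.1 (hez (β x))).symm,
      show x * (β x * e) * e = x * β x * (e * e) by group, hee, mul_one]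
  have hyK : y ∉ K := fun h => hx (hfix x (by
    have h1 : x⁻¹ * β x = (x⁻¹ * x⁻¹) * y := by rw [hy]; group
    rw [h1]
    refine mul_mem ?_ h
    rw [← sq]
    exact pow_mem_frattini h2 _))
  have hyK' : β y ∉ K := fun h => hyK
    ((characteristic_iff_comap_eq.1 (inferInstance : K.Characteristic) β).le h)
  have htop := pair_top hidx hyK hyK' (fun h => hyK (hfix y h))
  have hle : closure ({y, β y} : Set X) ≤ F0 := (closure_le _).2 (by
    rintro w (rfl | rfl)
    exacts [hyF, hβF _ hyF])
  rw [htop] at hle
  exact hle (mem_top v)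

end CfsgLib.Bicyclic
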