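import Mathlib
import Cfsg.Prelude.Def_EvenType
import Cfsg.Agent.Lib.Bicyclic.Defs

/-!
# S5217, piece 3: interface for the analysis of an essential subgroup
-/

set_option autoImplicit false

namespace CfsgLib.Bicyclic

open Cfsg Subgroup

universe u v

/-- A centric subgroup `P` with `N(P)/P` of order two and an automorphism of order three inverted by
`τ`. -/
structure EssData (G : Type u) [Group G] (P : Subgroup G) (τ : G) (α : MulAut P) : Prop where
  cent : centralizer (P : Set G) ≤ P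
  tau_not_mem : τ ∉ P
  tau_sq : τ * τ ∈ P
  norm : normalizer (P : Set G) = P ⊔ zpowers τ
  cube : α ^ 3 = 1
  ne_one : α ≠ 1
  inverts : ∀ x y : P, (y : G) = τ * (x : G) * τ⁻¹ → ((α⁻¹ y : P) : G) = τ * (α x : G) * τ⁻¹

/-- The outer automorphism group of an essential subgroup acting on its Frattini quotient. -/
def StmtGLThree : Prop := ∀ (V : Type u) (O : Type v) [Group V] [Finite V] [Group O] [Finite O]
  (f : O →* MulAut V), Function.Injective f → (∀ x : V, x * x = 1) → Nat.card V ≤ 8 →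
  ∀ E : Subgroup O, IsStronglyPEmbedded 2 E →
    ¬ 4 ∣ Nat.card O ∧ ∃ x t : O, x ^ 3 = 1 ∧ x ≠ 1 ∧ t * t = 1 ∧ t ≠ 1 ∧ t * x * t⁻¹ = x⁻¹

/-- The homocyclic case: no automorphism is needed any more. -/
def StmtEssHomo : Prop := ∀ (G : Type u) [Group G] [Finite G] (M : Subgroup G), Shape G M →
  ∀ (P Q C : Subgroup G) (τ a b : G) (k : ℕ), 2 ≤ k → orderOf a = 2 ^ k → τ * a * τ⁻¹ = b →
    Commute a b → zpowers a ⊓ zpowers b = ⊥ → Q = zpowers a ⊔ zpowers b → IsCyclic ↥C →
    Q ⊓ C = ⊥ → Q ⊔ C = P → τ ∈ normalizer (C : Set G) → τ ∉ P → τ * τ ∈ P →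
    normalizer (P : Set G) = P ⊔ zpowers τ →
    (∀ c ∈ C, ∃ x : ℤ, c * a * c⁻¹ = a ^ x ∧ c * b * c⁻¹ = b ^ x) →
    IsCyclic ↥(commutator G)

/-- The commutator part `[P, α]` of an essential subgroup is metacyclic. -/
def StmtQStruct : Prop := ∀ (X : Type u) [Group X] [Finite X], IsPGroup 2 X →
  ∀ β : MulAut X, β ^ 3 = 1 → β ≠ 1 → closure (Set.range fun x : X => x⁻¹ * β x) = ⊤ →
    (frattini X).index ≤ 8 → ∀ Y : Subgroup X, Y.index ≤ 2 → IsMetacyclic ↥Y → IsMetacyclic X

/-- An essential datum yields one of the three alternatives. -/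
def StmtEssCore : Prop := ∀ (G : Type u) [Group G] [Finite G] (M : Subgroup G), Shape G M →
  ∀ (P : Subgroup G) (τ : G) (α : MulAut P), EssData G P τ α → IsCyclic ↥(commutator G) ∨
    (∃ (e z τ : G) (C : Subgroup G), FourData G e z τ C) ∨ ∃ i j τ : G, QuatData G i j τ

end CfsgLib.Bicyclic
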