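import Mathlib
import Cfsg.Agent.Lib.Bicyclic.EssDefs
import Cfsg.Agent.Lib.Bicyclic.EssAction

/-!
# S5217, piece 3: the decomposition `P = [P, α] C_P(α)`
-/

set_option autoImplicit false
set_option linter.style.haveILetI false
set_option linter.unusedSectionVars false
set_option linter.unusedVariables false

namespace CfsgLib.Bicyclic

open Cfsg Subgroup CfsgLib.PGroups
open scoped commutatorElement

universe u

variable {X : Type u} [Group X] [Finite X] (α : MulAut X)

/-- `[X, α]`. -/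
def commPart : Subgroup X := closure (Set.range fun x : X => x⁻¹ * α x)

/-- `C_X(α)`. -/
def fixPart : Subgroup X := α.toMonoidHom.eqLocus (MonoidHom.id X)

theorem mem_fixPart {x : X} : x ∈ fixPart α ↔ α x = x := Iff.rfl

theorem gen_mem (x : X) : x⁻¹ * α x ∈ commPart α := subset_closure ⟨x, rfl⟩

theorem conj_gen (g x : X) : g * (x⁻¹ * α x) * g⁻¹ ∈ commPart α := by
  have h : g * (x⁻¹ * α x) * g⁻¹ =
      ((x * g⁻¹)⁻¹ * α (x * g⁻¹)) * (g⁻¹⁻¹ * α g⁻¹)⁻¹ := by
    rw [map_mul, map_inv]; group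
  rw [h]
  exact mul_mem (gen_mem α _) (inv_mem (gen_mem α _))

instance commPart_normal : (commPart α).Normal := by
  constructor
  intro n hn g
  induction hn using closure_induction with
  | mem y hy => obtain ⟨x, rfl⟩ := hy; exact conj_gen α g x
  | one => simp
  | mul a b _ _ ha hb =>
    rw [show g * (a * b) * g⁻¹ = g * a * g⁻¹ * (g * b * g⁻¹) by group]
    exact mul_mem ha hb
  | inv a _ ha =>
    rw [show g * a⁻¹ * g⁻¹ = (g * a * g⁻¹)⁻¹ by group]
    exact inv_mem ha

theorem commPart_map {φ : MulAut X} (h : ∀ x, φ (α x) = α (φ x) ∨ φ (α x) = α⁻¹ (φ x)) {y : X}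
    (hy : y ∈ commPart α) : φ y ∈ commPart α := by
  refine (closure_le ((commPart α).comap φ.toMonoidHom)).2 ?_ hy
  rintro _ ⟨x, rfl⟩
  show φ (x⁻¹ * α x) ∈ commPart α
  rw [map_mul, map_inv]
  rcases h x with h' | h' <;> rw [h']
  · exact gen_mem α _
  · have h2 : (φ x)⁻¹ * α⁻¹ (φ x) = ((α⁻¹ (φ x))⁻¹ * α (α⁻¹ (φ x)))⁻¹ := by
      rw [MulAut.apply_inv_self]; group
    rw [h2]
    exact inv_mem (gen_mem α _)

/-- The restriction to `[X, α]`. -/
noncomputable def restr : MulAut (commPart α) :=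
  MulEquiv.ofBijective
    ({ toFun := fun x => ⟨α x, commPart_map α (φ := α) (fun _ => Or.inl rfl) x.2⟩
       map_one' := Subtype.ext (map_one α)
       map_mul' := fun a b => Subtype.ext (map_mul α _ _) } : commPart α →* commPart α)
    ((Finite.injective_iff_bijective).1 fun a b h =>
      Subtype.ext (α.injective (congrArg Subtype.val h)))

theorem restr_coe (x : commPart α) : (restr α x : X) = α x := rfl

theorem restr_pow (i : ℕ) (x : commPart α) : ((restr α ^ i) x : X) = (α ^ i) x := by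
  induction i generalizing x with
  | zero => rfl
  | succ i ih => rw [pow_succ, MulAut.mul_apply, ih, pow_succ, MulAut.mul_apply, restr_coe]

variable {α} (h2 : IsPGroup 2 X) (hα : α ^ 3 = 1)

include h2 hα in
theorem split_top : commPart α ⊔ fixPart α = ⊤ := by
  rw [eq_top_iff]
  intro x _
  set Q := commPart α
  let Y := {y : X // x⁻¹ * y ∈ Q}
  have hstep : ∀ y : X, x⁻¹ * y ∈ Q → x⁻¹ * α y ∈ Q := fun y hy => by
    rw [show x⁻¹ * α y = (x⁻¹ * y) * (y⁻¹ * α y) by group]
    exact mul_mem hy (gen_mem α y)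
  let σ : Function.End Y := fun y => ⟨α y, hstep _ y.2⟩
  have hσ : σ ^ 3 ^ 1 = 1 := funext fun y => Subtype.ext (by
    show α (α (α (y : X))) = y
    rw [← MulAut.mul_apply, ← MulAut.mul_apply, show α * α * α = α ^ 3 by simp [pow_succ], hα]
    rfl)
  classical
  haveI : Fact (Nat.Prime 3) := ⟨Nat.prime_three⟩
  haveI := Fintype.ofFinite Y
  have hmod := Equiv.Perm.card_fixedPoints_modEq (p := 3) hσ
  have e : Y ≃ Q :=
    { toFun := fun y => ⟨x⁻¹ * y, y.2⟩
      invFun := fun f => ⟨x * f, by simp⟩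
      left_inv := fun y => Subtype.ext (mul_inv_cancel_left x _)
      right_inv := fun f => Subtype.ext (inv_mul_cancel_left x _) }
  obtain ⟨k, hk⟩ := IsPGroup.iff_card.1 (h2.to_subgroup Q)
  have hne : Fintype.card (Function.fixedPoints σ) ≠ 0 := fun h0 => by
    rw [h0, ← Nat.card_eq_fintype_card, Nat.card_congr e, hk, Nat.modEq_zero_iff_dvd] at hmod
    exact absurd ((Nat.prime_dvd_prime_iff_eq Nat.prime_three Nat.prime_two).1
      (Nat.prime_three.dvd_of_dvd_pow hmod)) (by norm_num)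
  obtain ⟨⟨y, hy⟩⟩ := Fintype.card_pos_iff.1 (Nat.pos_of_ne_zero hne)
  have hyf : (y : X) ∈ fixPart α := congrArg Subtype.val hy
  have := mul_mem (mem_sup_right (inv_mem hyf) : _ ∈ Q ⊔ fixPart α) (mem_sup_left
    (show (y : X) * (x⁻¹ * y) * (y : X)⁻¹ ∈ Q from
      (commPart_normal α).conj_mem _ y.2 _))
  rw [show (y : X)⁻¹ * ((y : X) * (x⁻¹ * y) * (y : X)⁻¹) = x⁻¹ by group] at this
  simpa using inv_mem this

include h2 hα in
theorem exists_decomp (x : X) : ∃ q ∈ commPart α, ∃ c ∈ fixPart α, x = q * c := by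
  obtain ⟨q, hq, c, hc, h⟩ := mem_sup_of_normal_left.1 (split_top h2 hα ▸ mem_top x :
    x ∈ commPart α ⊔ fixPart α)
  exact ⟨q, hq, c, hc, h.symm⟩

include h2 hα in
theorem restr_gen : closure (Set.range fun x : commPart α => x⁻¹ * restr α x) = ⊤ := by
  rw [eq_top_iff]
  rintro ⟨y, hy⟩ -
  let T := (closure (Set.range fun x : commPart α => x⁻¹ * restr α x)).map (commPart α).subtype
  suffices h : commPart α ≤ T by
    obtain ⟨z, hz, hzy⟩ := h hy
    rwa [show (⟨y, hy⟩ : commPart α) = z from Subtype.ext hzy.symm]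
  refine (closure_le T).2 ?_
  rintro _ ⟨x, rfl⟩
  obtain ⟨q, hq, c, hc, rfl⟩ := exists_decomp h2 hα x
  have hq' : c⁻¹ * q * c ∈ commPart α := by
    simpa using (commPart_normal α).conj_mem q hq c⁻¹
  refine ⟨⟨c⁻¹ * q * c, hq'⟩⁻¹ * restr α ⟨c⁻¹ * q * c, hq'⟩, subset_closure ⟨_, rfl⟩, ?_⟩
  show (c⁻¹ * q * c)⁻¹ * α (c⁻¹ * q * c) = (q * c)⁻¹ * α (q * c)
  rw [map_mul, map_mul, map_mul, map_inv, (mem_fixPart α).1 hc]
  group

theorem restr_cube (hα : α ^ 3 = 1) : restr α ^ 3 = 1 :=
  MulEquiv.ext fun x => Subtype.ext (by rw [restr_pow, hα]; rfl)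

include h2 hα in
theorem restr_ne_one (hα1 : α ≠ 1) : restr α ≠ 1 := fun h => hα1 (by
  have hg := restr_gen h2 hα
  have hbot : (⊤ : Subgroup (commPart α)) ≤ ⊥ := by
    rw [← hg, closure_le]
    rintro _ ⟨x, rfl⟩
    simp [h]
  refine MulEquiv.ext fun x => ?_
  have hx : (⟨x⁻¹ * α x, gen_mem α x⟩ : commPart α) = 1 := mem_bot.1 (hbot (mem_top _))
  exact (inv_mul_eq_one.1 (congrArg Subtype.val hx)).symm)

include h2 hα in
/-- `X` is generated by `[X, α]` and one fixed element. -/
theorem exists_fix_gen (hα1 : α ≠ 1) (h8 : (frattini X).index ≤ 8) :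
    ∃ c ∈ fixPart α, commPart α ⊔ zpowers c = ⊤ := by
  haveI : Fact (Nat.Prime 3) := ⟨Nat.prime_three⟩
  set K := frattini X with hK
  set π := QuotientGroup.mk' K
  set N := (commPart α).map π with hN
  obtain ⟨x, hx⟩ : ∃ x : X, ¬ (x⁻¹ * α x)⁻¹ * α (x⁻¹ * α x) ∈ K := by
    by_contra hcon
    push Not at hcon
    have h22 : (α ^ 2) ^ 3 = 1 := by rw [← pow_mul, mul_comm, pow_mul, hα, one_pow]
    have h20 : α ^ 2 = 1 := MetacyclicTwoAut.eq_one_of_trivial h2 (r := 3) (by norm_num) h22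
      fun y => by
        show y⁻¹ * α (α y) ∈ K
        set d := y⁻¹ * α y with hd
        have h1 : α y = y * d := by rw [hd, mul_inv_cancel_left]
        have h3 : d * d ∈ K := by rw [← sq]; exact pow_mem_frattini h2 d
        rw [h1, map_mul, h1, show y⁻¹ * (y * d * α d) = (d * d) * (d⁻¹ * α d) by group]
        exact mul_mem h3 (hcon y)
    refine hα1 ?_
    calc α = α ^ 3 * (α ^ 2)⁻¹ := by group
      _ = 1 := by rw [hα, h20, one_mul, inv_one]
  set d := x⁻¹ * α x with hd
  have hdK : d ∉ K := fun h => hx (mul_mem (inv_mem h)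
    ((characteristic_iff_comap_eq.1 (inferInstance : K.Characteristic) α).ge h))
  have hαdK : α d ∉ K := fun h => hdK
    ((characteristic_iff_comap_eq.1 (inferInstance : K.Characteristic) α).le h)
  have hN4 : 4 ≤ Nat.card N := by
    classical
    haveI := Fintype.ofFinite N
    have m1 : π d ∈ N := mem_map_of_mem π (gen_mem α x)
    have m2 : π (α d) ∈ N :=
      mem_map_of_mem π (commPart_map α (φ := α) (fun _ => Or.inl rfl) (gen_mem α x))
    have h5 := Finset.card_le_univ ({1, ⟨π d, m1⟩, ⟨π (α d), m2⟩} : Finset N)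
    rw [← Nat.card_eq_fintype_card] at h5
    have n1 : π d ≠ 1 := fun h => hdK ((QuotientGroup.eq_one_iff _).1 h)
    have n2 : π (α d) ≠ 1 := fun h => hαdK ((QuotientGroup.eq_one_iff _).1 h)
    have n3 : π d ≠ π (α d) := fun h => hx (QuotientGroup.eq.1 h)
    simp [Subtype.ext_iff, Ne.symm n1, Ne.symm n2, n3] at h5
    have h6 : Nat.card N = Fintype.card N := Nat.card_eq_fintype_card
    obtain ⟨j, hj⟩ := IsPGroup.iff_card.1 ((h2.to_quotient K).to_subgroup N)
    rw [hj] at h6 ⊢
    rcases j with _ | _ | j <;> simp [pow_succ] at h6 ⊢ <;> omega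
  have hW : (N.comap π).index ≤ 2 := by
    rw [index_comap_of_surjective N (QuotientGroup.mk'_surjective K)]
    have e := N.card_mul_index
    rw [← index_eq_card] at e
    have := Nat.mul_le_mul hN4 (le_refl N.index)
    omega
  have hWle : N.comap π ≤ commPart α ⊔ K := by
    intro z hz
    obtain ⟨q, hq, hqz⟩ := hz
    have := QuotientGroup.eq.1 hqz
    have := mul_mem (mem_sup_left hq : q ∈ commPart α ⊔ K) (mem_sup_right this)
    rwa [mul_inv_cancel_left] at this
  have hKW : K ≤ N.comap π := fun k hk => ⟨1, one_mem _, by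
    rw [map_one, eq_comm]
    exact (QuotientGroup.eq_one_iff k).2 hk⟩
  by_cases htop : N.comap π = ⊤
  · refine ⟨1, one_mem _, frattini_nongenerating (top_le_iff.1 (le_trans ?_
      (sup_le_sup_right le_sup_left K)))⟩
    rw [← htop]
    exact hWle
  · obtain ⟨y, -, hy⟩ := SetLike.not_le_iff_exists.1 fun hle => htop (top_le_iff.1 hle)
    obtain ⟨q, hq, c, hc, rfl⟩ := exists_decomp h2 hα y
    refine ⟨c, hc, frattini_nongenerating ?_⟩
    rw [eq_top_iff]
    intro z _
    have hqW : q ∈ N.comap π := mem_comap.2 (mem_map_of_mem π hq)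
    have hcW : c ∉ N.comap π := fun h => hy (mul_mem hqW h)
    have hidx : (N.comap π).index = 2 := le_antisymm hW (by
      have h0 : (N.comap π).index ≠ 0 := Subgroup.index_ne_zero_of_finite
      have h1 : (N.comap π).index ≠ 1 := fun h => htop (index_eq_one.1 h)
      omega)
    have hup : N.comap π ≤ commPart α ⊔ zpowers c ⊔ K :=
      hWle.trans (sup_le_sup_right le_sup_left K)
    by_cases hz : z ∈ N.comap π
    · exact hup hz
    · have hcz : c⁻¹ * z ∈ N.comap π := (mul_mem_iff_of_index_two hidx).2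
        ⟨fun h => absurd (inv_mem_iff.1 h) hcW, fun h => absurd h hz⟩
      have := mul_mem (mem_sup_left (mem_sup_right (mem_zpowers c)) :
        c ∈ commPart α ⊔ zpowers c ⊔ K) (hup hcz)
      rwa [mul_inv_cancel_left] at this

end CfsgLib.Bicyclic
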