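import Mathlib
import Cfsg.Agent.Lib.Bicyclic.EssSplit
import Cfsg.Agent.Lib.Fusion.SylowAux

/-!
# S5217, piece 3: the analysis of an essential datum
-/

set_option autoImplicit false
set_option linter.style.haveILetI false
set_option linter.unusedSectionVars false
set_option linter.unusedSimpArgs false
set_option linter.unusedVariables false

namespace CfsgLib.Bicyclic

open Cfsg Subgroup CfsgLib.PGroups
open scoped commutatorElement

universe u

variable {G : Type u} [Group G] [Finite G] {M : Subgroup G} (hM : Shape G M) {P : Subgroup G}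
  {τ : G} {α : MulAut P} (hD : EssData G P τ α)

/-- The quaternion facts used. -/
theorem quat_facts :
    ∃ z : QuaternionGroup 2, z ≠ 1 ∧ z * z = 1 ∧ (∀ x, x ≠ 1 → x ≠ z → x * x = z) ∧
      ∀ x y, x * x = z → y * y = z → y ≠ x → y ≠ x * z → y * x * y⁻¹ = x⁻¹ :=
  ⟨QuaternionGroup.a 2, by decide, by decide, by decide, by decide⟩

/-- A non-metacyclic-free consequence: every proper subgroup is close to a metacyclic one. -/
theorem Shape.exists_meta {M : Subgroup G} (h : Shape G M) (X : Subgroup G) (hX : X ≠ ⊤) :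
    ∃ Y : Subgroup X, Y.index ≤ 2 ∧ IsMetacyclic Y := by
  by_cases hm : IsMetacyclic X
  · exact ⟨⊤, by rw [index_top]; norm_num,
      CfsgLib.Fusion.MetacyclicTwo.isMetacyclic_subgroup hm ⊤⟩
  have hXM : X ≤ M := (h.le_of_not_meta X hm).resolve_left hX
  refine ⟨(frattini G).subgroupOf X, ?_, ?_⟩
  · show (frattini G).relIndex X ≤ 2
    refine le_trans (relIndex_le_of_le_right hXM ?_) (le_of_eq ?_)
    · exact Subgroup.index_ne_zero_of_finite
    · have := relIndex_mul_index h.frattini_le
      rw [h.index, h.frattini_index] at this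
      omega
  · refine OddOrder.isMetacyclic_of_surjective (H := ↥((X ⊓ frattini G).subgroupOf (frattini G)))
      ?_ ?_ (CfsgLib.Fusion.MetacyclicTwo.isMetacyclic_subgroup h.frattini_meta _)
    · exact
        { toFun := fun y => ⟨⟨((y : ↥(frattini G)) : G), (mem_subgroupOf.1 y.2).1⟩,
            mem_subgroupOf.2 (y : ↥(frattini G)).2⟩
          map_one' := rfl
          map_mul' := fun _ _ => rfl }
    · intro y
      exact ⟨⟨⟨((y : ↥X) : G), mem_subgroupOf.1 y.2⟩,
        mem_subgroupOf.2 ⟨(y : ↥X).2, mem_subgroupOf.1 y.2⟩⟩, rfl⟩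

theorem frattini_index_equiv {X Y : Type u} [Group X] [Finite X] [Group Y] [Finite Y]
    (hY : IsPGroup 2 Y) (e : X ≃* Y) : (frattini Y).index ≤ (frattini X).index := by
  haveI : Fact (Nat.Prime 2) := ⟨Nat.prime_two⟩
  have hle : (frattini X).map e.toMonoidHom ≤ frattini Y := by
    rw [map_le_iff_le_comap]
    refine frattini_le_of_elementary_quotient (p := 2) ?_ fun g => ?_
    · rw [_root_.commutator_def, Subgroup.commutator_le]
      intro a _ b _
      show e.toMonoidHom ⁅a, b⁆ ∈ frattini Y
      rw [map_commutatorElement]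
      exact commutator_le_frattini hY (commutator_mem_commutator (mem_top _) (mem_top _))
    · show e.toMonoidHom (g ^ 2) ∈ frattini Y
      rw [map_pow]
      exact pow_mem_frattini hY _
  exact le_trans (Nat.le_of_dvd (Nat.pos_of_ne_zero Subgroup.index_ne_zero_of_finite)
    (index_dvd_of_le hle)) (le_of_eq (index_map_equiv _ e))

include hD in
theorem tau_norm : τ ∈ normalizer (P : Set G) := by
  rw [hD.norm]
  exact mem_sup_right (mem_zpowers τ)

/-- Conjugation by `τ`. -/
noncomputable def tAut : MulAut P := P.normalizerMonoidHom ⟨τ, tau_norm hD⟩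

theorem tAut_coe (x : P) : ((tAut hD x : P) : G) = τ * (x : G) * τ⁻¹ := rfl

theorem tAut_alpha (x : P) : tAut hD (α x) = α⁻¹ (tAut hD x) :=
  Subtype.ext (hD.inverts x (tAut hD x) rfl).symm

include hD in
theorem norm_cases {g : G} (hg : g ∈ normalizer (P : Set G)) : g ∈ P ∨ τ⁻¹ * g ∈ P := by
  have hc : ∀ p ∈ P, τ * p * τ⁻¹ ∈ P := fun p hp => (mem_normalizer_iff.1 (tau_norm hD) p).1 hp
  have hc' : ∀ p ∈ P, τ⁻¹ * p * τ ∈ P := fun p hp => (mem_normalizer_iff''.1 (tau_norm hD) p).1 hp
  let K : Subgroup G :=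
    { carrier := {g | g ∈ P ∨ τ⁻¹ * g ∈ P}
      one_mem' := Or.inl (one_mem P)
      mul_mem' := fun {a b} ha hb => by
        rcases ha with ha | ha <;> rcases hb with hb | hb
        · exact Or.inl (mul_mem ha hb)
        · right
          rw [show τ⁻¹ * (a * b) = (τ⁻¹ * a * τ) * (τ⁻¹ * b) by group]
          exact mul_mem (hc' a ha) hb
        · right
          rw [← mul_assoc]
          exact mul_mem ha hb
        · left
          rw [show a * b = (τ * (τ⁻¹ * a) * τ⁻¹) * (τ * τ) * (τ⁻¹ * b) by group]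
          exact mul_mem (mul_mem (hc _ ha) hD.tau_sq) hb
      inv_mem' := fun {a} ha => by
        rcases ha with ha | ha
        · exact Or.inl (inv_mem ha)
        · right
          rw [show τ⁻¹ * a⁻¹ = (τ⁻¹ * (τ⁻¹ * a)⁻¹ * τ) * (τ * τ)⁻¹ by group]
          exact mul_mem (hc' _ (inv_mem ha)) (inv_mem hD.tau_sq) }
  have hle : P ⊔ zpowers τ ≤ K := sup_le (fun p hp => Or.inl hp)
    (zpowers_le.2 (Or.inr (by rw [inv_mul_cancel]; exact one_mem P)))
  exact hle (hD.norm ▸ hg)

include hM hD in
theorem eq_of_le_norm {H : Subgroup G} (hle : P ≤ H) (hτ : τ ∉ H) : H = P := by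
  haveI : Fact (Nat.Prime 2) := ⟨Nat.prime_two⟩
  by_contra hne
  obtain ⟨g, hg, hgP⟩ := SetLike.exists_of_lt
    (CfsgLib.Fusion.lt_inf_normalizer (hM.pgroup.to_subgroup H) (lt_of_le_of_ne hle (Ne.symm hne)))
  rcases norm_cases hD hg.2 with h | h
  · exact hgP h
  · refine hτ ?_
    rw [show τ = g * (τ⁻¹ * g)⁻¹ by group]
    exact mul_mem hg.1 (inv_mem (hle h))

/-- Everything known about `X = [P, α]` and the element `c` generating modulo it. -/
structure CoreCtx (G : Type u) [Group G] [Finite G] (P : Subgroup G) (τ : G) (α : MulAut P) (c : P) : Prop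
    where
  data : EssData G P τ α
  meta' : IsMetacyclic ↥(commPart α)
  ne : restr α ≠ 1
  cube : restr α ^ 3 = 1
  fix : α c = c
  gen : commPart α ⊔ zpowers c = ⊤

section ctx

variable {c : P} (K : CoreCtx G P τ α c)

/-- `tAut` on `[P, α]`. -/
theorem tAut_mem (x : commPart α) : tAut hD x ∈ commPart α :=
  commPart_map α (φ := tAut hD) (fun y => Or.inr (tAut_alpha hD y)) x.2

noncomputable def tRestr : MulAut (commPart α) :=
  MulEquiv.ofBijective
    ({ toFun := fun x => ⟨tAut hD x, tAut_mem hD x⟩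
       map_one' := Subtype.ext (map_one (tAut hD))
       map_mul' := fun a b => Subtype.ext (map_mul (tAut hD) _ _) } : commPart α →* commPart α)
    ((Finite.injective_iff_bijective).1 fun a b h =>
      Subtype.ext ((tAut hD).injective (congrArg Subtype.val h)))

theorem tRestr_coe (x : commPart α) : ((tRestr hD x : P) : G) = τ * ((x : P) : G) * τ⁻¹ := rfl

theorem tRestr_restr (x : commPart α) :
    tRestr hD (restr α x) = (restr α)⁻¹ (tRestr hD x) := by
  have h : restr α (tRestr hD (restr α x)) = tRestr hD x := Subtype.ext (by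
    show α (tAut hD (α x)) = tAut hD x
    rw [tAut_alpha hD, MulAut.apply_inv_self])
  conv_rhs => rw [← h]
  rw [MulAut.inv_apply_self]

include hM in
theorem pgroup_X : IsPGroup 2 (commPart α) := (hM.pgroup.to_subgroup P).to_subgroup _

include hM K in
theorem idx_fix : (frattini ↥(commPart α)).index = 4 ∧
    ∀ x : commPart α, x⁻¹ * restr α x ∈ frattini ↥(commPart α) → x ∈ frattini ↥(commPart α) := by
  haveI : Fact (Nat.Prime 3) := ⟨Nat.prime_three⟩
  exact MetacyclicTwoAut.frattini_quotient (pgroup_X hM) K.meta' (r := 3) (by norm_num) K.cube K.ne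

include hM hD K in
theorem exists_moved : ∃ x : commPart α, x ∉ frattini ↥(commPart α) ∧
    tRestr hD x ∉ frattini ↥(commPart α) ∧ x⁻¹ * tRestr hD x ∉ frattini ↥(commPart α) := by
  obtain ⟨hidx, hfix⟩ := idx_fix hM K
  set F := frattini ↥(commPart α) with hF
  have hchar : ∀ (φ : MulAut (commPart α)) (y : commPart α), φ y ∈ F ↔ y ∈ F := fun φ y =>
    ⟨fun h => (characteristic_iff_comap_eq.1 (inferInstance : F.Characteristic) φ).le h,
      fun h => (characteristic_iff_comap_eq.1 (inferInstance : F.Characteristic) φ).ge h⟩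
  obtain ⟨x, hx, hmv⟩ : ∃ x, x ∉ F ∧ x⁻¹ * tRestr hD x ∉ F := by
    by_contra hcon
    push Not at hcon
    obtain ⟨x, -, hx⟩ := SetLike.not_le_iff_exists.1 (fun hle => by
      rw [top_le_iff.1 hle, index_top] at hidx
      omega : ¬ (⊤ : Subgroup (commPart α)) ≤ F)
    have e : ∀ y : commPart α, y ∉ F → ((tRestr hD y : commPart α) : commPart α ⧸ F) = y :=
      fun y hy => (QuotientGroup.eq.2 (hcon y hy)).symm
    set b := restr α
    have hb : b x ∉ F := fun h => hx ((hchar b x).1 h)
    have h1 := e _ hb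
    rw [tRestr_restr] at h1
    have h2 : ((b (b⁻¹ (tRestr hD x)) : commPart α) : commPart α ⧸ F) = (b (b x) : commPart α) := by
      rw [← MetacyclicTwoAut.quotAut_mk F b, ← MetacyclicTwoAut.quotAut_mk F b (b x), h1]
    rw [MulAut.apply_inv_self, e x hx] at h2
    have h3 : ((b x : commPart α) : commPart α ⧸ F) = (b (b (b x)) : commPart α) := by
      rw [← MetacyclicTwoAut.quotAut_mk F b x, ← MetacyclicTwoAut.quotAut_mk F b (b (b x)), h2]
    rw [show b (b (b x)) = (b ^ 3) x from rfl, K.cube, MulAut.one_apply] at h3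
    exact hx (hfix x (QuotientGroup.eq.1 h3.symm))
  exact ⟨x, hx, fun h => hx ((hchar _ x).1 h), hmv⟩

/-- Conjugation by an element of `P` on `[P, α]`. -/
noncomputable def cAut (p : P) : MulAut (commPart α) := MulAut.conjNormal p

theorem cAut_coe (p : P) (x : commPart α) : (cAut (α := α) p x : P) = p * x * p⁻¹ := rfl

include hM in
theorem cAut_pgroup (p : P) : IsPGroup 2 (zpowers (cAut (α := α) p)) := by
  rintro ⟨σ, i, rfl⟩
  obtain ⟨k, hk⟩ := hM.pgroup.to_subgroup P p
  refine ⟨k, Subtype.ext ?_⟩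
  show (cAut (α := α) p ^ i) ^ 2 ^ k = 1
  rw [← zpow_natCast, ← zpow_mul, mul_comm, zpow_mul, zpow_natCast]
  show ((MulAut.conjNormal (H := commPart α)) p ^ 2 ^ k) ^ i = 1
  rw [← map_pow, hk, map_one, one_zpow]

include K in
theorem cAut_commute (x : commPart α) :
    cAut (α := α) c (restr α x) = restr α (cAut (α := α) c x) := by
  apply Subtype.ext
  show c * α x * c⁻¹ = α (c * x * c⁻¹)
  rw [map_mul, map_mul, map_inv, K.fix]

include hM K in
theorem cAut_trivial (hΦ : Nat.card (frattini ↥(commPart α)) ≤ 2) (x : commPart α) :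
    c * (x : P) * c⁻¹ = x := by
  obtain ⟨hidx, hfix⟩ := idx_fix hM K
  exact congrArg Subtype.val (trivial_of_commute (pgroup_X hM) hidx hΦ (restr α) (cAut c) hfix
    (cAut_pgroup hM c) (cAut_commute K) x)

include K in
theorem decomp (p : P) : ∃ q ∈ commPart α, ∃ i : ℤ, p = q * c ^ i := by
  obtain ⟨q, hq, y, hy, h⟩ := mem_sup_of_normal_left.1 (K.gen ▸ mem_top p :
    p ∈ commPart α ⊔ zpowers c)
  obtain ⟨i, rfl⟩ := mem_zpowers_iff.1 hy
  exact ⟨q, hq, i, h.symm⟩

include hM hD K in
theorem four_case {a : commPart α} (ha : a * a = 1) (hgen : closure ({a, restr α a} : Set _) = ⊤)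
    (hc : ∀ x y : commPart α, x * y = y * x) :
    ∃ (e z τ' : G) (C : Subgroup G), FourData G e z τ' C := by
  haveI : Fact (Nat.Prime 2) := ⟨Nat.prime_two⟩
  obtain ⟨hidx, hfix⟩ := idx_fix hM K
  have hsq : ∀ x : commPart α, x * x = 1 := by
    intro x
    have hx := hgen ▸ mem_top x
    induction hx using closure_induction with
    | mem w hw => rcases hw with rfl | rfl <;> [exact ha; rw [← map_mul, ha, map_one]]
    | one => exact one_mul 1
    | mul p q _ _ h1 h2 =>
      rw [show p * q * (p * q) = p * (q * p) * q by group, hc q p,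
        show p * (p * q) * q = (p * p) * (q * q) by group, h1, h2, one_mul]
    | inv p _ h => rw [← mul_inv_rev, h, inv_one]
  have hF : frattini ↥(commPart α) = ⊥ := le_bot_iff.1 (by
    refine frattini_le_of_elementary_quotient (p := 2) ?_ fun g => by rw [mem_bot, sq, hsq]
    rw [_root_.commutator_def, Subgroup.commutator_le]
    exact fun x _ y _ => by rw [mem_bot, commutatorElement_eq_one_iff_mul_comm, hc])
  have hcen : ∀ x : commPart α, c * (x : P) * c⁻¹ = x :=
    cAut_trivial hM K (by rw [hF, card_bot]; norm_num)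
  obtain ⟨e, he, hte, hmv⟩ := exists_moved hM hD K
  rw [hF, mem_bot] at he hte hmv
  set te := tRestr hD e with hte'
  set z := e * te with hz
  have hez : te = e * z := by rw [hz, ← mul_assoc, hsq, one_mul]
  have hz1 : z ≠ 1 := fun h => hmv (by rw [inv_eq_of_mul_eq_one_right (hsq e)]; exact h)
  have hPab : ∀ p q : P, p * q = q * p := by
    intro p q
    obtain ⟨x, hx, i, rfl⟩ := decomp K p
    obtain ⟨y, hy, j, rfl⟩ := decomp K q
    have h1 : Commute x y := congrArg Subtype.val (hc ⟨x, hx⟩ ⟨y, hy⟩)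
    have h2 : ∀ w ∈ commPart α, Commute c w := fun w hw =>
      mul_inv_eq_iff_eq_mul.1 (hcen ⟨w, hw⟩)
    exact ((h1.mul_right ((h2 x hx).zpow_left j).symm).mul_left
      (((h2 y hy).zpow_left i).mul_right (((Commute.refl c).zpow_zpow i j)))).eq
  have hz2 : tRestr hD z = z := by
    have htt : tRestr hD te = e := Subtype.ext (Subtype.ext (by
      rw [hte', tRestr_coe, tRestr_coe,
        show τ * (τ * ((e : P) : G) * τ⁻¹) * τ⁻¹ = (τ * τ) * ((e : P) : G) * (τ * τ)⁻¹ by group]
      exact mul_inv_eq_iff_eq_mul.2 (congrArg Subtype.val (hPab ⟨_, hD.tau_sq⟩ e))))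
    rw [hz, map_mul, htt, hc]
  have hQ : closure ({((e : P) : G), ((z : P) : G)} : Set G) =
      (commPart α).map P.subtype := by
    have htop : closure ({e, z} : Set (commPart α)) = ⊤ := by
      refine pair_top hidx (by rwa [hF, mem_bot]) (by rwa [hF, mem_bot]) ?_
      rw [hF, mem_bot, hz, inv_mul_cancel_left]
      exact hte
    rw [show (commPart α).map P.subtype
      = (⊤ : Subgroup (commPart α)).map (P.subtype.comp (commPart α).subtype) by
        rw [← map_map, ← MonoidHom.range_eq_map, range_subtype],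
      ← htop, MonoidHom.map_closure, Set.image_pair]
    rfl
  set C := (zpowers c).map P.subtype with hC
  have hP : (commPart α).map P.subtype ⊔ C = P := by
    rw [hC, ← Subgroup.map_sup, K.gen, ← MonoidHom.range_eq_map, range_subtype]
  have hcenP : centralizer ({((e : P) : G)} : Set G) = P := by
    refine eq_of_le_norm hM hD (fun p hp => ?_) fun hτ => hmv ?_
    · rw [mem_centralizer_singleton_iff]
      exact (congrArg Subtype.val (hPab ⟨p, hp⟩ e))
    · rw [mem_centralizer_singleton_iff] at hτ
      have hfx : te = e := Subtype.ext (Subtype.ext (by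
        rw [hte', tRestr_coe, hτ, mul_inv_cancel_right]))
      rw [hfx, inv_mul_cancel]
  refine ⟨((e : P) : G), ((z : P) : G), τ, C, ?_⟩
  have hinj : ∀ x y : commPart α, ((x : P) : G) = ((y : P) : G) → x = y := fun x y h =>
    Subtype.ext (Subtype.ext h)
  refine
    { ee := congrArg (fun x : commPart α => ((x : P) : G)) (hsq e)
      zz := congrArg (fun x : commPart α => ((x : P) : G)) (hsq z)
      e_ne := fun h => he (hinj e 1 h)
      z_ne := fun h => hz1 (hinj z 1 h)
      ne := fun h => ?_
      comm := congrArg (fun x : commPart α => ((x : P) : G)) (hc e z)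
      cyclic := ?_
      disj := ?_
      cent_e := by rw [hQ, hP, hcenP]
      central := ?_
      tau_z := congrArg (fun x : commPart α => ((x : P) : G)) hz2
      tau_e := congrArg (fun x : commPart α => ((x : P) : G)) hez
      tau_C := ?_
      tau_sq := by rw [hQ, hP]; exact hD.tau_sq
      norm := by rw [hQ, hP]; exact hD.norm }
  · exact hte (mul_eq_left.1 (hinj e z h).symm)
  · rw [hC, MonoidHom.map_zpowers]
    infer_instance
  · rw [hQ, hC, ← Subgroup.map_inf _ _ _ P.subtype_injective, Subgroup.map_eq_bot_iff, ker_subtype]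
    rintro x ⟨hx1, hx2⟩
    obtain ⟨i, rfl⟩ := mem_zpowers_iff.1 hx2
    have h0 : (⟨c ^ i, hx1⟩ : commPart α) ∈ frattini ↥(commPart α) := hfix _ (by
      rw [show restr α ⟨c ^ i, hx1⟩ = ⟨c ^ i, hx1⟩ from Subtype.ext (by
        show α (c ^ i) = c ^ i
        rw [map_zpow, K.fix]), inv_mul_cancel]
      exact one_mem _)
    rw [hF, mem_bot] at h0
    exact mem_bot.2 (congrArg Subtype.val h0)
  · rw [hQ, hP]
    exact fun p hp q hq => congrArg Subtype.val (hPab ⟨p, hp⟩ ⟨q, hq⟩)
  · -- the fixed points are generated by `c`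
    have hfixc : ∀ y : P, α y = y → y ∈ zpowers c := by
      intro y hy
      obtain ⟨q, hq, i, rfl⟩ := decomp K y
      rw [map_mul, map_zpow, K.fix] at hy
      have h0 : (⟨q, hq⟩ : commPart α) ∈ frattini ↥(commPart α) := hfix _ (by
        rw [show restr α ⟨q, hq⟩ = ⟨q, hq⟩ from Subtype.ext (mul_right_cancel hy), inv_mul_cancel]
        exact one_mem _)
      rw [hF, mem_bot] at h0
      rw [show q = 1 from congrArg Subtype.val h0, one_mul]
      exact zpow_mem (mem_zpowers c) i
    have hfw : ∀ g : G, g ∈ C → τ * g * τ⁻¹ ∈ C := by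
      rintro _ ⟨y, hy, rfl⟩
      obtain ⟨i, rfl⟩ := mem_zpowers_iff.1 hy
      refine ⟨tAut hD (c ^ i), hfixc _ ?_, rfl⟩
      conv_lhs => rw [show c ^ i = α (c ^ i) by rw [map_zpow, K.fix], tAut_alpha hD]
      rw [MulAut.apply_inv_self]
    exact mem_normalizer_fintype hfw

include hM hD K in
theorem quat_case (hq : Nonempty (↥(commPart α) ≃* QuaternionGroup 2)) :
    ∃ i j τ' : G, QuatData G i j τ' := by
  haveI : Fact (Nat.Prime 2) := ⟨Nat.prime_two⟩
  obtain ⟨ε⟩ := hq
  obtain ⟨z0, hz0, hzz0, hsq0, hinv0⟩ := quat_facts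
  obtain ⟨hidx, hfix⟩ := idx_fix hM K
  set F := frattini ↥(commPart α) with hF
  set z := ε.symm z0 with hz
  have hεz : ε z = z0 := ε.apply_symm_apply z0
  have hz1 : z ≠ 1 := fun h => hz0 (by rw [← hεz, h, map_one])
  have hsq : ∀ x : commPart α, x ≠ 1 → x ≠ z → x * x = z := fun x h1 h2 => ε.injective (by
    rw [map_mul, hεz]
    exact hsq0 _ (fun h => h1 (ε.injective (h.trans (map_one ε).symm)))
      fun h => h2 (ε.injective (h.trans hεz.symm)))
  have hzF : z ∈ F := by
    obtain ⟨x, -, hx⟩ := SetLike.not_le_iff_exists.1 (fun hle => by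
      rw [top_le_iff.1 hle, index_top] at hidx
      omega : ¬ (⊤ : Subgroup (commPart α)) ≤ F)
    by_cases hxz : x = z
    · exfalso
      obtain ⟨y, hy1, hy2⟩ : ∃ y : commPart α, y ≠ 1 ∧ y ≠ z := by
        by_contra hcon
        push Not at hcon
        classical
        haveI := Fintype.ofFinite (commPart α)
        have h8 : Nat.card (commPart α) = 8 := by
          rw [Nat.card_congr ε.toEquiv, Nat.card_eq_fintype_card (α := QuaternionGroup 2),
            QuaternionGroup.card]
        rw [Nat.card_eq_fintype_card] at h8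
        have h5 : (Finset.univ : Finset (commPart α)) ⊆ {1, z} := fun w _ => by
          by_cases hw : w = 1
          · simp [hw]
          · simp [hcon w hw]
        have h6 := Finset.card_le_card h5
        rw [Finset.card_univ, h8] at h6
        have h7 := Finset.card_le_two (a := (1 : commPart α)) (b := z)
        omega
      refine hx (hxz ▸ ?_)
      rw [← hsq y hy1 hy2, ← sq]
      exact pow_mem_frattini (pgroup_X hM) y
    · rw [← hsq x (fun h => hx (h ▸ one_mem F)) hxz, ← sq]
      exact pow_mem_frattini (pgroup_X hM) x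
  have hF2 : Nat.card F = 2 := by
    have e := F.card_mul_index
    rw [hidx, Nat.card_congr ε.toEquiv, Nat.card_eq_fintype_card (α := QuaternionGroup 2),
      QuaternionGroup.card] at e
    omega
  have hFmem : ∀ x ∈ F, x = 1 ∨ x = z := fun x hx => by
    obtain ⟨w, -, hw⟩ := (Nat.card_eq_two_iff' (1 : F)).1 hF2
    by_cases h1 : x = 1
    · exact Or.inl h1
    · right
      have a1 := hw ⟨x, hx⟩ fun h => h1 (congrArg Subtype.val h)
      have a2 := hw ⟨z, hzF⟩ fun h => hz1 (congrArg Subtype.val h)
      exact congrArg Subtype.val (a1.trans a2.symm)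
  obtain ⟨i, hiF, hjF, hmv⟩ := exists_moved hM hD K
  rw [← hF] at hiF hjF hmv
  set j := tRestr hD i with hj
  have hii : i * i = z := hsq i (fun h => hiF (h ▸ one_mem F)) fun h => hiF (h ▸ hzF)
  have hjj : j * j = z := hsq j (fun h => hjF (h ▸ one_mem F)) fun h => hjF (h ▸ hzF)
  have hji : j * i * j⁻¹ = i⁻¹ := ε.injective (by
    rw [map_mul, map_mul, map_inv, map_inv]
    refine hinv0 _ _ (by rw [← map_mul, hii, hεz]) (by rw [← map_mul, hjj, hεz]) (fun h => ?_)
      fun h => ?_
    · exact hmv (by rw [ε.injective h, inv_mul_cancel]; exact one_mem F)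
    · rw [← hεz, ← map_mul] at h
      exact hmv (by rw [ε.injective h, inv_mul_cancel_left]; exact hzF))
  have htop : closure ({i, j} : Set (commPart α)) = ⊤ := pair_top hidx hiF hjF hmv
  have hconj : ∀ q : commPart α, q * i * q⁻¹ = i ∨ q * i * q⁻¹ = i⁻¹ := by
    intro q
    have hq := htop ▸ mem_top q
    induction hq using closure_induction with
    | mem w hw =>
      rcases hw with rfl | rfl
      · exact Or.inl (mul_inv_cancel_right _ _)
      · exact Or.inr hji
    | one => left; simp
    | mul p q _ _ hp hq =>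
      rw [show p * q * i * (p * q)⁻¹ = p * (q * i * q⁻¹) * p⁻¹ by group]
      rcases hq with h | h <;> rw [h]
      · exact hp
      · rw [show p * i⁻¹ * p⁻¹ = (p * i * p⁻¹)⁻¹ by group]
        rcases hp with h' | h' <;> rw [h']
        · exact Or.inr rfl
        · exact Or.inl (inv_inv i)
    | inv p _ hp =>
      rcases hp with h | h
      · left
        conv_lhs => rw [← h]
        group
      · right
        conv_rhs => rw [show i = p⁻¹ * (p * i * p⁻¹) * p by group, h]
        group
  have hcen : ∀ x : commPart α, c * (x : P) * c⁻¹ = x := cAut_trivial hM K (le_of_eq hF2)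
  set I := ((i : P) : G) with hI
  set J := ((j : P) : G) with hJ
  have hJτ : τ * I * τ⁻¹ = J := rfl
  have hPI : ∀ p : P, (p : G) * I * (p : G)⁻¹ = I ∨ (p : G) * I * (p : G)⁻¹ = I⁻¹ := by
    intro p
    obtain ⟨q, hq, k, rfl⟩ := decomp K p
    have h1 : Commute (c ^ k) (i : P) :=
      Commute.zpow_left (mul_inv_eq_iff_eq_mul.1 (hcen i)) k
    have h2 : (q * c ^ k) * (i : P) * (q * c ^ k)⁻¹ = q * i * q⁻¹ := by
      rw [mul_assoc q, h1.eq]; group
    rcases hconj ⟨q, hq⟩ with h | h
    · left
      exact congrArg Subtype.val (h2.trans (congrArg Subtype.val h))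
    · right
      exact congrArg Subtype.val (h2.trans (congrArg Subtype.val h))
  have hnorm : normalizer ((zpowers I : Subgroup G) : Set G) = P := by
    refine eq_of_le_norm hM hD (fun p hp => mem_normalizer_fintype fun g hg => ?_)
      fun hτ => ?_
    · obtain ⟨k, rfl⟩ := mem_zpowers_iff.1 hg
      rw [← conj_zpow]
      refine zpow_mem ?_ k
      rcases hPI ⟨p, hp⟩ with h | h <;> dsimp only at h <;> rw [h]
      · exact mem_zpowers I
      · exact inv_mem (mem_zpowers I)
    · have h1 : J ∈ zpowers I := hJτ ▸ (mem_normalizer_iff.1 hτ I).1 (mem_zpowers I)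
      obtain ⟨k, hk⟩ := mem_zpowers_iff.1 h1
      have hk' : j = i ^ k := Subtype.ext (Subtype.ext (by
        rw [SubgroupClass.coe_zpow, SubgroupClass.coe_zpow]
        exact hk.symm))
      obtain ⟨l, rfl | rfl⟩ := Int.even_or_odd' k
      · refine hjF ?_
        rw [hk', zpow_mul, zpow_two, hii]
        exact zpow_mem hzF l
      · refine hmv ?_
        rw [hk', zpow_add_one, zpow_mul, zpow_two, hii,
          show i⁻¹ * (z ^ l * i) = i⁻¹ * z ^ l * i by group]
        exact (normal_of_characteristic F).conj_mem' _ (zpow_mem hzF l) i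
  have hcentle : quatCent I J ≤ P := fun g hg => by
    rw [← hnorm]
    refine mem_normalizer_fintype fun x hx => ?_
    obtain ⟨k, rfl⟩ := mem_zpowers_iff.1 hx
    rw [← conj_zpow, ← (mem_centralizer_iff.1 hg I (by simp) : I * g = g * I), mul_inv_cancel_right]
    exact zpow_mem (mem_zpowers I) k
  have hQ : closure ({I, J} : Set G) = (commPart α).map P.subtype := by
    rw [show (commPart α).map P.subtype
      = (⊤ : Subgroup (commPart α)).map (P.subtype.comp (commPart α).subtype) by
        rw [← map_map, ← MonoidHom.range_eq_map, range_subtype],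
      ← htop, MonoidHom.map_closure, Set.image_pair]
    rfl
  have hcc : (c : G) ∈ quatCent I J := by
    refine mem_centralizer_iff.2 fun x hx => ?_
    rcases hx with rfl | rfl
    · exact (congrArg Subtype.val (mul_inv_eq_iff_eq_mul.1 (hcen i))).symm
    · exact (congrArg Subtype.val (mul_inv_eq_iff_eq_mul.1 (hcen j))).symm
  have hcent : quatCent I J = zpowers (I * I) ⊔ zpowers (c : G) := by
    refine le_antisymm (fun g hg => ?_) (sup_le (zpowers_le.2 ?_) (zpowers_le.2 hcc))
    · obtain ⟨q, hq, k, hqk⟩ := decomp K ⟨g, hcentle hg⟩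
      have hg' : g = ((q : P) : G) * (c : G) ^ k := by
        rw [show g = ((⟨g, hcentle hg⟩ : P) : G) from rfl, hqk]; rfl
      have hqc : ((q : P) : G) ∈ quatCent I J := by
        rw [show ((q : P) : G) = g * ((c : G) ^ k)⁻¹ by rw [hg', mul_inv_cancel_right]]
        exact mul_mem hg (inv_mem (zpow_mem hcc k))
      have hqZ : (⟨q, hq⟩ : commPart α) = 1 ∨ (⟨q, hq⟩ : commPart α) = z := by
        by_contra hcon
        push Not at hcon
        set q' : commPart α := ⟨q, hq⟩
        have hqi : q' * i = i * q' := Subtype.ext (Subtype.ext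
          (mem_centralizer_iff.1 hqc I (by simp)).symm)
        have hqj : q' * j = j * q' := Subtype.ext (Subtype.ext
          (mem_centralizer_iff.1 hqc J (by simp)).symm)
        have h4 : ∀ x : commPart α, x * x = z → q' * x = x * q' → q' = x ∨ q' = x * z := by
          intro x hx hcx
          by_contra hne
          push Not at hne
          have := hinv0 (ε x) (ε q') (by rw [← map_mul, hx, hεz])
            (by rw [← map_mul, hsq q' hcon.1 hcon.2, hεz]) (fun h => hne.1 (ε.injective h))
            fun h => hne.2 (ε.injective (h.trans (by rw [map_mul, hεz])))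
          rw [← map_mul, hcx, map_mul, mul_inv_cancel_right, ← map_inv] at this
          have h5 : x * x = 1 := by nth_rw 2 [ε.injective this]; exact mul_inv_cancel x
          exact hz1 (hx.symm.trans h5)
        have hij : i⁻¹ * q' ∈ F ∧ j⁻¹ * q' ∈ F := by
          constructor
          · rcases h4 i hii hqi with h | h <;> rw [h]
            · rw [inv_mul_cancel]; exact one_mem F
            · rw [inv_mul_cancel_left]; exact hzF
          · rcases h4 j hjj hqj with h | h <;> rw [h]
            · rw [inv_mul_cancel]; exact one_mem F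
            · rw [inv_mul_cancel_left]; exact hzF
        exact hmv (by simpa [mul_assoc] using mul_mem hij.1 (inv_mem hij.2))
      rw [hg']
      refine mul_mem (mem_sup_left ?_) (mem_sup_right (zpow_mem (mem_zpowers _) k))
      rcases hqZ with h | h
      · rw [show q = 1 from congrArg Subtype.val h]
        exact one_mem _
      · rw [show q = ((z : commPart α) : P) from congrArg Subtype.val h, ← hii]
        exact mem_zpowers (I * I)
    · have hzc : ∀ w : commPart α, w * z * w⁻¹ = z := fun w =>
        fix_small (le_of_eq hF2) (MulAut.conj w) hzF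
      refine mem_centralizer_iff.2 fun x hx => ?_
      rw [show I * I = ((z : P) : G) from congrArg (fun w : commPart α => ((w : P) : G)) hii]
      rcases hx with rfl | rfl
      · exact congrArg (fun w : commPart α => ((w : P) : G)) (mul_inv_eq_iff_eq_mul.1 (hzc i))
      · exact congrArg (fun w : commPart α => ((w : P) : G)) (mul_inv_eq_iff_eq_mul.1 (hzc j))
  have hprod : quatProd I J = P := by
    refine le_antisymm (sup_le (hQ ▸ map_subtype_le _) hcentle) fun p hp => ?_
    obtain ⟨q, hq, k, hqk⟩ := decomp K ⟨p, hp⟩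
    rw [show p = ((⟨p, hp⟩ : P) : G) from rfl, hqk]
    exact mul_mem (mem_sup_left (hQ ▸ mem_map_of_mem P.subtype hq))
      (mem_sup_right (zpow_mem hcc k))
  refine ⟨I, J, τ,
    { order_i := ?_
      sq := congrArg (fun x : commPart α => ((x : P) : G)) (hjj.trans hii.symm)
      inv := congrArg (fun x : commPart α => ((x : P) : G)) hji
      cent := ⟨(c : G), hcc, hcent⟩
      norm_i := by rw [hprod, hnorm]
      tau_i := hJτ
      tau_j := ?_
      tau_sq := by rw [hprod]; exact hD.tau_sq
      norm := by rw [hprod]; exact hD.norm }⟩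
  · rw [hI, Subgroup.orderOf_coe, Subgroup.orderOf_coe, show (4 : ℕ) = 2 ^ (1 + 1) by norm_num]
    refine orderOf_eq_prime_pow (by rw [pow_one, sq, hii]; exact hz1) ?_
    rw [pow_succ, pow_mul, pow_one, sq i, hii, sq]
    exact ε.injective (by rw [map_mul, hεz, hzz0, map_one])
  · rw [← hJτ, show τ * (τ * I * τ⁻¹) * τ⁻¹ = (τ * τ) * I * (τ * τ)⁻¹ by group]
    exact hPI ⟨_, hD.tau_sq⟩

/-- In a cyclic 2-group the involution is determined. -/
theorem involution_eq {X : Type u} [Group X] {x w : X} {m : ℕ} (hx : orderOf x = 2 ^ (m + 1))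
    (hw : w ∈ zpowers x) (hww : w * w = 1) (hw1 : w ≠ 1) : w = x ^ 2 ^ m := by
  obtain ⟨i, rfl⟩ := mem_zpowers_iff.1 hw
  rw [← zpow_add, ← orderOf_dvd_iff_zpow_eq_one, hx] at hww
  obtain ⟨q, hq⟩ := hww
  have hi : i = ((2 ^ m : ℕ) : ℤ) * q := by push_cast [pow_succ] at hq ⊢; linarith
  have h2 : (x ^ 2 ^ m) ^ (2 : ℤ) = 1 := by
    rw [zpow_two, ← pow_add, ← two_mul, ← pow_succ', ← hx, pow_orderOf_eq_one]
  rw [hi, zpow_mul, zpow_natCast] at hw1 ⊢
  obtain ⟨l, rfl | rfl⟩ := Int.even_or_odd' q
  · exact absurd (by rw [zpow_mul, h2, one_zpow]) hw1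
  · rw [zpow_add, zpow_mul, h2, one_zpow, one_mul, zpow_one]

include hM hD K in
theorem homo_case (hh : StmtEssHomo.{u}) {n : ℕ} (hn : 2 ≤ n) {a : commPart α}
    (ha : orderOf a = 2 ^ n) (hgen : closure ({a, restr α a} : Set _) = ⊤)
    (hc : ∀ x y : commPart α, x * y = y * x) (hdis : zpowers a ⊓ zpowers (restr α a) = ⊥) :
    IsCyclic ↥(commutator G) := by
  haveI : Fact (Nat.Prime 2) := ⟨Nat.prime_two⟩
  haveI : Fact (Nat.Prime 3) := ⟨Nat.prime_three⟩
  obtain ⟨hidx, hfix⟩ := idx_fix hM K
  set F := frattini ↥(commPart α) with hF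
  set β := restr α with hβ
  have hcomm : ∀ x y : commPart α, Commute x y := hc
  have hfix1 : ∀ x : commPart α, β x = x → x = 1 := fun x hx =>
    MetacyclicTwoAut.eq_one_of_fixed (pgroup_X hM) K.meta' (r := 3) (by norm_num) K.cube K.ne hc hx
  obtain ⟨m, rfl⟩ : ∃ m, n = m + 2 := ⟨n - 2, by omega⟩
  have hexp : ∀ x : commPart α, x ^ 2 ^ (m + 2) = 1 := by
    intro x
    have hx := hgen ▸ mem_top x
    induction hx using closure_induction with
    | mem w hw =>
      rcases hw with rfl | rfl
      · rw [← ha, pow_orderOf_eq_one]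
      · rw [← map_pow, ← ha, pow_orderOf_eq_one, map_one]
    | one => exact one_pow _
    | mul p q _ _ h1 h2 => rw [(hcomm p q).mul_pow, h1, h2, one_mul]
    | inv p _ h => rw [inv_pow, h, inv_one]
  have hFexp : ∀ x ∈ F, x ^ 2 ^ (m + 1) = 1 := by
    intro x hx
    have hle : F ≤ (MetacyclicTwoAut.sqHom hc).range := by
      rw [hF, frattini_eq_derivedPow (p := 2) (pgroup_X hM)]
      refine sup_le ?_ ((closure_le _).2 ?_)
      · rw [_root_.commutator_def, Subgroup.commutator_le]
        exact fun p _ q _ => by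
          rw [commutatorElement_eq_one_iff_mul_comm.2 (hc p q)]; exact one_mem _
      · rintro _ ⟨g, rfl⟩
        exact ⟨g, rfl⟩
    obtain ⟨y, rfl⟩ := hle hx
    show (y ^ 2) ^ 2 ^ (m + 1) = 1
    rw [← pow_mul, ← pow_succ', hexp]
  have hout : ∀ x : commPart α, x ∉ F → x ^ 2 ^ (m + 1) ≠ 1 := by
    intro x hx h1
    have htop := pair_top hidx hx
      (fun h => hx ((characteristic_iff_comap_eq.1 (inferInstance : F.Characteristic) β).le h))
      (fun h => hx (hfix x h))
    have ha' := htop ▸ mem_top a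
    have h2 : a ^ 2 ^ (m + 1) = 1 := by
      clear hgen hdis ha
      induction ha' using closure_induction with
      | mem w hw =>
        rcases hw with rfl | rfl
        · exact h1
        · rw [← map_pow, h1, map_one]
      | one => exact one_pow _
      | mul p q _ _ h1 h2 => rw [(hcomm p q).mul_pow, h1, h2, one_mul]
      | inv p _ h => rw [inv_pow, h, inv_one]
    have := orderOf_dvd_of_pow_eq_one h2
    rw [ha] at this
    have := (Nat.pow_dvd_pow_iff_le_right (le_refl 2)).1 this
    omega
  -- `c` is trivial modulo the Frattini subgroup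
  have hcq : ∀ x : commPart α, x⁻¹ * cAut (α := α) c x ∈ F := by
    intro x
    set π := MetacyclicTwoAut.quotAut F
    have h := trivial_of_commute_four (X := commPart α ⧸ F) (by rw [← index_eq_card, hidx]) (π β)
      (π (cAut c))
      (fun w => by
        induction w using QuotientGroup.induction_on with
        | H y =>
          rw [MetacyclicTwoAut.quotAut_mk, eq_comm, QuotientGroup.eq, QuotientGroup.eq_one_iff]
          exact hfix y)
      (fun w => by
        obtain ⟨σ, i, hi⟩ := w
        obtain ⟨k, hk⟩ := cAut_pgroup hM (α := α) c ⟨cAut (α := α) c, mem_zpowers _⟩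
        refine ⟨k, Subtype.ext ?_⟩
        show σ ^ 2 ^ k = 1
        rw [← hi]
        show ((π (cAut c)) ^ i) ^ 2 ^ k = 1
        have hk' : cAut (α := α) c ^ 2 ^ k = 1 := congrArg Subtype.val hk
        have h1 : (π (cAut c)) ^ 2 ^ k = 1 := MulEquiv.ext fun w => by
          induction w using QuotientGroup.induction_on with
          | H y => rw [MetacyclicTwoAut.quotAut_pow, hk']; rfl
        rw [← zpow_natCast ((π (cAut c)) ^ i), ← zpow_mul, mul_comm, zpow_mul, zpow_natCast, h1,
          one_zpow])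
      (fun w => by
        induction w using QuotientGroup.induction_on with
        | H y =>
          simp only [π, MetacyclicTwoAut.quotAut_mk, hβ, cAut_commute K])
      (x : commPart α ⧸ F)
    rw [MetacyclicTwoAut.quotAut_mk, eq_comm, QuotientGroup.eq] at h
    exact h
  have hcΩ : ∀ x : commPart α, Commute c ((x : P) ^ 2 ^ (m + 1)) := by
    intro x
    refine mul_inv_eq_iff_eq_mul.1 ?_
    have h1 : cAut (α := α) c x ^ 2 ^ (m + 1) = x ^ 2 ^ (m + 1) := by
      rw [show cAut (α := α) c x = x * (x⁻¹ * cAut (α := α) c x) by rw [mul_inv_cancel_left],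
        (hcomm _ _).mul_pow, hFexp _ (hcq x), mul_one]
    have h2 := congrArg Subtype.val h1
    rw [SubmonoidClass.coe_pow, SubmonoidClass.coe_pow, cAut_coe, conj_pow] at h2
    exact h2
  have hfixc : ∀ y : P, α y = y → y ∈ zpowers c := by
    intro y hy
    obtain ⟨q, hq, i, rfl⟩ := decomp K y
    rw [map_mul, map_zpow, K.fix] at hy
    rw [show q = 1 from congrArg Subtype.val (hfix1 ⟨q, hq⟩ (Subtype.ext (mul_right_cancel hy))),
      one_mul]
    exact zpow_mem (mem_zpowers c) i
  have hdisj : ∀ y : P, y ∈ commPart α → α y = y → y = 1 := fun y hy h =>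
    congrArg Subtype.val (hfix1 ⟨y, hy⟩ (Subtype.ext h))
  -- `c` has order at most two
  have hcc : c * c = 1 := by
    by_contra hne
    obtain ⟨l, hl⟩ := IsPGroup.iff_orderOf.1 (hM.pgroup.to_subgroup P) c
    have hl2 : 2 ≤ l := by
      by_contra hlt
      refine hne ?_
      have h1 : orderOf c ∣ 2 := by rw [hl]; exact (pow_dvd_pow 2 (by omega)).trans (dvd_of_eq (pow_one 2))
      rw [← sq]
      exact orderOf_dvd_iff_pow_eq_one.1 h1
    obtain ⟨l, rfl⟩ : ∃ l', l = l' + 2 := ⟨l - 2, by omega⟩
    set d := c ^ 2 ^ (l + 1) with hd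
    have hdd : d * d = 1 := by
      rw [hd, ← pow_add, ← two_mul, ← pow_succ', show l + 1 + 1 = l + 2 from rfl, ← hl,
        pow_orderOf_eq_one]
    have hd1 : d ≠ 1 := fun h => by
      have := orderOf_dvd_of_pow_eq_one h
      rw [hl] at this
      have := (Nat.pow_dvd_pow_iff_le_right (le_refl 2)).1 this
      omega
    set a1 : P := (a : P) ^ 2 ^ (m + 1) with ha1
    set b1 : P := (β a : P) ^ 2 ^ (m + 1) with hb1
    have hab : Commute a1 b1 :=
      (show Commute (a : P) (β a : P) from congrArg Subtype.val (hc a (β a))).pow_pow _ _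
    have hsqF : ∀ (y : P) (k : ℕ), ((y ^ 2 ^ (k + 1) : P) : G) ∈ frattini G := fun y k => by
      rw [pow_succ, pow_mul, SubmonoidClass.coe_pow]
      exact pow_mem_frattini hM.pgroup _
    have ea : a1 * a1 = 1 := by
      rw [ha1, ← pow_add, ← two_mul, ← pow_succ']
      exact congrArg Subtype.val (hexp a)
    have eb : b1 * b1 = 1 := by
      rw [hb1, ← pow_add, ← two_mul, ← pow_succ']
      exact congrArg Subtype.val (hexp (β a))
    have na : a1 ≠ 1 := fun h => by
      have h' : a ^ 2 ^ (m + 1) = 1 := Subtype.ext h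
      have := orderOf_dvd_of_pow_eq_one h'
      rw [ha] at this
      have := (Nat.pow_dvd_pow_iff_le_right (le_refl 2)).1 this
      omega
    have hαa1 : α a1 = b1 := by rw [ha1, map_pow]; rfl
    have nb : b1 ≠ 1 := fun h => na (α.injective (by rw [hαa1, h, map_one]))
    have nab : a1 ≠ b1 := fun h => na (hdisj a1 (pow_mem a.2 _) (by rw [hαa1, ← h]))
    have ma : a1 ∈ commPart α := pow_mem a.2 _
    have mb : b1 ∈ commPart α := pow_mem (β a).2 _
    have hdfix : α d = d := by rw [hd, map_pow, K.fix]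
    have hdQ : d ∉ commPart α := fun h => hd1 (hdisj d h hdfix)
    let W : Subgroup P := closure {a1, b1, d}
    have hcm : ∀ p ∈ ({a1, b1, d} : Set P), ∀ q ∈ ({a1, b1, d} : Set P), p * q = q * p := by
      have h1 : Commute d a1 := (hcΩ a).pow_left _
      have h2 : Commute d b1 := (hcΩ (β a)).pow_left _
      rintro p (rfl | rfl | rfl) q (rfl | rfl | rfl)
      exacts [rfl, hab, h1.symm, hab.symm, rfl, h2.symm, h1, h2, rfl]
    have hWc := isMulCommutative_closure hcm
    have hWsq : ∀ y ∈ W, y * y = 1 := by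
      intro y hy
      induction hy using closure_induction with
      | mem w hw => rcases hw with rfl | rfl | rfl <;> assumption
      | one => exact one_mul 1
      | mul p q hp hq h1 h2 =>
        have hpq : p * q = q * p := congrArg Subtype.val (hWc.is_comm.comm ⟨p, hp⟩ ⟨q, hq⟩)
        rw [← sq, Commute.mul_pow hpq, sq, sq, h1, h2, one_mul]
      | inv p _ h => rw [← mul_inv_rev, h, inv_one]
    have hWF : W.map P.subtype ≤ frattini G := by
      rw [map_le_iff_le_comap, closure_le]
      rintro p (rfl | rfl | rfl) <;> exact hsqF _ _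
    have h4 := MetacyclicTwoAut.card_le_four hM.frattini_meta
      ((W.map P.subtype).subgroupOf (frattini G)) fun y hy => by
        obtain ⟨w, hw, hwy⟩ := mem_subgroupOf.1 hy
        apply Subtype.ext
        rw [SubmonoidClass.coe_pow, sq, ← hwy]
        show (w : G) * (w : G) = 1
        exact congrArg Subtype.val (hWsq w hw)
    rw [Nat.card_congr (subgroupOfEquivOfLe hWF).toEquiv,
      ← Nat.card_congr (W.equivMapOfInjective _ P.subtype_injective).toEquiv] at h4
    classical
    haveI := Fintype.ofFinite W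
    have wa : a1 ∈ W := subset_closure (by simp)
    have wb : b1 ∈ W := subset_closure (by simp)
    have wd : d ∈ W := subset_closure (by simp)
    have h5 := Finset.card_le_univ
      ({1, ⟨a1, wa⟩, ⟨b1, wb⟩, ⟨a1 * b1, mul_mem wa wb⟩, ⟨d, wd⟩} : Finset W)
    have n1 : (1 : P) ≠ a1 * b1 := fun h => nab (mul_left_cancel (ea.trans h))
    have n2 : a1 ≠ a1 * b1 := fun h => nb (mul_eq_left.1 h.symm)
    have n3 : b1 ≠ a1 * b1 := fun h => na (mul_eq_right.1 h.symm)
    have n4 : a1 ≠ d := fun h => hdQ (h ▸ ma)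
    have n5 : b1 ≠ d := fun h => hdQ (h ▸ mb)
    have n6 : a1 * b1 ≠ d := fun h => hdQ (h ▸ mul_mem ma mb)
    simp [Subtype.ext_iff, Ne.symm na, Ne.symm nb, Ne.symm hd1, nab, n1, n2, n3, n4, n5, n6] at h5
    have h6 : Nat.card W = Fintype.card W := Nat.card_eq_fintype_card
    omega
  -- `τ` centralises `c`
  have htc : tAut hD c = c := by
    have hf : α (tAut hD c) = tAut hD c := by
      conv_lhs => rw [show c = α c from K.fix.symm, tAut_alpha hD]
      rw [MulAut.apply_inv_self]
    obtain ⟨i, hi⟩ := mem_zpowers_iff.1 (hfixc _ hf)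
    by_cases hc1 : c = 1
    · rw [hc1, map_one]
    have h2 : c ^ (2 : ℤ) = 1 := by rw [zpow_two]; exact hcc
    obtain ⟨l, rfl | rfl⟩ := Int.even_or_odd' i
    · rw [zpow_mul, h2, one_zpow] at hi
      exact absurd ((map_eq_one_iff _ (tAut hD).injective).1 hi.symm) hc1
    · rw [zpow_add, zpow_mul, h2, one_zpow, one_mul, zpow_one] at hi
      exact hi.symm
  -- the action of `c` is scalar
  obtain ⟨x, y, hxy⟩ : ∃ x y : ℤ, cAut (α := α) c a = a ^ x * β a ^ y := by
    have h := hgen ▸ mem_top (cAut (α := α) c a)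
    rw [show ({a, β a} : Set (commPart α)) = ({a} : Set _) ∪ {β a} from rfl, Subgroup.closure_union,
      ← zpowers_eq_closure, ← zpowers_eq_closure] at h
    haveI : (zpowers (β a)).Normal := ⟨fun p hp q => by
      rw [hc q p, mul_inv_cancel_right]; exact hp⟩
    obtain ⟨p, hp, q, hq, h'⟩ := mem_sup_of_normal_right.1 h
    obtain ⟨x, rfl⟩ := mem_zpowers_iff.1 hp
    obtain ⟨y, rfl⟩ := mem_zpowers_iff.1 hq
    exact ⟨x, y, h'.symm⟩
  have hall : ∀ q : commPart α, cAut (α := α) c q = q ^ x * β q ^ y := by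
    intro q
    have hq := hgen ▸ mem_top q
    induction hq using closure_induction with
    | mem w hw =>
      rcases hw with rfl | rfl
      · exact hxy
      · rw [cAut_commute K, hxy, map_mul, map_zpow, map_zpow]
    | one => simp
    | mul p q _ _ h1 h2 =>
      rw [map_mul, h1, h2, (hcomm p q).mul_zpow, map_mul, (hcomm (β p) (β q)).mul_zpow]
      rw [mul_assoc, ← mul_assoc (β p ^ y), hc (β p ^ y) (q ^ x)]
      group
    | inv p _ h =>
      rw [map_inv, h, map_inv, mul_inv_rev, inv_zpow, inv_zpow, hc]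
  have hy0 : ∀ q : commPart α, β q ^ y = 1 := by
    intro q
    obtain ⟨q0, rfl⟩ : ∃ q0, tRestr hD q0 = q := (tRestr hD).surjective q
    have hct : tRestr hD (cAut (α := α) c q0) = cAut (α := α) c (tRestr hD q0) := Subtype.ext (by
      show tAut hD (c * q0 * c⁻¹) = c * tAut hD q0 * c⁻¹
      rw [map_mul, map_mul, map_inv, htc])
    rw [hall, hall, map_mul, map_zpow, map_zpow, hβ, tRestr_restr, ← hβ] at hct
    have h1 := mul_left_cancel hct
    set w := tRestr hD q0
    rw [← map_zpow β⁻¹ w y, ← map_zpow β w y] at h1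
    have h2 : β (β (w ^ y)) = w ^ y := by rw [← h1, MulAut.apply_inv_self]
    have h3 : β (w ^ y) = w ^ y := by
      have h4 : β (β (β (w ^ y))) = β (w ^ y) := by rw [h2]
      rw [show β (β (β (w ^ y))) = (β ^ 3) (w ^ y) from rfl, K.cube, MulAut.one_apply] at h4
      exact h4.symm
    rw [← map_zpow, hfix1 _ h3, map_one]
  have hscal : ∀ q : commPart α, cAut (α := α) c q = q ^ x := fun q => by
    rw [hall, hy0, mul_one]
  -- a basis permuted by `τ`
  obtain ⟨a', ha'F, hb'F, hmv⟩ := exists_moved hM hD K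
  rw [← hF] at ha'F hb'F hmv
  set b' := tRestr hD a' with hb'
  have hord : ∀ w : commPart α, w ∉ F → orderOf w = 2 ^ (m + 2) := fun w hw =>
    orderOf_eq_prime_pow (hout w hw) (hexp w)
  have htop' := pair_top hidx ha'F hb'F hmv
  have hdis' : zpowers a' ⊓ zpowers b' = ⊥ := by
    by_contra hne
    obtain ⟨⟨w, hw⟩, hwo⟩ := exists_prime_orderOf_dvd_card' 2
      (dvd_card_of_ne_bot (pgroup_X hM) hne)
    obtain ⟨hwa, hwb⟩ := mem_inf.1 hw
    rw [← Subgroup.orderOf_coe] at hwo
    replace hwo : orderOf w = 2 := hwo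
    have hww : w * w = 1 := by rw [← sq]; have := pow_orderOf_eq_one w; rwa [hwo] at this
    have hw1 : w ≠ 1 := fun h => by subst h; rw [orderOf_one] at hwo; omega
    have e1 := involution_eq (m := m + 1) (hord a' ha'F) hwa hww hw1
    have e2 := involution_eq (m := m + 1) (hord b' hb'F) hwb hww hw1
    refine hout _ hmv ?_
    rw [(hcomm a'⁻¹ b').mul_pow, inv_pow, ← e1, ← e2, inv_mul_cancel]
  let ι : commPart α →* G := P.subtype.comp (commPart α).subtype
  have hι : Function.Injective ι := fun p q h => Subtype.ext (Subtype.ext h)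
  have hQtop : (commPart α).map P.subtype = (⊤ : Subgroup (commPart α)).map ι := by
    rw [← map_map, ← MonoidHom.range_eq_map, range_subtype]
  refine hh G M hM P ((commPart α).map P.subtype) ((zpowers c).map P.subtype) τ (ι a') (ι b')
    (m + 2) (by omega) (by rw [orderOf_injective ι hι, hord a' ha'F]) rfl
    ((hcomm a' b').map ι) ?_ ?_ ?_ ?_ ?_ ?_ hD.tau_not_mem hD.tau_sq hD.norm ?_
  · rw [← MonoidHom.map_zpowers, ← MonoidHom.map_zpowers, ← Subgroup.map_inf _ _ _ hι, hdis', Subgroup.map_bot]
  · rw [hQtop, ← htop', ← MonoidHom.map_zpowers, ← MonoidHom.map_zpowers, ← Subgroup.map_sup,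
      zpowers_eq_closure, zpowers_eq_closure, ← Subgroup.closure_union]
    rfl
  · rw [MonoidHom.map_zpowers]
    infer_instance
  · rw [← Subgroup.map_inf _ _ _ P.subtype_injective, Subgroup.map_eq_bot_iff, ker_subtype]
    rintro p ⟨hp1, hp2⟩
    obtain ⟨i, rfl⟩ := mem_zpowers_iff.1 hp2
    exact mem_bot.2 (hdisj _ hp1 (by rw [map_zpow, K.fix]))
  · rw [← Subgroup.map_sup, K.gen, ← MonoidHom.range_eq_map, range_subtype]
  · refine mem_normalizer_fintype ?_
    rintro _ ⟨p, hp, rfl⟩
    obtain ⟨i, rfl⟩ := mem_zpowers_iff.1 hp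
    refine ⟨tAut hD (c ^ i), ?_, rfl⟩
    rw [map_zpow, htc]
    exact zpow_mem (mem_zpowers c) i
  · rintro _ ⟨p, hp, rfl⟩
    obtain ⟨i, rfl⟩ := mem_zpowers_iff.1 hp
    have hp' : ∀ q : commPart α, ∀ k : ℕ, cAut (α := α) c q = q ^ x →
        (cAut (α := α) c ^ k) q = q ^ x ^ k := by
      intro q k hq
      induction k with
      | zero => rw [pow_zero, pow_zero, zpow_one, MulAut.one_apply]
      | succ k ih => rw [pow_succ', MulAut.mul_apply, ih, map_zpow, hscal, ← zpow_mul, ← pow_succ']
    obtain ⟨k, hk⟩ : ∃ k : ℕ, c ^ i = c ^ k := by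
      have h2 : c ^ (2 : ℤ) = 1 := by rw [zpow_two]; exact hcc
      obtain ⟨l, rfl | rfl⟩ := Int.even_or_odd' i
      · exact ⟨0, by rw [zpow_mul, h2, one_zpow, pow_zero]⟩
      · exact ⟨1, by rw [zpow_add, zpow_mul, h2, one_zpow, one_mul, zpow_one, pow_one]⟩
    refine ⟨x ^ k, ?_, ?_⟩
    · have h := congrArg ι (hp' a' k (hscal a'))
      rw [map_zpow, show cAut (α := α) c ^ k = cAut (α := α) (c ^ k) from
        (map_pow MulAut.conjNormal c k).symm, ← hk] at h
      exact h
    · have h := congrArg ι (hp' b' k (hscal b'))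
      rw [map_zpow, show cAut (α := α) c ^ k = cAut (α := α) (c ^ k) from
        (map_pow MulAut.conjNormal c k).symm, ← hk] at h
      exact h

end ctx

theorem stmtEssCore_of (hq : StmtQStruct.{u}) (hh : StmtEssHomo.{u}) : StmtEssCore.{u} := by
  intro G _ _ M hM P τ α hD
  haveI : Fact (Nat.Prime 2) := ⟨Nat.prime_two⟩
  haveI : Fact (Nat.Prime 3) := ⟨Nat.prime_three⟩
  have hP2 : IsPGroup 2 P := hM.pgroup.to_subgroup P
  set Q := (commPart α).map P.subtype with hQ
  let ε : commPart α ≃* Q := (commPart α).equivMapOfInjective _ P.subtype_injective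
  have hQtop : Q ≠ ⊤ := fun h => hD.tau_not_mem
    ((h ▸ map_subtype_le (commPart α) : (⊤ : Subgroup G) ≤ P) (mem_top τ))
  have hX2 : IsPGroup 2 (commPart α) := hP2.to_subgroup _
  obtain ⟨Y, hY, hYm⟩ := hM.exists_meta Q hQtop
  have hm : IsMetacyclic ↥(commPart α) := by
    refine hq _ hX2 (restr α) (restr_cube hD.cube) (restr_ne_one hP2 hD.cube hD.ne_one)
      (restr_gen hP2 hD.cube) ?_ (Y.map ε.symm.toMonoidHom) ?_ ?_
    · exact le_trans (frattini_index_equiv hX2 ε.symm) (hM.frattini_index_le Q)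
    · exact le_trans (le_of_eq (index_map_equiv Y ε.symm)) hY
    · exact OddOrder.isMetacyclic_of_surjective
        (Y.equivMapOfInjective _ ε.symm.injective).toMonoidHom (MulEquiv.surjective _) hYm
  obtain ⟨c, hc, hgen⟩ := exists_fix_gen hP2 hD.cube hD.ne_one (hM.frattini_index_le P)
  have K : CoreCtx G P τ α c :=
    ⟨hD, hm, restr_ne_one hP2 hD.cube hD.ne_one, restr_cube hD.cube, hc, hgen⟩
  rcases MetacyclicTwoAut.comm_or_quaternion hX2 hm (r := 3) (by norm_num) K.cube K.ne with hcm | hqt
  · obtain ⟨n, a, hn, haF, ha, hdis, htop⟩ :=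
      MetacyclicTwoAut.homocyclic hX2 hm (r := 3) (by norm_num) K.cube K.ne hcm
    have htop' : closure ({a, restr α a} : Set _) = ⊤ :=
      MetacyclicTwoAut.closure_pair_eq_top hX2 hm (r := 3) (by norm_num) K.cube K.ne haF
    rcases hn.lt_or_eq with hn | rfl
    · exact Or.inl (homo_case hM hD K hh hn ha htop' hcm hdis)
    · refine Or.inr (Or.inl (four_case hM hD K ?_ htop' hcm))
      rw [← sq, show (2 : ℕ) = 2 ^ 1 from rfl, ← ha, pow_orderOf_eq_one]
  · exact Or.inr (Or.inr (quat_case hM hD K hqt))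

end CfsgLib.Bicyclic
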