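import Mathlib
import Cfsg.Agent.Lib.Bicyclic.EssDefs
import Cfsg.Agent.Lib.Fusion.StrongEmbed

/-!
# S5217, piece 3: strongly embedded subgroups of groups acting faithfully on a group of order at most 8
-/

set_option autoImplicit false
set_option linter.unusedSectionVars false
set_option linter.style.haveILetI false

namespace CfsgLib.Bicyclic.GLThree

open Cfsg Subgroup CfsgLib.Fusion

universe u v

variable {V : Type u} {O : Type v} [Group V] [Finite V] [Group O] [Finite O] {f : O →* MulAut V}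
  (hf : Function.Injective f) (hV : ∀ x : V, x * x = 1) (hcard : Nat.card V ≤ 8)

/-- `c` is the centre of the involution `a`. -/
def Cen (f : O →* MulAut V) (a : O) (c : V) : Prop :=
  c ≠ 1 ∧ f a c = c ∧ (∀ v, f a v = v ∨ f a v = v * c) ∧ ∃ v, f a v = v * c

include hV in
theorem vcomm (x y : V) : x * y = y * x := by
  have hi : ∀ z : V, z⁻¹ = z := fun z => inv_eq_of_mul_eq_one_right (hV z)
  have h := inv_eq_of_mul_eq_one_right (hV (x * y))
  rw [mul_inv_rev, hi, hi] at h
  exact h.symm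

/-- The fixed points of an element. -/
def fix (f : O →* MulAut V) (a : O) : Subgroup V :=
  (f a).toMonoidHom.eqLocus (MonoidHom.id V)

theorem mem_fix {a : O} {v : V} : v ∈ fix f a ↔ f a v = v := Iff.rfl

theorem act_mul (a b : O) (v : V) : f (a * b) v = f a (f b v) := by
  rw [map_mul]
  rfl

theorem act_one (v : V) : f 1 v = v := by
  rw [map_one]
  rfl

theorem act_inv_act (a : O) (v : V) : f a⁻¹ (f a v) = v := by
  rw [← act_mul, inv_mul_cancel, act_one]

theorem act_act_inv (a : O) (v : V) : f a (f a⁻¹ v) = v := by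
  rw [← act_mul, mul_inv_cancel, act_one]

include hf hV hcard in
theorem exists_cen {a : O} (ha : a * a = 1) (ha1 : a ≠ 1) :
    ∃ c, Cen f a c ∧ (fix f a).index = 2 := by
  let δ : V →* V :=
    { toFun := fun v => f a v * v
      map_one' := by rw [map_one, one_mul]
      map_mul' := fun v w => by
        rw [map_mul, mul_assoc (f a v), ← mul_assoc (f a w), vcomm hV (f a w) v]
        simp only [mul_assoc] }
  have hker : δ.ker = fix f a := by
    ext v
    show f a v * v = 1 ↔ f a v = v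
    constructor
    · intro h
      calc f a v = f a v * (v * v) := by rw [hV, mul_one]
        _ = v := by rw [← mul_assoc, h, one_mul]
    · intro h
      rw [h, hV]
  have hle : δ.range ≤ δ.ker := by
    rintro _ ⟨v, rfl⟩
    show f a (f a v * v) * (f a v * v) = 1
    rw [map_mul, ← act_mul, ha, act_one, vcomm hV v (f a v), hV]
  have hne : δ.range ≠ ⊥ := fun h => ha1 (hf (by
    rw [map_one]
    refine MulEquiv.ext fun v => ?_
    have hv : δ v ∈ δ.range := ⟨v, rfl⟩
    rw [h, mem_bot] at hv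
    have : v ∈ δ.ker := hv
    rw [hker] at this
    exact this))
  have e1 : δ.ker.index = Nat.card δ.range := by
    rw [index_eq_card]
    exact Nat.card_congr (QuotientGroup.quotientKerEquivRange δ).toEquiv
  have e2 := δ.ker.card_mul_index
  have h1 : 1 < Nat.card δ.range := (one_lt_card_iff_ne_bot _).2 hne
  have h2 := card_le_of_le hle
  have h3 : Nat.card δ.range = 2 := by
    rw [e1] at e2
    by_contra h
    have h4 : 3 ≤ Nat.card δ.range := by omega
    have := Nat.mul_le_mul (le_trans h4 h2) h4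
    omega
  obtain ⟨c, hc1, hcu⟩ := (Nat.card_eq_two_iff' (1 : δ.range)).1 h3
  obtain ⟨c, v0, rfl⟩ := c
  have hc1' : δ v0 ≠ 1 := fun h => hc1 (Subtype.ext h)
  have hall : ∀ v, f a v = v ∨ f a v = v * δ v0 := fun v => by
    by_cases h : δ v = 1
    · left
      have : v ∈ δ.ker := h
      rw [hker] at this
      exact this
    · right
      have h' := congrArg Subtype.val (hcu ⟨δ v, v, rfl⟩ fun e => h (congrArg Subtype.val e))
      dsimp only at h'
      rw [← h', vcomm hV]
      show f a v = f a v * v * v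
      rw [mul_assoc, hV, mul_one]
  refine ⟨δ v0, ⟨hc1', ?_, hall, v0, ?_⟩, by rw [← hker, e1, h3]⟩
  · have : δ v0 ∈ δ.ker := hle ⟨v0, rfl⟩
    rwa [hker] at this
  · rcases hall v0 with h | h
    · exact absurd (show δ v0 = 1 by show f a v0 * v0 = 1; rw [h, hV]) hc1'
    · exact h

theorem cen_unique {a : O} {c d : V} (hc : Cen f a c) (hd : Cen f a d) : c = d := by
  obtain ⟨v, hv⟩ := hc.2.2.2
  rcases hd.2.2.1 v with h | h
  · exact absurd (mul_eq_left.1 (hv.symm.trans h)) hc.1
  · exact mul_left_cancel (hv.symm.trans h)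

theorem cen_conj {a : O} {c : V} (g : O) (hc : Cen f a c) : Cen f (g * a * g⁻¹) (f g c) := by
  obtain ⟨h1, h2, h3, v0, h4⟩ := hc
  refine ⟨fun h => h1 ((map_eq_one_iff (f g) (f g).injective).1 h), ?_, fun v => ?_, f g v0, ?_⟩
  · rw [act_mul, act_mul, act_inv_act, h2]
  · rw [act_mul, act_mul]
    rcases h3 (f g⁻¹ v) with h | h
    · left; rw [h, act_act_inv]
    · right; rw [h, map_mul, act_act_inv]
  · rw [act_mul, act_mul, act_inv_act, h4, map_mul]

include hf hV in
theorem commute_of_fix {a b : O} {c d : V} (hc : Cen f a c) (hd : Cen f b d) (had : f a d = d)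
    (hbc : f b c = c) : Commute a b := by
  refine hf (MulEquiv.ext fun v => ?_)
  rw [act_mul, act_mul]
  rcases hc.2.2.1 v with ha | ha <;> rcases hd.2.2.1 v with hb | hb <;>
    simp only [ha, hb, map_mul, had, hbc]
  rw [mul_assoc, mul_assoc, vcomm hV c d]

include hf hV in
theorem commute_conj {a b : O} {c : V} (hc : Cen f a c) (hbc : f b c = c) :
    Commute a (b * a * b⁻¹) := by
  have h := cen_conj b hc
  rw [hbc] at h
  exact commute_of_fix hf hV hc h hc.2.1 h.2.1

theorem fix_of_commute {a b : O} {d : V} (hd : Cen f b d) (h : Commute a b) : f a d = d := by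
  have h' := cen_conj a hd
  rw [h.eq, mul_inv_cancel_right] at h'
  exact cen_unique h' hd

/-- A two-subgroup is conjugate into the Sylow subgroup. -/
theorem into_sylow (T : Sylow 2 O) {A : Subgroup O} (hA : IsPGroup 2 A) :
    ∃ g : O, ∀ x ∈ A, g * x * g⁻¹ ∈ (T : Subgroup O) := by
  obtain ⟨Q, hQ⟩ := hA.exists_le_sylow
  obtain ⟨g, hg⟩ := MulAction.exists_smul_eq O Q T
  refine ⟨g, fun x hx => ?_⟩
  rw [← hg, Sylow.coe_subgroup_smul]
  exact ⟨x, hQ hx, rfl⟩

variable {T : Sylow 2 O} {E : Subgroup O} (hE : kGeneratedCore 2 1 (T : Subgroup O) ≤ E)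

include hE in
/-- An element outside `E` moves no element of the Sylow subgroup to one commuting with another. -/
theorem not_commute_conj {a a' u : O} (ha : a ∈ (T : Subgroup O)) (ha1 : a ≠ 1) (haa : a * a = 1)
    (ha' : a' ∈ (T : Subgroup O)) (ha'1 : a' ≠ 1) (hu : u ∉ E) :
    ¬ Commute (u * a * u⁻¹) a' := by
  intro h
  have hb : u * a * u⁻¹ ∈ E :=
    mem_of_conj_le T hE ha' ha'1 (by rw [h.eq, mul_inv_cancel_right]; exact ha')
  have hTE : (T : Subgroup O) ≤ E := fun y hy => by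
    by_cases hy1 : y = 1
    · rw [hy1]; exact one_mem _
    · exact mem_of_conj_le T hE hy hy1 (by rwa [mul_inv_cancel_right])
  have hS : IsSylIn 2 (T : Subgroup O) E := ⟨hTE, T.2, fun C hC h' _ => T.3 hC h'⟩
  have hb2 : IsPGroup 2 (zpowers (u * a * u⁻¹)) := by
    refine IsPGroup.of_card (n := 1) ?_
    rw [Nat.card_zpowers, pow_one, orderOf_eq_prime (p := 2)]
    · rw [sq, show u * a * u⁻¹ * (u * a * u⁻¹) = u * (a * a) * u⁻¹ by group, haa, mul_one,
        mul_inv_cancel]
    · intro e; exact ha1 (conj_eq_one_iff.1 e)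
  obtain ⟨e, he, hec⟩ := hS.exists_conj_le hb2 (zpowers_le.2 hb)
  have h1 := hec _ (mem_zpowers _)
  have h2 : e * u ∈ E := mem_of_conj_le T hE (x := e * u) ha ha1 (by simpa [mul_assoc] using h1)
  exact hu ((E.mul_mem_cancel_left he).1 h2)

include hf hV hcard hE in
theorem no_four {a b : O} (haa : a * a = 1) (hbb : b * b = 1) (ha1 : a ≠ 1) (hb1 : b ≠ 1)
    (hab : Commute a b) (hne : a ≠ b) (hEtop : E ≠ ⊤) : False := by
  obtain ⟨u, hu⟩ : ∃ u, u ∉ E := by
    by_contra h; push Not at h; exact hEtop (eq_top_iff.2 fun x _ => h x)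
  -- move the four-group into the Sylow subgroup
  have hA : IsPGroup 2 (closure ({a, b} : Set O)) := by
    have hc : ∀ x ∈ ({a, b} : Set O), ∀ y ∈ ({a, b} : Set O), x * y = y * x := by
      rintro x (rfl | rfl) y (rfl | rfl)
      exacts [rfl, hab.eq, hab.eq.symm, rfl]
    intro x
    refine ⟨1, ?_⟩
    obtain ⟨x, hx⟩ := x
    apply Subtype.ext
    have := isMulCommutative_closure hc
    rw [SubmonoidClass.coe_pow, pow_one, coe_one]
    induction hx using closure_induction with
    | mem w hw => rcases hw with rfl | rfl <;> rw [sq] <;> assumption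
    | one => exact one_pow 2
    | mul p q hp hq h1 h2 =>
      have hpq : p * q = q * p := congrArg Subtype.val (this.is_comm.comm ⟨p, hp⟩ ⟨q, hq⟩)
      rw [Commute.mul_pow hpq, h1, h2, one_mul]
    | inv p _ h => rw [inv_pow, h, inv_one]
  obtain ⟨g, hg⟩ := into_sylow T hA
  have haT := hg a (subset_closure (by simp))
  have hbT := hg b (subset_closure (by simp))
  set a₁ := g * a * g⁻¹ with ha₁
  set b₁ := g * b * g⁻¹ with hb₁
  have haa₁ : a₁ * a₁ = 1 := by
    rw [ha₁, show g * a * g⁻¹ * (g * a * g⁻¹) = g * (a * a) * g⁻¹ by group, haa]; group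
  have hbb₁ : b₁ * b₁ = 1 := by
    rw [hb₁, show g * b * g⁻¹ * (g * b * g⁻¹) = g * (b * b) * g⁻¹ by group, hbb]; group
  have ha₁1 : a₁ ≠ 1 := fun e => ha1 (conj_eq_one_iff.1 e)
  have hb₁1 : b₁ ≠ 1 := fun e => hb1 (conj_eq_one_iff.1 e)
  have hne₁ : a₁ ≠ b₁ := fun e => hne (mul_left_cancel (mul_right_cancel e))
  have hab₁ : Commute a₁ b₁ := (Commute.conj_iff g).2 hab
  have habT := mul_mem haT hbT
  have hab1 : a₁ * b₁ ≠ 1 := fun e => hne₁ (by
    rw [eq_inv_of_mul_eq_one_left e, inv_eq_of_mul_eq_one_right hbb₁])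
  have habab : (a₁ * b₁) * (a₁ * b₁) = 1 := by
    rw [← sq, hab₁.mul_pow, sq, sq, haa₁, hbb₁, one_mul]
  obtain ⟨c, hc, hcF⟩ := exists_cen hf hV hcard haa₁ ha₁1
  obtain ⟨d, hd, hdF⟩ := exists_cen hf hV hcard hbb₁ hb₁1
  obtain ⟨s, hs, hsF⟩ := exists_cen hf hV hcard habab hab1
  have had : f a₁ d = d := fix_of_commute hd hab₁
  have hbc : f b₁ c = c := fix_of_commute hc hab₁.symm
  by_cases hcd : c = d
  · subst hcd
    have hsc : s = c := by
      obtain ⟨v, hv⟩ := hs.2.2.2
      rw [act_mul] at hv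
      have hc' : f a₁ c = c := hc.2.1
      rcases hc.2.2.1 v with h1 | h1 <;> rcases hd.2.2.1 v with h2 | h2 <;>
        simp only [h2, map_mul, h1, hc', mul_assoc, hV, mul_one] at hv
      · exact absurd (mul_eq_left.1 hv.symm) hs.1
      · exact (mul_left_cancel hv).symm
      · exact (mul_left_cancel hv).symm
      · exact absurd (mul_eq_left.1 hv.symm) hs.1
    subst hsc
    have hstab : ∀ w : V, ∃ x : O, x ∈ (T : Subgroup O) ∧ x ≠ 1 ∧ x * x = 1 ∧ Cen f x s ∧
        f x w = w := fun w => by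
      rcases hc.2.2.1 w with h1 | h1
      · exact ⟨a₁, haT, ha₁1, haa₁, hc, h1⟩
      · rcases hd.2.2.1 w with h2 | h2
        · exact ⟨b₁, hbT, hb₁1, hbb₁, hd, h2⟩
        · refine ⟨a₁ * b₁, habT, hab1, habab, hs, ?_⟩
          rw [act_mul, h2, map_mul, h1, hc.2.1, mul_assoc, hV, mul_one]
    obtain ⟨x, hxT, hx1, hxx, hxc, hxw⟩ := hstab (f u⁻¹ s)
    obtain ⟨y, hyT, hy1, -, hyc, hyw⟩ := hstab (f u s)
    refine not_commute_conj hE hxT hx1 hxx hyT hy1 hu
      (commute_of_fix hf hV (cen_conj u hxc) hyc ?_ hyw)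
    rw [act_mul, act_mul, hxw, act_act_inv]
  · -- different centres: a common axis
    have hsub : ∀ H : Subgroup V, c ∈ H → d ∈ H → 4 ≤ Nat.card H := by
      intro H h1 h2
      classical
      haveI := Fintype.ofFinite H
      have hcd1 : c * d ≠ 1 := fun e => hcd (by
        rw [eq_inv_of_mul_eq_one_left e, inv_eq_of_mul_eq_one_right (hV d)])
      have h5 := Finset.card_le_univ ({1, ⟨c, h1⟩, ⟨d, h2⟩, ⟨c * d, mul_mem h1 h2⟩} : Finset H)
      rw [← Nat.card_eq_fintype_card] at h5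
      simp [Subtype.ext_iff, hc.1, hd.1, hcd, Ne.symm hc.1, Ne.symm hd.1,
        Ne.symm hcd1] at h5
      rw [← Nat.card_eq_fintype_card] at h5
      exact h5
    have hA4 := hsub _ (mem_fix.2 hc.2.1) (mem_fix.2 had)
    have hB4 := hsub _ (mem_fix.2 hbc) (mem_fix.2 hd.2.1)
    have eA := (fix f a₁).card_mul_index
    have eB := (fix f b₁).card_mul_index
    rw [hcF] at eA
    rw [hdF] at eB
    have hV8 : Nat.card V = 8 := by omega
    have hA4' : Nat.card (fix f a₁) = 4 := by omega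
    set H : Subgroup V := closure {c, d} with hH
    have hH4 := hsub H (subset_closure (by simp)) (subset_closure (by simp))
    have hHA : H = fix f a₁ := eq_of_le_of_card_ge
      ((closure_le _).2 (by rintro _ (rfl | rfl); exacts [hc.2.1, had])) (by omega)
    have hHB : H = fix f b₁ := eq_of_le_of_card_ge
      ((closure_le _).2 (by rintro _ (rfl | rfl); exacts [hbc, hd.2.1])) (by omega)
    have hHf : ∀ w ∈ H, f a₁ w = w ∧ f b₁ w = w := fun w hw =>
      ⟨mem_fix.1 (hHA ▸ hw), mem_fix.1 (hHB ▸ hw)⟩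
    have hscd : s = c * d := by
      obtain ⟨v, hv⟩ := hs.2.2.2
      rw [act_mul] at hv
      rcases hd.2.2.1 v with h2 | h2
      · rw [h2] at hv
        rcases hc.2.2.1 v with h1 | h1
        · exact absurd (mul_eq_left.1 (h1 ▸ hv).symm) hs.1
        · exfalso
          have : v ∈ H := by rw [hHB]; exact h2
          exact hc.1 (mul_eq_left.1 ((hHf v this).1.symm.trans h1).symm)
      · rw [h2, map_mul, had] at hv
        rcases hc.2.2.1 v with h1 | h1
        · exfalso
          have : v ∈ H := by rw [hHA]; exact h1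
          exact hd.1 (mul_eq_left.1 ((hHf v this).2.symm.trans h2).symm)
        · rw [h1, mul_assoc] at hv
          exact (mul_left_cancel hv).symm
    have hHset : ∀ r ∈ H, r ≠ 1 → ∃ x : O, x ∈ (T : Subgroup O) ∧ x ≠ 1 ∧ x * x = 1 ∧ Cen f x r ∧
        ∀ w ∈ H, f x w = w := by
      intro r hr hr1
      have hrr : r = c ∨ r = d ∨ r = c * d := by
        classical
        haveI := Fintype.ofFinite H
        by_contra hcon
        push Not at hcon
        have hcd1 : c * d ≠ 1 := fun e => hcd (by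
          rw [eq_inv_of_mul_eq_one_left e, inv_eq_of_mul_eq_one_right (hV d)])
        have m1 : c ∈ H := subset_closure (by simp)
        have m2 : d ∈ H := subset_closure (by simp)
        have h5 := Finset.card_le_univ
          ({1, ⟨c, m1⟩, ⟨d, m2⟩, ⟨c * d, mul_mem m1 m2⟩, ⟨r, hr⟩} : Finset H)
        have hH4' : Nat.card H = 4 := by rw [hHA]; exact hA4'
        rw [← Nat.card_eq_fintype_card, hH4'] at h5
        simp [Subtype.ext_iff, hc.1, hd.1, hcd, Ne.symm hc.1, Ne.symm hd.1, Ne.symm hcd1,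
          Ne.symm hr1, Ne.symm hcon.1, Ne.symm hcon.2.1, Ne.symm hcon.2.2] at h5
      rcases hrr with rfl | rfl | rfl
      · exact ⟨a₁, haT, ha₁1, haa₁, hc, fun w hw => (hHf w hw).1⟩
      · exact ⟨b₁, hbT, hb₁1, hbb₁, hd, fun w hw => (hHf w hw).2⟩
      · refine ⟨a₁ * b₁, habT, hab1, habab, hscd ▸ hs, fun w hw => ?_⟩
        rw [act_mul, (hHf w hw).2, (hHf w hw).1]
    obtain ⟨r, hr, hru, hr1⟩ : ∃ r, r ∈ H ∧ f u⁻¹ r ∈ H ∧ r ≠ 1 := by
      have h1 := index_inf_le (H := H) (K := H.comap (f u⁻¹).toMonoidHom)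
      have h2 : (H.comap (f u⁻¹).toMonoidHom).index = H.index :=
        index_comap_of_surjective _ (f u⁻¹).surjective
      rw [h2, show H.index = 2 by rw [hHA, hcF]] at h1
      have h3 := (H ⊓ H.comap (f u⁻¹).toMonoidHom).card_mul_index
      have h4 : H ⊓ H.comap (f u⁻¹).toMonoidHom ≠ ⊥ := fun e => by
        rw [e] at h1 h3
        rw [card_bot, hV8] at h3
        omega
      obtain ⟨r, hr, hr1⟩ := SetLike.not_le_iff_exists.1 fun hle => h4 (le_bot_iff.1 hle)
      exact ⟨r, hr.1, hr.2, fun e => hr1 (mem_bot.2 e)⟩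
    have hur1 : f u⁻¹ r ≠ 1 := fun e => hr1 ((map_eq_one_iff _ (f u⁻¹).injective).1 e)
    obtain ⟨x, hxT, hx1, hxx, hxc, -⟩ := hHset _ hru hur1
    obtain ⟨y, hyT, hy1, -, hyc, -⟩ := hHset _ hr hr1
    have hxc' := cen_conj u hxc
    rw [act_act_inv] at hxc'
    exact not_commute_conj hE hxT hx1 hxx hyT hy1 hu
      (commute_of_fix hf hV hxc' hyc hxc'.2.1 hyc.2.1)

include hf hV hcard hE in
theorem no_four_elt {g : O} (hg : orderOf g = 4) (hEtop : E ≠ ⊤) : False := by
  obtain ⟨w, hw⟩ := into_sylow T (IsPGroup.of_card (n := 2) (by rw [Nat.card_zpowers, hg]; rfl) :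
    IsPGroup 2 (zpowers g))
  have hgT := hw g (mem_zpowers g)
  set k := w * g * w⁻¹ with hk
  have hk4 : orderOf k = 4 := by
    rw [hk, ← MulAut.conj_apply, MulEquiv.orderOf_eq, hg]
  set t := k * k with ht
  have htT : t ∈ (T : Subgroup O) := mul_mem hgT hgT
  have htt : t * t = 1 := by
    have := pow_orderOf_eq_one k
    rw [hk4] at this
    rw [ht, ← this]
    simp only [pow_succ, pow_zero, one_mul, mul_assoc]
  have ht1 : t ≠ 1 := fun e => by
    have := orderOf_dvd_of_pow_eq_one (show k ^ 2 = 1 by rw [sq]; exact e)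
    rw [hk4] at this
    omega
  obtain ⟨u, hu⟩ : ∃ u, u ∉ E := by
    by_contra h; push Not at h; exact hEtop (eq_top_iff.2 fun x _ => h x)
  set b := u * t * u⁻¹ with hb
  have hbt : ¬ Commute b t := not_commute_conj hE htT ht1 htt htT ht1 hu
  have hbb : b * b = 1 := by
    rw [hb, show u * t * u⁻¹ * (u * t * u⁻¹) = u * (t * t) * u⁻¹ by group, htt]; group
  have hb1 : b ≠ 1 := fun e => ht1 (conj_eq_one_iff.1 e)
  -- distinct conjugates do not commute
  have hnc : ∀ p q : O, p * p = 1 → p ≠ 1 → Commute p (q * p * q⁻¹) → q * p * q⁻¹ = p := by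
    intro p q hpp hp1 hcm
    by_contra hne
    exact no_four hf hV hcard hE hpp
      (show q * p * q⁻¹ * (q * p * q⁻¹) = 1 by
        rw [show q * p * q⁻¹ * (q * p * q⁻¹) = q * (p * p) * q⁻¹ by group, hpp]; group)
      hp1 (fun e => hp1 (conj_eq_one_iff.1 e)) hcm (Ne.symm hne) hEtop
  obtain ⟨c, hc, -⟩ := exists_cen hf hV hcard htt ht1
  obtain ⟨d, hd, -⟩ := exists_cen hf hV hcard hbb hb1
  have hbc : f b c = c * d := (hd.2.2.1 c).resolve_left fun h =>
    hbt (mul_inv_eq_iff_eq_mul.1 (hnc t b htt ht1 (commute_conj hf hV hc h)))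
  have htd : f t d = d * c := (hc.2.2.1 d).resolve_left fun h =>
    hbt (mul_inv_eq_iff_eq_mul.1 (hnc b t hbb hb1 (commute_conj hf hV hd h))).symm
  have hkc : f k c = c := fix_of_commute hc (by rw [ht]; exact ((Commute.refl k).mul_right (Commute.refl k)))
  have hinv : k⁻¹ = k * t := by
    refine inv_eq_of_mul_eq_one_right ?_
    rw [ht] at htt ⊢
    rw [← htt]
    simp only [mul_assoc]
  obtain ⟨q, hq, hqt⟩ : ∃ q : O, f b (f q d) = f q d ∧ q * q = t := by
    rcases hd.2.2.1 (f k d) with h | h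
    · exact ⟨k, h, rfl⟩
    · refine ⟨k⁻¹, ?_, ?_⟩
      · rw [hinv, act_mul k t d, htd, map_mul (f k), hkc, map_mul (f b), h, hbc]
        rw [mul_assoc (f k d), ← mul_assoc d, vcomm hV d c, mul_assoc c, hV, mul_one]
      · rw [← mul_inv_rev, ← ht, inv_eq_of_mul_eq_one_right htt]
  have hcen : Cen f (q * b * q⁻¹) (f q d) := cen_conj q hd
  set b' := q * b * q⁻¹ with hb'
  have hb'b' : b' * b' = 1 := by
    rw [hb', show q * b * q⁻¹ * (q * b * q⁻¹) = q * (b * b) * q⁻¹ by group, hbb]; group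
  have hb'1 : b' ≠ 1 := fun e => hb1 (conj_eq_one_iff.1 e)
  have h1 : Commute b b' := mul_inv_eq_iff_eq_mul.1 (hnc b' b hb'b' hb'1 (commute_conj hf hV hcen hq))
  have h2 : Commute q b := mul_inv_eq_iff_eq_mul.1 (hnc b q hbb hb1 h1)
  exact hbt (by rw [← hqt]; exact (h2.mul_left h2).symm)

include hf hV hcard in
theorem not_four_dvd {E : Subgroup O} (h : IsStronglyPEmbedded 2 E) : ¬ 4 ∣ Nat.card O := by
  obtain ⟨-, hEtop, T, hE⟩ := h
  intro h4
  obtain ⟨A, hA⟩ := Sylow.exists_subgroup_card_pow_prime 2 (n := 2) (show 2 ^ 2 ∣ Nat.card O from h4)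
  by_cases hx : ∃ x ∈ A, orderOf x = 4
  · obtain ⟨x, -, hx⟩ := hx
    exact no_four_elt hf hV hcard hE hx hEtop
  push Not at hx
  have hsq : ∀ x ∈ A, x * x = 1 := fun x hxA => by
    have h1 : orderOf x ∣ 2 ^ 2 := hA ▸ A.orderOf_dvd_natCard hxA
    obtain ⟨i, hi, he⟩ := (Nat.dvd_prime_pow Nat.prime_two).1 h1
    have hi1 : i ≤ 1 := by
      by_contra h
      exact hx x hxA (by rw [he, show i = 2 by omega]; rfl)
    have : orderOf x ∣ 2 := by rw [he]; exact (pow_dvd_pow 2 hi1).trans (dvd_of_eq (pow_one 2))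
    rw [← sq]
    exact orderOf_dvd_iff_pow_eq_one.1 this
  have hA1 : A ≠ ⊥ := fun e => by rw [e, card_bot] at hA; omega
  obtain ⟨a, haA, ha1⟩ := SetLike.not_le_iff_exists.1 fun hle => hA1 (le_bot_iff.1 hle)
  rw [mem_bot] at ha1
  obtain ⟨b, hbA, hb⟩ : ∃ b ∈ A, b ∉ zpowers a := SetLike.not_le_iff_exists.1 fun hle => by
    have := card_le_of_le hle
    rw [hA, Nat.card_zpowers, orderOf_eq_prime (p := 2) (by rw [sq]; exact hsq a haA) ha1] at this
    omega
  have hi : ∀ x ∈ A, x⁻¹ = x := fun x hx' => inv_eq_of_mul_eq_one_right (hsq x hx')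
  have hc : Commute a b := by
    have := hi _ (mul_mem haA hbA)
    rw [mul_inv_rev, hi a haA, hi b hbA] at this
    exact this.symm
  exact no_four hf hV hcard hE (hsq a haA) (hsq b hbA) ha1 (fun e => hb (e ▸ one_mem _)) hc
    (fun e => hb (e ▸ mem_zpowers a)) hEtop

include hf hV hcard in
theorem exists_three {E : Subgroup O} (h : IsStronglyPEmbedded 2 E) :
    ∃ x t : O, x ^ 3 = 1 ∧ x ≠ 1 ∧ t * t = 1 ∧ t ≠ 1 ∧ t * x * t⁻¹ = x⁻¹ := by
  obtain ⟨hdvd, hEtop, T, hE⟩ := id h
  haveI : Fact (Nat.Prime 2) := ⟨Nat.prime_two⟩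
  obtain ⟨t, ht⟩ := exists_prime_orderOf_dvd_card' 2 hdvd
  have htt : t * t = 1 := by rw [← sq, ← ht, pow_orderOf_eq_one]
  have ht1 : t ≠ 1 := fun e => by rw [e, orderOf_one] at ht; omega
  obtain ⟨g, hg⟩ : ∃ g : O, g * t * g⁻¹ ≠ t := by
    by_contra hcon
    push Not at hcon
    haveI : (zpowers t).Normal := ⟨fun z hz g => by
      obtain ⟨i, rfl⟩ := hz
      refine ⟨i, ?_⟩
      rw [← conj_zpow, hcon g]⟩
    have := pCore_eq_bot_of_stronglyPEmbedded h (N := zpowers t)
      (IsPGroup.of_card (n := 1) (by rw [Nat.card_zpowers, ht, pow_one]))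
    exact ht1 (zpowers_eq_bot.1 this)
  set s := g * t * g⁻¹ with hs
  have hss : s * s = 1 := by
    rw [hs, show g * t * g⁻¹ * (g * t * g⁻¹) = g * (t * t) * g⁻¹ by group, htt]; group
  have hs1 : s ≠ 1 := fun e => ht1 (conj_eq_one_iff.1 e)
  have hti : t⁻¹ = t := inv_eq_of_mul_eq_one_right htt
  have hsi : s⁻¹ = s := inv_eq_of_mul_eq_one_right hss
  set x := t * s with hx
  have hx1 : x ≠ 1 := fun e => hg (by rw [eq_inv_of_mul_eq_one_right e, hti])
  have hinv : t * x * t⁻¹ = x⁻¹ := by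
    rw [hx, mul_inv_rev, hti, hsi, show t * (t * s) * t = (t * t) * (s * t) by group, htt, one_mul]
  set q := (orderOf x).minFac with hq
  have hn1 : orderOf x ≠ 1 := fun e => hx1 (orderOf_eq_one_iff.1 e)
  haveI hqp : Fact q.Prime := ⟨Nat.minFac_prime hn1⟩
  set y := x ^ (orderOf x / q) with hy
  have hyo : orderOf y = q := orderOf_pow_orderOf_div (orderOf_pos x).ne' (Nat.minFac_dvd _)
  have hyinv : t * y * t⁻¹ = y⁻¹ := by rw [hy, ← conj_pow, hinv, inv_pow]
  have hy1 : y ≠ 1 := fun e => by rw [e, orderOf_one] at hyo; exact hqp.1.one_lt.ne hyo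
  have hq2 : q ≠ 2 := fun e => by
    have hy2 : y * y = 1 := by rw [← sq, ← e, ← hyo, pow_orderOf_eq_one]
    rw [inv_eq_of_mul_eq_one_right hy2] at hyinv
    have hc : Commute t y := mul_inv_eq_iff_eq_mul.1 hyinv
    by_cases hty : t = y
    · -- then `t` commutes with `s`
      have hts : Commute t x := by rw [hty, hy]; exact (Commute.refl x).pow_left _
      have h1 : Commute t s := by
        have := ((Commute.refl t).inv_right).mul_right hts
        rwa [hx, inv_mul_cancel_left] at this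
      exact no_four hf hV hcard hE htt hss ht1 hs1 h1 (Ne.symm hg) hEtop
    · exact no_four hf hV hcard hE htt hy2 ht1 hy1 hc hty hEtop
  -- the fixed points of `y` have index at most four
  obtain ⟨c, hc, hcF⟩ := exists_cen hf hV hcard htt ht1
  obtain ⟨d, hd, hdF⟩ := exists_cen hf hV hcard hss hs1
  have hle : fix f t ⊓ fix f s ≤ fix f y := by
    intro v hv
    have hxv : f x v = v := by rw [hx, act_mul, mem_fix.1 hv.2, mem_fix.1 hv.1]
    have : ∀ n : ℕ, f (x ^ n) v = v := by
      intro n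
      induction n with
      | zero => rw [pow_zero, act_one]
      | succ n ih => rw [pow_succ, act_mul, hxv, ih]
    exact this _
  have hind : (fix f y).index ≤ 4 := by
    have h1 := index_inf_le (H := fix f t) (K := fix f s)
    rw [hcF, hdF] at h1
    exact le_trans (Nat.le_of_dvd (Nat.pos_of_ne_zero Subgroup.index_ne_zero_of_finite)
      (index_dvd_of_le hle)) h1
  have hV2 : IsPGroup 2 V := fun v => ⟨1, by rw [pow_one, sq, hV]⟩
  have hP : IsPGroup q (zpowers (f y)) := IsPGroup.of_card (n := 1) (by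
    rw [Nat.card_zpowers, orderOf_injective f hf, hyo, pow_one])
  have hmod := hP.card_modEq_card_fixedPoints V
  have hfixed : Nat.card (MulAction.fixedPoints (zpowers (f y)) V) = Nat.card (fix f y) := by
    refine Nat.card_congr (Equiv.subtypeEquivRight fun v => ?_)
    constructor
    · intro hv
      exact hv ⟨f y, mem_zpowers _⟩
    · rintro hv ⟨σ, i, rfl⟩
      have h1 : f y ∈ MulAction.stabilizer (MulAut V) v := hv
      exact zpow_mem h1 i
  rw [hfixed] at hmod
  have e := (fix f y).card_mul_index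
  obtain ⟨i, hi⟩ := IsPGroup.iff_card.1 (hV2.to_subgroup (fix f y))
  have hne : (fix f y).index ≠ 1 := fun h => hy1 (hf (by
    rw [map_one]
    refine MulEquiv.ext fun v => ?_
    exact mem_fix.1 (index_eq_one.1 h ▸ mem_top v)))
  have hpos : (fix f y).index ≠ 0 := Subgroup.index_ne_zero_of_finite
  rw [← e] at hmod
  have hd' : q ∣ Nat.card (fix f y) * ((fix f y).index - 1) := by
    rw [Nat.mul_sub, mul_one]
    exact (Nat.modEq_iff_dvd' (Nat.le_mul_of_pos_right _ (Nat.pos_of_ne_zero hpos))).1 hmod.symm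
  have hd'' : q ∣ (fix f y).index - 1 := ((Nat.Prime.dvd_mul hqp.1).1 hd').resolve_left fun h => by
    rw [hi] at h
    exact hq2 ((Nat.prime_dvd_prime_iff_eq hqp.1 Nat.prime_two).1 (hqp.1.dvd_of_dvd_pow h))
  have hq3 : q = 3 := by
    have h1 := Nat.le_of_dvd (by omega) hd''
    have := hqp.1.two_le
    omega
  exact ⟨y, t, by rw [← hq3, ← hyo, pow_orderOf_eq_one], hy1, htt, ht1, hyinv⟩

end CfsgLib.Bicyclic.GLThree

namespace CfsgLib.Bicyclic

universe u v

theorem stmtGLThree : StmtGLThree.{u, v} := fun _V _O _ _ _ _ _f hf hV hcard _E hE =>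
  ⟨GLThree.not_four_dvd hf hV hcard hE, GLThree.exists_three hf hV hcard hE⟩

end CfsgLib.Bicyclic
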