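import Mathlib
import Cfsg.Agent.Lib.Bicyclic.EssBasic
import Cfsg.Agent.Lib.Bicyclic.GLThree
import Cfsg.Agent.Lib.Fusion.Criteria

/-!
# S5217, piece 3: from a non-inner saturated system to an essential datum
-/

set_option autoImplicit false
set_option linter.style.haveILetI false

namespace CfsgLib.Bicyclic

open Cfsg Cfsg.FusionSystem Subgroup CfsgLib.Fusion CfsgLib.PGroups
open scoped commutatorElement

universe u

set_option linter.unusedSectionVars false

variable {Ω : Type u} [Group Ω] {S : Subgroup Ω} [Finite S]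

theorem isPGroup_mulAut_congr {X Y : Type u} [Group X] [Group Y] (e : X ≃* Y)
    (h : IsPGroup 2 (MulAut X)) : IsPGroup 2 (MulAut Y) :=
  h.of_equiv (MulAut.congr e)

theorem exists_essential {M : Subgroup S} (hM : Shape (↥S) M) {F : FusionSystem S}
    (hF : F.IsSaturated 2) (hne : ¬ ∀ P : Subgroup Ω, F.Hom P = (innerFusionSystem S).Hom P) :
    ∃ P, F.IsEssential 2 P := by
  haveI : Fact (Nat.Prime 2) := ⟨Nat.prime_two⟩
  by_contra hcon
  push Not at hcon
  refine hne fun P => ?_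
  have he : F = innerFusionSystem S := fusion_le_antisymm (alperin hM.pgroup hF (by
    rintro Q (rfl | hQ)
    · rw [autGroup_inner le_rfl, ← inn_eq_autInducedBy]
      exact autGroup_le_inn_of_isPGroup hM.pgroup hF (hM.isPGroup_mulAut.to_subgroup _)
    · exact absurd hQ (hcon Q))) (inner_isSubsystemOf F)
  rw [he]

/-- The action on the Frattini quotient. -/
noncomputable def quotHom (X : Type u) [Group X] [Finite X] :
    MulAut X →* MulAut (X ⧸ frattini X) where
  toFun := MetacyclicTwoAut.quotAut (frattini X)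
  map_one' := MulEquiv.ext fun v => by
    induction v using QuotientGroup.induction_on with
    | H x => rfl
  map_mul' a b := MulEquiv.ext fun v => by
    induction v using QuotientGroup.induction_on with
    | H x => rfl

theorem isPGroup_ker_quotHom {X : Type u} [Group X] [Finite X] (h2 : IsPGroup 2 X) :
    IsPGroup 2 (quotHom X).ker := by
  haveI : Fact (Nat.Prime 2) := ⟨Nat.prime_two⟩
  refine IsPGroup.of_card (n := (Nat.card (quotHom X).ker).primeFactorsList.length)
    (Nat.eq_prime_pow_of_unique_prime_dvd Nat.card_pos.ne' fun {q} hq hqd => ?_)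
  by_contra hq2
  haveI := Fact.mk hq
  obtain ⟨a, ha⟩ := exists_prime_orderOf_dvd_card' q hqd
  have h1 : (a : MulAut X) ^ q = 1 := by
    rw [← SubmonoidClass.coe_pow, ← ha, pow_orderOf_eq_one, coe_one]
  have h3 := MetacyclicTwoAut.eq_one_of_trivial h2 hq2 h1 fun x => by
    have h4 := MulEquiv.congr_fun (MonoidHom.mem_ker.1 a.2) (x : X ⧸ frattini X)
    rw [MulAut.one_apply] at h4
    have h5 : ((a : MulAut X) x : X ⧸ frattini X) = (x : X ⧸ frattini X) := h4
    rw [eq_comm, QuotientGroup.eq] at h5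
    exact h5
  rw [show a = 1 from Subtype.ext h3, orderOf_one] at ha
  exact hq.one_lt.ne ha

set_option maxHeartbeats 1000000 in
theorem essential_data {M : Subgroup S} (hM : Shape (↥S) M) {F : FusionSystem S}
    (hF : F.IsSaturated 2) {P : Subgroup Ω} (hess : F.IsEssential 2 P) :
    ∃ (Q : Subgroup S) (τ : S) (α : MulAut Q), EssData (↥S) Q τ α := by
  haveI : Fact (Nat.Prime 2) := ⟨Nat.prime_two⟩
  have hS : IsPGroup 2 S := hM.pgroup
  have hPS : P ≤ S := hess.1.1
  have hlt : P < S := essential_lt hS hF hess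
  have hcen : centralizerIn S P ≤ P := centric_centralizer_le hess.1
  haveI : Finite P := finite_of_le hPS
  haveI := finite_mulAut hPS
  have hP2 : IsPGroup 2 P := isPGroup_of_le hPS hS
  obtain ⟨-, hfn, hn, E, hE⟩ := id hess
  set A := F.autGroup P
  set I := (Inn P).subgroupOf A with hI
  set π := QuotientGroup.mk' I
  have hπs : Function.Surjective π := QuotientGroup.mk'_surjective I
  set ρ := (quotHom P).comp A.subtype with hρ
  have hV : ∀ v : P ⧸ frattini P, v * v = 1 := fun v => by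
    induction v using QuotientGroup.induction_on with
    | H x =>
      rw [← QuotientGroup.mk_mul, QuotientGroup.eq_one_iff, ← sq]
      exact pow_mem_frattini hP2 x
  have hker : ρ.ker ≤ I := by
    let j : ρ.ker →* (quotHom P).ker :=
      { toFun := fun a => ⟨((a : A) : MulAut P), MonoidHom.mem_ker.1 a.2⟩
        map_one' := rfl
        map_mul' := fun _ _ => rfl }
    have h2 : IsPGroup 2 ρ.ker := (isPGroup_ker_quotHom hP2).of_injective j
      (fun a b h => Subtype.ext (Subtype.ext (congrArg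
        (fun z : (quotHom P).ker => (z : MulAut P)) h)))
    haveI := Subgroup.Normal.map (inferInstance : ρ.ker.Normal) π hπs
    have := pCore_eq_bot_of_stronglyPEmbedded hE (N := ρ.ker.map π) (h2.map π)
    rw [Subgroup.map_eq_bot_iff, QuotientGroup.ker_mk'] at this
    exact this
  have hIρ : I ≤ ρ.ker := fun a ha => by
    obtain ⟨g, hg⟩ := (mem_subgroupOf.1 ha : (a : MulAut P) ∈ Inn P)
    refine MonoidHom.mem_ker.2 (MulEquiv.ext fun v => ?_)
    induction v using QuotientGroup.induction_on with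
    | H x =>
      show MetacyclicTwoAut.quotAut (frattini P) (a : MulAut P) x = (x : P ⧸ frattini P)
      rw [← hg, MetacyclicTwoAut.quotAut_mk, MulAut.conj_apply, QuotientGroup.mk_mul,
        QuotientGroup.mk_mul, GLThree.vcomm hV (g : P ⧸ frattini P), QuotientGroup.mk_inv,
        mul_inv_cancel_right]
  set f := QuotientGroup.lift I ρ hIρ with hf
  have hfi : Function.Injective f := (injective_iff_map_eq_one f).2 fun w => by
    induction w using QuotientGroup.induction_on with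
    | H a =>
      intro ha
      exact (QuotientGroup.eq_one_iff a).2 (hker (MonoidHom.mem_ker.2 ha))
  have hcard : Nat.card (P ⧸ frattini P) ≤ 8 := by
    rw [← index_eq_card]
    set P' := P.subgroupOf S
    let e : P ≃* P' := (subgroupOfEquivOfLe hPS).symm
    have h8 := hM.frattini_index_le P'
    have hle : (frattini P').map e.symm.toMonoidHom ≤ frattini P := by
      rw [map_le_iff_le_comap]
      refine frattini_le_of_elementary_quotient (p := 2) ?_ fun g => ?_
      · rw [_root_.commutator_def, Subgroup.commutator_le]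
        intro a _ b _
        show e.symm.toMonoidHom ⁅a, b⁆ ∈ frattini P
        rw [map_commutatorElement]
        exact commutator_le_frattini hP2 (commutator_mem_commutator (mem_top _) (mem_top _))
      · show e.symm.toMonoidHom (g ^ 2) ∈ frattini P
        rw [map_pow]
        exact pow_mem_frattini hP2 _
    refine le_trans (Nat.le_of_dvd ?_ (index_dvd_of_le hle)) (le_trans (le_of_eq ?_) h8)
    · exact Nat.pos_of_ne_zero Subgroup.index_ne_zero_of_finite
    · exact index_map_equiv _ e.symm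
  obtain ⟨h4, x, t, hx3, hx1, htt, ht1, hinv⟩ := stmtGLThree (P ⧸ frattini P)
    (A ⧸ I) f hfi hV hcard E hE
  -- the Sylow subgroup of the outer automorphism group
  obtain ⟨-, hAS, hA2, hAmax⟩ := isFullyAutomized_iff.1 (isFullyAutomized_of_normalized hS hF hfn).1
  have hT2 : IsPGroup 2 ((autInducedBy S P).subgroupOf A) :=
    hA2.of_equiv (subgroupOfEquivOfLe hAS).symm
  let T₀ : Sylow 2 A :=
    { toSubgroup := (autInducedBy S P).subgroupOf A
      isPGroup' := hT2
      is_maximal' := fun {C} hC hle => by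
        have h1 := hAmax (C.map A.subtype) (hC.map _)
          (fun z hz => ⟨⟨z, hAS hz⟩, hle (mem_subgroupOf.2 hz), rfl⟩) (map_subtype_le C)
        refine le_antisymm (fun z hz => mem_subgroupOf.2 (h1 ▸ ⟨z, hz, rfl⟩)) hle }
  let T : Sylow 2 (A ⧸ I) := T₀.mapSurjective hπs
  have hTle : Nat.card T ≤ 2 := by
    obtain ⟨j, hj⟩ := IsPGroup.iff_card.1 T.2
    have hd := (T : Subgroup (A ⧸ I)).card_subgroup_dvd_card
    rw [hj] at hd ⊢
    by_contra hcon
    have hj2 : 2 ≤ j := by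
      by_contra hj1
      interval_cases j <;> simp at hcon
    exact h4 ((pow_dvd_pow 2 hj2).trans hd)
  -- classes of conjugations
  have hcls : ∀ g ∈ normalizerIn S P, ∃ a : A, (∀ y ∈ P, autFun (a : MulAut P) y = cj g y) ∧
      π a ∈ (T : Subgroup (A ⧸ I)) ∧ (π a = 1 → g ∈ P) := by
    rintro g ⟨hgS, hgN⟩
    obtain ⟨a, ha, e⟩ := exists_autInducedBy (K := S) hgS hgN
    refine ⟨⟨a, hAS ha⟩, e, ⟨⟨a, hAS ha⟩, mem_subgroupOf.2 ha, rfl⟩, fun h1 => ?_⟩
    exact mem_of_cj_inn hPS hcen hgS (mem_subgroupOf.1 ((QuotientGroup.eq_one_iff _).1 h1)) e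
  obtain ⟨τ, hτN, hτP⟩ := SetLike.exists_of_lt (normalizerIn_gt hS hlt)
  obtain ⟨aτ, haτ, haτT, haτ1⟩ := hcls τ hτN
  set s := π aτ with hs
  have hs1 : s ≠ 1 := fun h => hτP (haτ1 h)
  have hTtwo : ∀ z ∈ (T : Subgroup (A ⧸ I)), z = 1 ∨ z = s := fun z hz => by
    classical
    haveI := Fintype.ofFinite T
    by_contra hcon
    push Not at hcon
    have h5 := Finset.card_le_univ ({1, ⟨s, haτT⟩, ⟨z, hz⟩} : Finset T)
    rw [← Nat.card_eq_fintype_card] at h5
    simp [Subtype.ext_iff, Ne.symm hcon.1, Ne.symm hcon.2, Ne.symm hs1] at h5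
    have h6 : Nat.card T = Fintype.card T := Nat.card_eq_fintype_card
    omega
  have hss : s * s = 1 := (hTtwo _ (mul_mem haτT haτT)).resolve_right fun h => hs1 (mul_eq_left.1 h)
  have hdec : ∀ g ∈ normalizerIn S P, g ∈ P ∨ τ⁻¹ * g ∈ P := fun g hg => by
    obtain ⟨a, hag, haT, ha1⟩ := hcls g hg
    rcases hTtwo _ haT with h | h
    · exact Or.inl (ha1 h)
    · right
      obtain ⟨b, hb, hbT, hb1⟩ := hcls _ (mul_mem (inv_mem hτN) hg)
      refine hb1 ?_
      have hab : b = aτ⁻¹ * a := Subtype.ext (autFun_inj fun y hy => by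
        rw [hb y hy, Subgroup.coe_mul, autFun_mul _ _ hy, hag y hy, cj_mul]
        have h6 := haτ (autFun ((aτ : MulAut P))⁻¹ (cj g y)) (autFun_mem _
          (by rw [← hag y hy]; exact autFun_mem _ hy))
        rw [autFun_inv_right _ (by rw [← hag y hy]; exact autFun_mem _ hy)] at h6
        rw [InvMemClass.coe_inv]
        conv_lhs => rw [h6, cj_inv_cj])
      rw [hab, map_mul, map_inv, h, ← hs, inv_mul_cancel]
  have hτsq : τ * τ ∈ P := (hdec _ (mul_mem hτN hτN)).resolve_right fun h => hτP (by simpa using h)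
  -- move `t` to the class of `τ`
  obtain ⟨w, hw⟩ := GLThree.into_sylow T (A := zpowers t) (IsPGroup.of_card (n := 1) (by
    rw [Nat.card_zpowers, pow_one, orderOf_eq_prime (p := 2) (by rw [sq]; exact htt) ht1]))
  have hwt : w * t * w⁻¹ = s :=
    (hTtwo _ (hw t (mem_zpowers t))).resolve_left fun h => ht1 (conj_eq_one_iff.1 h)
  set x' := w * x * w⁻¹ with hx'
  have hx'3 : x' ^ 3 = 1 := by rw [hx', conj_pow, hx3]; group
  have hx'1 : x' ≠ 1 := fun h => hx1 (conj_eq_one_iff.1 h)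
  have hinv' : s * x' * s⁻¹ = x'⁻¹ := by
    rw [← hwt, hx', show w * t * w⁻¹ * (w * x * w⁻¹) * (w * t * w⁻¹)⁻¹ = w * (t * x * t⁻¹) * w⁻¹
      by group, hinv]
    group
  -- an element of order three above it
  have hI2 : IsPGroup 2 I :=
    (isPGroup_inn hS hPS).of_equiv (subgroupOfEquivOfLe (inn_le_autGroup F hPS)).symm
  obtain ⟨a₀, ha₀⟩ := hπs x'
  have ha3 : a₀ ^ 3 ∈ I := by
    rw [← QuotientGroup.eq_one_iff]
    show π (a₀ ^ 3) = 1
    rw [map_pow, ha₀, hx'3]
  obtain ⟨m, hm⟩ := hI2 ⟨_, ha3⟩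
  set α := a₀ ^ 2 ^ m with hα
  have hα3 : α ^ 3 = 1 := by
    rw [hα, ← pow_mul, mul_comm, pow_mul]
    exact congrArg Subtype.val hm
  have hπα : π α = x' ^ 2 ^ m := by rw [hα, map_pow, ha₀]
  have hπα1 : π α ≠ 1 := fun h => hx'1 (by
    rw [hπα] at h
    refine orderOf_eq_one_iff.1 (Nat.eq_one_of_dvd_coprimes (a := 2 ^ m) (b := 3) ?_
      (orderOf_dvd_of_pow_eq_one h) (orderOf_dvd_of_pow_eq_one hx'3))
    exact Nat.Coprime.pow_left m (by norm_num))
  have hπinv : s * π α * s⁻¹ = (π α)⁻¹ := by rw [hπα, ← conj_pow, hinv', inv_pow]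
  set β := aτ * α * aτ⁻¹ with hβ
  have hπβ : π β = (π α)⁻¹ := by rw [hβ, map_mul, map_mul, map_inv, ← hs, hπinv]
  -- conjugate `β` into `⟨α⟩` by an inner automorphism
  obtain ⟨i, hiI, hi⟩ : ∃ i ∈ I, i * β * i⁻¹ = α⁻¹ := by
    haveI : Fact (Nat.Prime 3) := ⟨Nat.prime_three⟩
    let D : Subgroup A := (zpowers (π α)).comap π
    have hαD : α ∈ D := mem_comap.2 (mem_zpowers _)
    have hβD : β ∈ D := mem_comap.2 (by rw [hπβ]; exact inv_mem (mem_zpowers _))
    have hord : ∀ y : A, y ^ 3 = 1 → π y ≠ 1 → orderOf y = 3 := fun y h1 h2 =>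
      orderOf_eq_prime h1 fun h => h2 (by rw [h, map_one])
    have hsmall : ∀ R : Sylow 3 D, Nat.card R ≤ 3 := by
      intro R
      let g : R →* zpowers (π α) :=
        { toFun := fun r => ⟨π ((r : D) : A), mem_comap.1 (r : D).2⟩
          map_one' := Subtype.ext (map_one π)
          map_mul' := fun p q => Subtype.ext (map_mul π _ _) }
      have hg : Function.Injective g := (injective_iff_map_eq_one g).2 fun r hr => by
        have h1 : ((r : D) : A) ∈ I := (QuotientGroup.eq_one_iff _).1 (congrArg Subtype.val hr)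
        obtain ⟨k, hk⟩ := hI2 ⟨_, h1⟩
        obtain ⟨l, hl⟩ := R.2 r
        have hk' : r ^ 2 ^ k = 1 := Subtype.ext (Subtype.ext (by simpa using congrArg Subtype.val hk))
        exact orderOf_eq_one_iff.1 (Nat.eq_one_of_dvd_coprimes
          (Nat.Coprime.pow k l (by norm_num : Nat.Coprime 2 3)) (orderOf_dvd_of_pow_eq_one hk')
          (orderOf_dvd_of_pow_eq_one hl))
      refine le_trans (Nat.card_le_card_of_injective g hg) ?_
      rw [Nat.card_zpowers]
      exact Nat.le_of_dvd (by norm_num) (orderOf_dvd_of_pow_eq_one (by rw [← map_pow, hα3, map_one]))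
    have hsyl : ∀ y : D, orderOf (y : A) = 3 → ∃ R : Sylow 3 D, (R : Subgroup D) = zpowers y := by
      intro y hy
      rw [Subgroup.orderOf_coe] at hy
      obtain ⟨R, hR⟩ := (IsPGroup.of_card (n := 1) (by rw [Nat.card_zpowers, hy, pow_one]) :
        IsPGroup 3 (zpowers y)).exists_le_sylow
      exact ⟨R, (eq_of_le_of_card_ge hR (by rw [Nat.card_zpowers, hy]; exact hsmall R)).symm⟩
    have hβ3 : β ^ 3 = 1 := by rw [hβ, conj_pow, hα3]; group
    obtain ⟨Rα, hRα⟩ := hsyl ⟨α, hαD⟩ (hord α hα3 hπα1)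
    obtain ⟨Rβ, hRβ⟩ := hsyl ⟨β, hβD⟩ (hord β hβ3 (by rw [hπβ]; simpa using hπα1))
    obtain ⟨d, hd⟩ := MulAction.exists_smul_eq D Rβ Rα
    obtain ⟨j, hj⟩ := (mem_zpowers_iff.1 (mem_comap.1 d.2) : ∃ k : ℤ, π α ^ k = π (d : A))
    have h1 : d * ⟨β, hβD⟩ * d⁻¹ ∈ zpowers (⟨α, hαD⟩ : D) := by
      rw [← hRα, ← hd, Sylow.coe_subgroup_smul]
      exact ⟨⟨β, hβD⟩, by rw [hRβ]; exact mem_zpowers _, rfl⟩
    obtain ⟨l, hl⟩ := mem_zpowers_iff.1 h1
    have hl' : α ^ l = (d : A) * β * (d : A)⁻¹ := congrArg Subtype.val hl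
    set i₀ := α ^ (-j) * (d : A) with hi₀
    have hi₀I : i₀ ∈ I := by
      rw [← QuotientGroup.eq_one_iff]
      show π i₀ = 1
      rw [hi₀, map_mul, map_zpow, ← hj, ← zpow_add, neg_add_cancel, zpow_zero]
    have h2 : i₀ * β * i₀⁻¹ = α ^ l := by
      rw [hi₀, show α ^ (-j) * (d : A) * β * (α ^ (-j) * (d : A))⁻¹
        = α ^ (-j) * ((d : A) * β * (d : A)⁻¹) * α ^ j by group, ← hl']
      group
    refine ⟨i₀, hi₀I, ?_⟩
    have hπ0 : π i₀ = 1 := (QuotientGroup.eq_one_iff _).2 hi₀I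
    have h3 : π (α ^ l) = (π α)⁻¹ := by
      rw [← h2, map_mul, map_mul, map_inv, hπ0, hπβ, one_mul, inv_one, mul_one]
    rw [map_zpow] at h3
    have h4 : π α ^ (l + 1) = 1 := by rw [zpow_add_one, h3, inv_mul_cancel]
    have h5 : ((3 : ℕ) : ℤ) ∣ l + 1 := by
      have := orderOf_dvd_iff_zpow_eq_one.2 h4
      rwa [orderOf_eq_prime (p := 3) (by rw [← map_pow, hα3, map_one]) hπα1] at this
    obtain ⟨q, hq⟩ := h5
    rw [h2, show l = (3 : ℕ) * q + -1 by rw [← hq]; ring, zpow_add, zpow_mul, zpow_natCast, hα3,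
      one_zpow, one_mul, zpow_neg_one]
  obtain ⟨h, hhP, hh⟩ := mem_inn.1 (mem_subgroupOf.1 hiI : (i : MulAut P) ∈ Inn P)
  -- the new `τ`
  set τ' := h * τ with hτ'
  have hτ'N : τ' ∈ normalizerIn S P := mul_mem ⟨hPS hhP, le_normalizer hhP⟩ hτN
  have hτ'P : τ' ∉ P := fun h' => hτP ((P.mul_mem_cancel_left hhP).1 h')
  have hτ'sq : τ' * τ' ∈ P := by
    rw [hτ', show h * τ * (h * τ) = h * (τ * h * τ⁻¹) * (τ * τ) by group]
    exact mul_mem (mul_mem hhP ((mem_normalizer_iff.1 hτN.2 h).1 hhP)) hτsq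
  have hτ'dec : ∀ g ∈ normalizerIn S P, g ∈ P ∨ τ'⁻¹ * g ∈ P := fun g hg => by
    rcases hdec g hg with h' | h'
    · exact Or.inl h'
    · right
      rw [hτ', show (h * τ)⁻¹ * g = (τ⁻¹ * h⁻¹ * τ) * (τ⁻¹ * g) by group]
      exact mul_mem ((mem_normalizer_iff''.1 hτN.2 h⁻¹).1 (inv_mem hhP)) h'
  have haτ' : ∀ y ∈ P, autFun ((i * aτ : A) : MulAut P) y = cj τ' y := fun y hy => by
    rw [Subgroup.coe_mul, autFun_mul _ _ hy, hh _ (autFun_mem _ hy), haτ y hy, hτ', cj_mul]
  have hrel : (i * aτ) * α = α⁻¹ * (i * aτ) := by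
    rw [← hi, hβ]
    group
  -- restate inside `S`
  set Q := P.subgroupOf S
  let e : Q ≃* P := subgroupOfEquivOfLe hPS
  let α' : MulAut Q := MulAut.congr e.symm (α : MulAut P)
  have hτS : τ' ∈ S := hτ'N.1
  have hnorm : ∀ g : S, g ∈ normalizer (Q : Set S) ↔ (g : Ω) ∈ normalizerIn S P := by
    intro g
    rw [mem_normalizer_iff]
    constructor
    · intro hg
      refine ⟨g.2, mem_normalizer_iff.2 fun y => ⟨fun hy => ?_, fun hy => ?_⟩⟩
      · exact (hg ⟨y, hPS hy⟩).1 hy
      · have hyS : y ∈ S := by simpa [mul_assoc] using mul_mem (mul_mem (inv_mem g.2) (hPS hy)) g.2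
        exact (hg ⟨y, hyS⟩).2 hy
    · exact fun hg y => mem_normalizer_iff.1 hg.2 (y : Ω)
  refine ⟨Q, ⟨τ', hτS⟩, α', ⟨?_, hτ'P, hτ'sq, ?_, ?_, ?_, ?_⟩⟩
  · intro g hg
    exact hcen ⟨g.2, fun y hy => congrArg Subtype.val (hg ⟨y, hPS hy⟩ hy)⟩
  · refine le_antisymm (fun g hg => ?_) (sup_le le_normalizer (zpowers_le.2 ((hnorm _).2 hτ'N)))
    rcases hτ'dec g ((hnorm g).1 hg) with h' | h'
    · exact mem_sup_left h'
    · have := mul_mem (mem_sup_right (mem_zpowers (⟨τ', hτS⟩ : S)) :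
        (⟨τ', hτS⟩ : S) ∈ Q ⊔ zpowers (⟨τ', hτS⟩ : S))
        (mem_sup_left (show (⟨τ', hτS⟩ : S)⁻¹ * g ∈ Q from h'))
      rwa [mul_inv_cancel_left] at this
  · show (MulAut.congr e.symm (α : MulAut P)) ^ 3 = 1
    rw [← map_pow, ← SubmonoidClass.coe_pow, hα3, coe_one, map_one]
  · intro h'
    have : (α : MulAut P) = 1 := (MulAut.congr e.symm).injective (h'.trans (map_one _).symm)
    exact hπα1 (by rw [show α = 1 from Subtype.ext this, map_one])
  · intro p q hpq
    apply Subtype.ext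
    have hq : ((e q : P) : Ω) = τ' * ((e p : P) : Ω) * τ'⁻¹ := congrArg Subtype.val hpq
    have h1 : autFun (((i * aτ) * α : A) : MulAut P) ((e p : P) : Ω)
        = autFun ((α⁻¹ * (i * aτ) : A) : MulAut P) ((e p : P) : Ω) := by rw [hrel]
    rw [Subgroup.coe_mul A (i * aτ) α, Subgroup.coe_mul A α⁻¹ (i * aτ), InvMemClass.coe_inv,
      autFun_mul _ _ (e p).2,
      autFun_mul _ _ (e p).2, haτ' _ (autFun_mem _ (e p).2), haτ' _ (e p).2, autFun_coe] at h1
    have h2 : cj τ' ((e p : P) : Ω) = ((e q : P) : Ω) := hq.symm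
    rw [h2, autFun_coe] at h1
    exact h1.symm

theorem exists_essData {M : Subgroup S} (hM : Shape (↥S) M) (h : Noninner S) :
    ∃ (Q : Subgroup S) (τ : S) (α : MulAut Q), EssData (↥S) Q τ α := by
  obtain ⟨F, hF, hne⟩ := h
  obtain ⟨P, hP⟩ := exists_essential hM hF hne
  exact essential_data hM hF hP

theorem stmtEssential_of (hc : StmtEssCore.{u}) : StmtEssential.{u} := by
  intro Ω _ S _ M hM h
  obtain ⟨Q, τ, α, hQ⟩ := exists_essData hM h
  exact hc (↥S) M hM Q τ α hQ

end CfsgLib.Bicyclic
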