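import Cfsg.Agent.Lib.Bicyclic.EssHomoBase
import Cfsg.Agent.Lib.PGroups.Basic

/-!
# The homocyclic case of the essential analysis (S5217, `StmtEssHomo`)
-/

set_option autoImplicit false
set_option linter.style.haveILetI false

namespace CfsgLib.Bicyclic.EssHomo

open Cfsg Subgroup

universe u

variable {G : Type u} [Group G] [Finite G] {a b τ : G} {k : ℕ}

omit [Finite G] in
theorem conj_a (F : Frame a b k) (i j : ℤ) : q a b i j * a * (q a b i j)⁻¹ = a := by
  have h : Commute (q a b i j) a :=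
    ((Commute.refl a).zpow_left i).mul_left (F.comm.symm.zpow_left j)
  rw [h.eq, mul_inv_cancel_right]

/-- If `τ` swaps `a` and `b` and `⟨a, b⟩` is all that is normalised, the derived subgroup is cyclic. -/
theorem trivial_case (h2 : IsPGroup 2 G) (F : Frame a b k) (hτa : τ * a * τ⁻¹ = b)
    (hτb : τ * b * τ⁻¹ = a) {i₀ : ℤ} (hτ2 : τ * τ = q a b i₀ i₀)
    (hnorm : normalizer (F.sub : Set G) = F.sub ⊔ zpowers τ) : IsCyclic ↥(commutator G) := by
  have ha1 : τ * a * τ⁻¹ = b ^ (1 : ℤ) := by rw [zpow_one]; exact hτa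
  have hb1 : τ * b * τ⁻¹ = a ^ (1 : ℤ) := by rw [zpow_one]; exact hτb
  have hn : τ ∈ normalizer (F.sub : Set G) := hnorm ▸ mem_sup_right (mem_zpowers τ)
  have ht : τ * τ ∈ F.sub := ⟨i₀, i₀, hτ2⟩
  set N := F.sub ⊔ zpowers τ with hN
  have hmem : ∀ g ∈ N, (∃ i j, g = q a b i j) ∨ ∃ i j, g = q a b i j * τ := by
    intro g hg
    rcases (mem_sup_zpowers hn ht).1 hg with ⟨i, j, e⟩ | ⟨i, j, e⟩
    · exact Or.inl ⟨i, j, e⟩
    · exact Or.inr ⟨i, j, mul_inv_eq_iff_eq_mul.1 e⟩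
  have hdiag : ∀ g ∈ N, g ∉ F.sub → ∀ h ∈ N, Commute g h → ∃ n, h * h = q a b n n := by
    intro g hg hgQ h hh hc
    rcases hmem g hg with ⟨i, j, rfl⟩ | ⟨i, j, rfl⟩
    · exact absurd ⟨i, j, rfl⟩ hgQ
    rcases hmem h hh with ⟨i', j', rfl⟩ | ⟨i', j', rfl⟩
    · have e : q a b j' i' = q a b i' j' := by
        have e1 : τ * q a b i' j' * τ⁻¹ = q a b j' i' := by
          rw [Frame.conj_q ha1 hb1 F.comm, one_mul, one_mul]
        have e2 : q a b i j * (τ * q a b i' j' * τ⁻¹) * (q a b i j)⁻¹ = q a b i' j' := by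
          rw [show q a b i j * (τ * q a b i' j' * τ⁻¹) * (q a b i j)⁻¹ =
            q a b i j * τ * q a b i' j' * (q a b i j * τ)⁻¹ by group, hc.eq, mul_inv_cancel_right]
        rw [e1, F.q_mul, F.q_inv, F.q_mul] at e2
        simpa using e2
      refine ⟨i' + j', ?_⟩
      calc q a b i' j' * q a b i' j' = q a b i' j' * q a b j' i' := by rw [e]
        _ = q a b (i' + j') (i' + j') := by rw [F.q_mul, add_comm j' i']
    · exact ⟨i' + j' + i₀, by rw [F.sq_mul ha1 hb1 hτ2, one_mul, one_mul, add_comm j' i']⟩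
  have hk : (2 ^ k : ℤ) = 2 * 2 ^ (k - 1) := by
    rw [← pow_succ']
    congr 1
    have := F.two_le
    omega
  have hk2 : (2 : ℤ) ^ (k - 1) = 2 * 2 ^ (k - 2) := by
    rw [← pow_succ']
    congr 1
    have := F.two_le
    omega
  have hab : Commute a b := F.comm
  -- the normalizer of `N` normalises `⟨a, b⟩`
  have hNN : normalizer (N : Set G) ≤ normalizer (F.sub : Set G) := by
    intro g hg
    have hgN : ∀ z ∈ F.sub, g * z * g⁻¹ ∈ N := fun z hz =>
      (mem_normalizer_iff.1 hg z).1 (mem_sup_left hz)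
    refine mem_normalizer_fintype fun z hz => ?_
    by_contra hzQ
    have hcomm : ∀ i j, Commute (g * z * g⁻¹) (g * q a b i j * g⁻¹) := fun i j => by
      obtain ⟨i', j', rfl⟩ := hz
      have : Commute (q a b i' j') (q a b i j) := by
        show _ * _ = _ * _
        rw [F.q_mul, F.q_mul, add_comm, add_comm j']
      exact this.map (MulAut.conj g).toMonoidHom
    have hinv : ∀ i j, (q a b i j) ^ (2 : ℕ) ^ k = 1 →
        ∃ n : ℤ, g * (q a b i j) ^ (2 : ℕ) ^ (k - 1) * g⁻¹ = q a b n n ∧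
          (2 ^ k : ℤ) ∣ 2 * n := by
      intro i j h1
      obtain ⟨n, hn'⟩ := hdiag _ (hgN z hz) hzQ _ (hgN _ ⟨i, j, rfl⟩) (hcomm i j)
      refine ⟨2 ^ (k - 2) * n, ?_, ?_⟩
      · have e : g * (q a b i j) ^ (2 : ℕ) ^ (k - 1) * g⁻¹ =
            ((g * q a b i j * g⁻¹) * (g * q a b i j * g⁻¹)) ^ (2 : ℕ) ^ (k - 2) := by
          have h' : 2 * 2 ^ (k - 2) = 2 ^ (k - 1) := by
            rw [← pow_succ']
            congr 1
            have := F.two_le
            omega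
          rw [← pow_two (g * q a b i j * g⁻¹), conj_pow, conj_pow, ← pow_mul, h']
        rw [e, hn', ← zpow_natCast, q, (hab.zpow_zpow n n).mul_zpow, ← zpow_mul, ← zpow_mul, q]
        push_cast
        rw [mul_comm n]
      · have e : g * (q a b i j) ^ (2 : ℕ) ^ k * g⁻¹ = 1 := by rw [h1, mul_one, mul_inv_cancel]
        have e2 : ((g * q a b i j * g⁻¹) * (g * q a b i j * g⁻¹)) ^ (2 : ℕ) ^ (k - 1) = 1 := by
          have h' : 2 * 2 ^ (k - 1) = 2 ^ k := by
            rw [← pow_succ']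
            congr 1
            have := F.two_le
            omega
          rw [← pow_two (g * q a b i j * g⁻¹), conj_pow, conj_pow, ← pow_mul, h']
          exact e
        rw [hn', ← zpow_natCast, q, (hab.zpow_zpow n n).mul_zpow, ← zpow_mul, ← zpow_mul] at e2
        have h3 := (F.q_eq_one.1 e2).1
        push_cast at h3
        rw [show 2 * ((2 : ℤ) ^ (k - 2) * n) = n * 2 ^ (k - 1) by rw [hk2]; ring]
        exact h3
    have hpa : (q a b 1 0) ^ (2 : ℕ) ^ k = 1 := by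
      rw [q_left, zpow_one, ← F.order_a]; exact pow_orderOf_eq_one a
    have hpb : (q a b 0 1) ^ (2 : ℕ) ^ k = 1 := by
      rw [q_right, zpow_one, ← F.order_b]; exact pow_orderOf_eq_one b
    obtain ⟨n, en, hn1⟩ := hinv 1 0 hpa
    obtain ⟨m, em, hm1⟩ := hinv 0 1 hpb
    have hne : ¬ (2 ^ k : ℤ) ∣ 2 ^ (k - 1) := fun h => by
      have := Int.le_of_dvd (by positivity) h
      have : (0 : ℤ) < 2 ^ (k - 1) := by positivity
      omega
    rw [q_left, zpow_one, ← zpow_natCast, ← q_left a b] at en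
    rw [q_right, zpow_one, ← zpow_natCast, ← q_right a b] at em
    push_cast at en em
    have hnk : (2 : ℤ) ^ (k - 1) ∣ n := by
      rw [hk] at hn1; exact (mul_dvd_mul_iff_left (by norm_num)).1 hn1
    have hmk : (2 : ℤ) ^ (k - 1) ∣ m := by
      rw [hk] at hm1; exact (mul_dvd_mul_iff_left (by norm_num)).1 hm1
    have hn0 : ¬ (2 ^ k : ℤ) ∣ n := fun h => by
      rw [show q a b n n = 1 from F.q_eq_one.2 ⟨h, h⟩, conj_eq_one_iff, F.q_eq_one] at en
      exact hne en.1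
    have hm0 : ¬ (2 ^ k : ℤ) ∣ m := fun h => by
      rw [show q a b m m = 1 from F.q_eq_one.2 ⟨h, h⟩, conj_eq_one_iff, F.q_eq_one] at em
      exact hne em.2
    have hsame : q a b m m = q a b n n := by
      obtain ⟨n', rfl⟩ := hnk
      obtain ⟨m', rfl⟩ := hmk
      have hn' : ¬ 2 ∣ n' := fun ⟨t, ht⟩ => hn0 ⟨t, by rw [hk, ht]; ring⟩
      have hm' : ¬ 2 ∣ m' := fun ⟨t, ht⟩ => hm0 ⟨t, by rw [hk, ht]; ring⟩
      obtain ⟨t, ht⟩ : 2 ∣ n' - m' := by omega
      rw [F.q_eq, and_self, ← mul_sub, ht]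
      exact ⟨t, by rw [hk]; ring⟩
    have e := (mul_left_cancel (mul_right_cancel ((en.trans hsame.symm).trans em.symm)))
    have := (F.q_eq.1 e).2
    rw [sub_zero] at this
    exact hne this
  have htop : N = ⊤ := by
    haveI := h2.isNilpotent
    by_contra hne
    exact (Group.normalizerCondition_of_isNilpotent N (lt_top_iff_ne_top.2 hne)).not_ge
      (hnorm ▸ hNN)
  set D := zpowers (q a b 1 (-1)) with hD
  haveI : D.Normal := by
    refine normalizer_eq_top_iff.1 (top_le_iff.1 (htop ▸ ?_))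
    refine sup_le ?_ (zpowers_le.2 ?_)
    · rintro _ ⟨i, j, rfl⟩
      refine mem_normalizer_fintype fun z hz => ?_
      obtain ⟨n, rfl⟩ := mem_zpowers_iff.1 hz
      rw [← conj_zpow, F.q_mul, F.q_inv, F.q_mul, show q a b (i + 1 + -i) (j + -1 + -j) =
        q a b 1 (-1) by congr 1 <;> ring]
      exact zpow_mem (mem_zpowers _) n
    · refine mem_normalizer_fintype fun z hz => ?_
      obtain ⟨n, rfl⟩ := mem_zpowers_iff.1 hz
      rw [← conj_zpow, Frame.conj_q ha1 hb1 F.comm, one_mul, one_mul,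
        show q a b (-1) 1 = (q a b 1 (-1))⁻¹ by rw [F.q_inv, neg_neg]]
      exact zpow_mem (inv_mem (mem_zpowers _)) n
  have hle : commutator G ≤ D := by
    have hA : (b : G ⧸ D) = (a : G ⧸ D) := (QuotientGroup.eq.2 (by
      rw [show b⁻¹ * a = q a b 1 (-1) by
        rw [q, zpow_one, zpow_neg_one]; exact (hab.inv_right).eq.symm]
      exact mem_zpowers _))
    have hcomm : Commute (τ : G ⧸ D) (a : G ⧸ D) := by
      have e : ((τ * a * τ⁻¹ : G) : G ⧸ D) = (a : G ⧸ D) := by rw [hτa, hA]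
      rw [QuotientGroup.mk_mul, QuotientGroup.mk_mul, QuotientGroup.mk_inv,
        mul_inv_eq_iff_eq_mul] at e
      exact e
    have hform : ∀ g : G, ∃ (n : ℤ) (e : ℕ), (g : G ⧸ D) = (a : G ⧸ D) ^ n * (τ : G ⧸ D) ^ e := by
      intro g
      rcases hmem g (htop ▸ mem_top g) with ⟨i, j, rfl⟩ | ⟨i, j, rfl⟩
      · exact ⟨i + j, 0, by rw [q, QuotientGroup.mk_mul, QuotientGroup.mk_zpow,
          QuotientGroup.mk_zpow, hA, zpow_add, pow_zero, mul_one]⟩
      · exact ⟨i + j, 1, by rw [q, QuotientGroup.mk_mul, QuotientGroup.mk_mul,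
          QuotientGroup.mk_zpow, QuotientGroup.mk_zpow, hA, zpow_add, pow_one]⟩
    refine (commutator_le.2 fun g _ h _ => ?_)
    rw [← QuotientGroup.eq_one_iff (N := D)]
    show ((g * h * g⁻¹ * h⁻¹ : G) : G ⧸ D) = 1
    obtain ⟨n, e, hge⟩ := hform g
    obtain ⟨m, f, hhe⟩ := hform h
    have hc : Commute (g : G ⧸ D) (h : G ⧸ D) := by
      rw [hge, hhe]
      exact (((Commute.refl _).zpow_zpow _ _).mul_right ((hcomm.symm.zpow_left _).pow_right _)).mul_left
        (((hcomm.zpow_right _).pow_left _).mul_right ((Commute.refl _).pow_pow _ _))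
    rw [QuotientGroup.mk_mul, QuotientGroup.mk_mul, QuotientGroup.mk_mul, QuotientGroup.mk_inv,
      QuotientGroup.mk_inv, hc.eq, mul_inv_cancel_right, mul_inv_cancel]
  exact isCyclic_of_injective (inclusion hle) (inclusion_injective hle)

/-- The case of a nontrivial cyclic complement does not occur. -/
theorem nontrivial_case {M : Subgroup G} (hS : Shape G M) (F : Frame a b k) {C : Subgroup G}
    (hC : IsCyclic ↥C) (hC1 : C ≠ ⊥) (hd : F.sub ⊓ C = ⊥) (hτa : τ * a * τ⁻¹ = b)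
    (hτC : τ ∈ normalizer (C : Set G)) (hτP : τ ∉ F.sub ⊔ C) (hτ2 : τ * τ ∈ F.sub ⊔ C)
    (hscal : ∀ c ∈ C, ∃ x : ℤ, c * a * c⁻¹ = a ^ x ∧ c * b * c⁻¹ = b ^ x) : False := by
  obtain ⟨γ, hγ⟩ := IsCyclic.exists_generator (α := C)
  set c₀ := (γ : G) with hc₀
  have hgen : C = zpowers c₀ := by
    refine le_antisymm (fun x hx => ?_) (zpowers_le.2 γ.2)
    obtain ⟨n, hn⟩ := mem_zpowers_iff.1 (hγ ⟨x, hx⟩)
    exact ⟨n, by simpa using congrArg Subtype.val hn⟩
  obtain ⟨r, hr⟩ := (IsPGroup.iff_orderOf (p := 2)).1 hS.pgroup c₀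
  have hr0 : r ≠ 0 := by
    rintro rfl
    rw [pow_zero, orderOf_eq_one_iff] at hr
    exact hC1 (by rw [hgen, hr, zpowers_one_eq_bot])
  have hk : (2 ^ k : ℤ) = 2 * 2 ^ (k - 1) := by
    rw [← pow_succ']
    congr 1
    have := F.two_le
    omega
  have hk2 : (2 : ℤ) ^ (k - 1) = 2 * 2 ^ (k - 2) := by
    rw [← pow_succ']
    congr 1
    have := F.two_le
    omega
  -- the involution of `C`
  set t := c₀ ^ 2 ^ (r - 1) with ht
  have htt : t * t = 1 := by
    rw [ht, ← pow_add, ← two_mul, ← pow_succ', show r - 1 + 1 = r by omega, ← hr]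
    exact pow_orderOf_eq_one c₀
  have ht1 : t ≠ 1 := fun h => by
    have := orderOf_dvd_of_pow_eq_one h
    rw [hr, Nat.pow_dvd_pow_iff_le_right (by norm_num)] at this
    omega
  have htC : t ∈ C := pow_mem γ.2 _
  have htQ : t ∉ F.sub := fun h => ht1 (by rw [← mem_bot, ← hd]; exact ⟨h, htC⟩)
  have hA : ∀ i j, (2 ^ (k - 1) : ℤ) ∣ i → (2 ^ (k - 1) : ℤ) ∣ j → Commute t (q a b i j) := by
    intro i j hi hj
    obtain ⟨x, hxa, hxb⟩ := hscal t htC
    have hx : ¬ 2 ∣ x := fun ⟨y, hy⟩ => by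
      have e := Frame.conj_diag hxa hxb (2 ^ (k - 1)) 0
      rw [show q a b (x * 2 ^ (k - 1)) (x * 0) = 1 from
        F.q_eq_one.2 ⟨⟨y, by rw [hy, hk]; ring⟩, by simp⟩, conj_eq_one_iff, F.q_eq_one] at e
      have := Int.le_of_dvd (by positivity) e.1
      have : (0 : ℤ) < 2 ^ (k - 1) := by positivity
      omega
    obtain ⟨y, rfl⟩ : ∃ y, x = 2 * y + 1 := ⟨x / 2, by omega⟩
    have e := Frame.conj_diag hxa hxb i j
    obtain ⟨i', rfl⟩ := hi
    obtain ⟨j', rfl⟩ := hj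
    rw [show q a b ((2 * y + 1) * (2 ^ (k - 1) * i')) ((2 * y + 1) * (2 ^ (k - 1) * j')) =
      q a b (2 ^ (k - 1) * i') (2 ^ (k - 1) * j') from F.q_eq.2
        ⟨⟨-(y * i'), by rw [hk]; ring⟩, ⟨-(y * j'), by rw [hk]; ring⟩⟩,
      mul_inv_eq_iff_eq_mul] at e
    exact e
  set P := F.sub ⊔ C with hP
  have hPne : P ≠ ⊤ := fun h => hτP (h ▸ mem_top τ)
  have hPmeta : ¬ IsMetacyclic ↥P := fun h => F.elem_false h htt htQ (mem_sup_right htC)
    fun i j hi hj => ⟨mem_sup_left ⟨i, j, rfl⟩, hA i j hi hj⟩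
  have hPM : P ≤ M := (hS.le_of_not_meta P hPmeta).resolve_left hPne
  set W := frattini G with hW
  haveI : W.Normal := by rw [hW]; infer_instance
  have hMco : IsCoatom M := by
    refine ⟨fun h => by simpa [h] using hS.index, fun K hK => index_eq_one.1 ?_⟩
    have h := relIndex_mul_index hK.le
    rw [hS.index] at h
    rcases (Nat.dvd_prime Nat.prime_two).1 (Dvd.intro_left _ h) with h1 | h1
    · exact h1
    · exact absurd (relIndex_eq_one.1 (by rw [h1] at h; omega)) hK.not_ge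
  have hWM : W ≤ M := frattini_le_coatom hMco
  have hWi : (W.subgroupOf M).index = 2 := by
    have h := relIndex_mul_index hWM
    rw [hS.index, hS.frattini_index] at h
    show W.relIndex M = 2
    omega
  have hmul : ∀ {g h : G}, g ∈ M → h ∈ M → (g * h ∈ W ↔ (g ∈ W ↔ h ∈ W)) := by
    intro g h hg hh
    exact Subgroup.mul_mem_iff_of_index_two hWi (a := ⟨g, hg⟩) (b := ⟨h, hh⟩)
  have hqM : ∀ i j, q a b i j ∈ M := fun i j => hPM (mem_sup_left ⟨i, j, rfl⟩)
  have hsqW : ∀ g : G, g * g ∈ W := fun g => by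
    rw [← pow_two]; exact CfsgLib.PGroups.pow_mem_frattini hS.pgroup g
  have hAW : ∀ i j, (2 ^ (k - 1) : ℤ) ∣ i → (2 ^ (k - 1) : ℤ) ∣ j → q a b i j ∈ W := by
    rintro i j ⟨i', rfl⟩ ⟨j', rfl⟩
    rw [show q a b (2 ^ (k - 1) * i') (2 ^ (k - 1) * j') =
      q a b (2 ^ (k - 2) * i') (2 ^ (k - 2) * j') * q a b (2 ^ (k - 2) * i') (2 ^ (k - 2) * j') by
        rw [F.q_mul, hk2]; ring_nf]
    exact hsqW _
  have htW : t ∉ W := fun h =>
    F.elem_false hS.frattini_meta htt htQ h fun i j hi hj => ⟨hAW i j hi hj, hA i j hi hj⟩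
  have hr1 : r = 1 := by
    by_contra hne
    apply htW
    rw [ht, show r - 1 = r - 2 + 1 by omega, pow_succ, pow_mul, pow_two]
    exact hsqW _
  subst hr1
  have ec : c₀ = t := by simp [ht]
  clear_value t
  subst ec
  -- now `C = {1, c₀}`
  have hCe : ∀ x ∈ C, x = 1 ∨ x = c₀ := by
    intro x hx
    rw [hgen] at hx
    obtain ⟨n, rfl⟩ := mem_zpowers_iff.1 hx
    obtain ⟨m, rfl | rfl⟩ := Int.even_or_odd' n
    · exact Or.inl (by rw [zpow_mul, zpow_two, htt, one_zpow])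
    · exact Or.inr (by rw [zpow_add_one, zpow_mul, zpow_two, htt, one_zpow, one_mul])
  have hτc : τ * c₀ * τ⁻¹ = c₀ := by
    rcases hCe _ ((mem_normalizer_iff.1 hτC c₀).1 htC) with h | h
    · exact absurd (conj_eq_one_iff.1 h) ht1
    · exact h
  have hcτ : Commute c₀ τ := (mul_inv_eq_iff_eq_mul.1 hτc).symm
  obtain ⟨x, hxa, hxb⟩ := hscal c₀ htC
  have hx : ¬ 2 ∣ x := fun ⟨y, hy⟩ => by
    have e := Frame.conj_diag hxa hxb (2 ^ (k - 1)) 0
    rw [show q a b (x * 2 ^ (k - 1)) (x * 0) = 1 from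
      F.q_eq_one.2 ⟨⟨y, by rw [hy, hk]; ring⟩, by simp⟩, conj_eq_one_iff, F.q_eq_one] at e
    have := Int.le_of_dvd (by positivity) e.1
    have : (0 : ℤ) < 2 ^ (k - 1) := by positivity
    omega
  have hcn : c₀ ∈ normalizer (F.sub : Set G) := by
    refine mem_normalizer_fintype ?_
    rintro _ ⟨i, j, rfl⟩
    exact ⟨_, _, Frame.conj_diag hxa hxb i j⟩
  have hcQ : c₀ * c₀ ∈ F.sub := htt ▸ F.sub.one_mem
  have hPform : ∀ g ∈ P, (∃ i j, g = q a b i j) ∨ ∃ i j, g = q a b i j * c₀ := by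
    intro g hg
    rw [hP, hgen] at hg
    rcases (mem_sup_zpowers hcn hcQ).1 hg with ⟨i, j, e⟩ | ⟨i, j, e⟩
    · exact Or.inl ⟨i, j, e⟩
    · exact Or.inr ⟨i, j, mul_inv_eq_iff_eq_mul.1 e⟩
  -- even weight is in `W`
  have hab : a ∈ W ↔ b ∈ W := by
    rw [← hτa]
    exact ⟨fun h => Normal.conj_mem inferInstance a h τ,
      fun h => by simpa [mul_assoc] using Normal.conj_mem (H := W) inferInstance _ h τ⁻¹⟩
  have haM : a ∈ M := by simpa [q] using hqM 1 0
  have hbM : b ∈ M := by simpa [q] using hqM 0 1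
  have hS1 : F.sub₁ ≤ W := by
    rintro _ ⟨i, j, ⟨m, hm⟩, rfl⟩
    obtain rfl : i = 2 * m - j := by omega
    have z : ∀ i j n : ℤ, q a b i j ^ n = q a b (i * n) (j * n) := fun i j n => by
      rw [q, (F.comm.zpow_zpow i j).mul_zpow, ← zpow_mul, ← zpow_mul, q]
    have e : q a b (2 * m - j) j = (q a b 1 1) ^ j * (q a b 1 0 * q a b 1 0) ^ (m - j) := by
      rw [F.q_mul, z, z, F.q_mul]
      congr 1 <;> ring
    rw [e]
    refine mul_mem (zpow_mem ?_ _) (zpow_mem (hsqW _) _)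
    simpa [q] using (hmul haM hbM).2 hab
  have hτb' : τ * b * τ⁻¹ = τ * τ * a * (τ * τ)⁻¹ := by rw [← hτa]; group
  -- `τ * τ` is diagonal
  obtain ⟨i₀, hτb, hT⟩ : ∃ i₀, τ * b * τ⁻¹ = a ∧ τ * τ = q a b i₀ i₀ := by
    have hself : τ * (τ * τ) * τ⁻¹ = τ * τ := by group
    rcases hPform _ hτ2 with ⟨i, j, e⟩ | ⟨i, j, e⟩
    · have hb0 : τ * b * τ⁻¹ = a := by
        rw [hτb', e, conj_a F]
      refine ⟨i, hb0, ?_⟩
      rw [e, Frame.conj_q (v := 1) (w := 1) (by rw [zpow_one]; exact hτa)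
        (by rw [zpow_one]; exact hb0) F.comm, one_mul, one_mul, F.q_eq] at hself
      rw [e, F.q_eq]
      exact ⟨by simp, by simpa using hself.1⟩
    · exfalso
      have hb0 : τ * b * τ⁻¹ = a ^ x := by
        rw [hτb', e, show q a b i j * c₀ * a * (q a b i j * c₀)⁻¹ =
          q a b i j * (c₀ * a * c₀⁻¹) * (q a b i j)⁻¹ by group, hxa, ← q_left a b, F.q_mul,
          F.q_inv, F.q_mul]
        congr 1 <;> ring
      have e1 : τ * (q a b i j * c₀) * τ⁻¹ = τ * q a b i j * τ⁻¹ * (τ * c₀ * τ⁻¹) := by group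
      rw [e, e1, Frame.conj_q (v := 1) (w := x) (by rw [zpow_one]; exact hτa) hb0 F.comm, hτc,
        mul_left_inj, one_mul] at hself
      obtain ⟨-, h4⟩ := F.q_eq_mod hself
      have hq : q a b i j ∈ W := hS1 ⟨i, j, by omega, rfl⟩
      refine htW ?_
      have h2' : τ * τ ∈ W := hsqW τ
      rw [e] at h2'
      simpa using mul_mem (inv_mem hq) h2'
  have ha1 : τ * a * τ⁻¹ = b ^ (1 : ℤ) := by rw [zpow_one]; exact hτa
  have hb1 : τ * b * τ⁻¹ = a ^ (1 : ℤ) := by rw [zpow_one]; exact hτb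
  have hcTa : c₀ * τ * a * (c₀ * τ)⁻¹ = b ^ x := by
    rw [show c₀ * τ * a * (c₀ * τ)⁻¹ = c₀ * (τ * a * τ⁻¹) * c₀⁻¹ by group, hτa, hxb]
  have hcTb : c₀ * τ * b * (c₀ * τ)⁻¹ = a ^ x := by
    rw [show c₀ * τ * b * (c₀ * τ)⁻¹ = c₀ * (τ * b * τ⁻¹) * c₀⁻¹ by group, hτb, hxa]
  have hcT2 : c₀ * τ * (c₀ * τ) = q a b i₀ i₀ := by
    rw [show c₀ * τ * (c₀ * τ) = c₀ * c₀ * (τ * τ) from hcτ.symm.mul_mul_mul_comm c₀ τ, htt,
      one_mul, hT]
  set N := P ⊔ zpowers τ with hN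
  have hNmeta : ¬ IsMetacyclic ↥N := fun h => F.elem_false h htt htQ
    (mem_sup_left (mem_sup_right htC))
    fun i j hi hj => ⟨mem_sup_left (mem_sup_left ⟨i, j, rfl⟩), hA i j hi hj⟩
  rcases hS.le_of_not_meta N hNmeta with htop | hNM
  · -- `N = G`: too many squares vanish
    have hτn : τ ∈ normalizer (P : Set G) := by
      refine mem_normalizer_fintype fun g hg => ?_
      rcases hPform g hg with ⟨i, j, rfl⟩ | ⟨i, j, rfl⟩
      · rw [Frame.conj_q ha1 hb1 F.comm]; exact mem_sup_left ⟨_, _, rfl⟩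
      · rw [show τ * (q a b i j * c₀) * τ⁻¹ = τ * q a b i j * τ⁻¹ * (τ * c₀ * τ⁻¹) by group,
          Frame.conj_q ha1 hb1 F.comm, hτc]
        exact mul_mem (mem_sup_left ⟨_, _, rfl⟩) (mem_sup_right htC)
    have hsq : ∀ g : G, g * g ∈ F.sub₁ := by
      intro g
      obtain ⟨y, rfl⟩ : ∃ y, x = 2 * y + 1 := ⟨x / 2, by omega⟩
      have hg : g ∈ N := htop ▸ mem_top g
      rcases (mem_sup_zpowers hτn hτ2).1 hg with h | h
      · rcases hPform g h with ⟨i, j, rfl⟩ | ⟨i, j, rfl⟩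
        · rw [F.q_mul]; exact F.mem_sub₁.2 (by omega)
        · have e : q a b i j * c₀ * (q a b i j * c₀) =
              q a b i j * (c₀ * q a b i j * c₀⁻¹) * (c₀ * c₀) := by group
          rw [e, Frame.conj_diag hxa hxb, F.q_mul, htt, mul_one]
          refine F.mem_sub₁.2 ⟨(y + 1) * (i + j), by ring⟩
      · rcases hPform _ h with ⟨i, j, e⟩ | ⟨i, j, e⟩
        · rw [mul_inv_eq_iff_eq_mul] at e
          rw [e, F.sq_mul ha1 hb1 hT]
          exact F.mem_sub₁.2 ⟨i + j + i₀, by ring⟩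
        · rw [mul_inv_eq_iff_eq_mul, mul_assoc] at e
          rw [e, F.sq_mul hcTa hcTb hcT2]
          exact F.mem_sub₁.2 ⟨(y + 1) * (i + j) + i₀, by ring⟩
    obtain ⟨g₁, g₂, hg, -⟩ := hS.gens
    refine rank_false (T := ⊤) (mem_top g₁) (mem_top g₂) hg.ge le_top (fun g _ => hsq g)
      (fun z => (if z.1 then τ else 1) * ((if z.2.1 then c₀ else 1) * if z.2.2 then a else 1))
      (fun _ => mem_top _) ?_
    have ha' : a ∈ P := mem_sup_left ⟨1, 0, by simp [q]⟩
    have hc' : c₀ ∈ P := mem_sup_right htC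
    have haQ : a ∈ F.sub := ⟨1, 0, by simp [q]⟩
    have h12 : ∀ {g}, g ∈ F.sub₁ → g ∈ F.sub := fun ⟨i, j, _, e⟩ => ⟨i, j, e⟩
    have hq2 : ∀ p' p'' : G, p' ∈ P → p'' ∈ P → p'⁻¹ * (τ * p'') ∉ F.sub₁ := by
      intro p' p'' hp' hp'' h
      refine hτP ?_
      have e : τ = p' * (p'⁻¹ * (τ * p'')) * p''⁻¹ := by group
      rw [e]
      exact mul_mem (mul_mem hp' (mem_sup_left (h12 h))) (inv_mem hp'')
    have hq3 : ∀ p' p'' : G, p' ∈ F.sub → p'' ∈ F.sub → p'⁻¹ * (c₀ * p'') ∉ F.sub₁ := by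
      intro p' p'' hp' hp'' h
      refine htQ ?_
      have e : c₀ = p' * (p'⁻¹ * (c₀ * p'')) * p''⁻¹ := by group
      rw [e]
      exact mul_mem (mul_mem hp' (h12 h)) (inv_mem hp'')
    have hin : ∀ u v : Bool, ((if u then c₀ else 1) * if v then a else 1) ∈ P := fun u v =>
      mul_mem (by split_ifs <;> simp [hc', one_mem]) (by split_ifs <;> simp [ha', one_mem])
    have hin' : ∀ v : Bool, (if v then a else 1) ∈ F.sub := fun v => by
      split_ifs <;> simp [haQ, one_mem]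
    rintro ⟨u₁, u₂, u₃⟩ ⟨v₁, v₂, v₃⟩ h
    have h1 : u₁ = v₁ := by
      cases u₁ <;> cases v₁ <;> simp only [Bool.false_eq_true, if_false, if_true, one_mul] at h ⊢
      · exact absurd h (hq2 _ _ (hin _ _) (hin _ _))
      · have h' := inv_mem h
        rw [mul_inv_rev, inv_inv] at h'
        exact absurd h' (hq2 _ _ (hin _ _) (hin _ _))
    subst h1
    rw [mul_inv_rev, mul_assoc, inv_mul_cancel_left] at h
    have h2 : u₂ = v₂ := by
      cases u₂ <;> cases v₂ <;> simp only [Bool.false_eq_true, if_false, if_true, one_mul] at h ⊢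
      · exact absurd h (hq3 _ _ (hin' _) (hin' _))
      · have h' := inv_mem h
        rw [mul_inv_rev, inv_inv] at h'
        exact absurd h' (hq3 _ _ (hin' _) (hin' _))
    subst h2
    rw [mul_inv_rev, mul_assoc, inv_mul_cancel_left] at h
    have hna : a ∉ F.sub₁ := fun h => by
      have := F.mem_sub₁.1 (show q a b 1 0 ∈ F.sub₁ by simpa [q] using h)
      norm_num at this
    cases u₃ <;> cases v₃ <;>
      simp only [Bool.false_eq_true, if_false, if_true, inv_one, one_mul, mul_one, inv_mem_iff]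
        at h ⊢
    · exact (hna h).elim
    · exact (hna h).elim
  · -- `N ≤ M`: a wreath product inside `W`
    have hτM : τ ∈ M := hNM (mem_sup_right (mem_zpowers τ))
    have hcM : c₀ ∈ M := hPM (mem_sup_right htC)
    obtain ⟨y, u, hu, hyW, hyP, hya, hyb, hy2, hyc⟩ : ∃ (y : G) (u : ℤ), (u = 1 ∨ u = x) ∧
        y ∈ W ∧ y ∉ P ∧ y * a * y⁻¹ = b ^ u ∧ y * b * y⁻¹ = a ^ u ∧ y * y = q a b i₀ i₀ ∧
        Commute c₀ y := by
      by_cases h : τ ∈ W
      · exact ⟨τ, 1, Or.inl rfl, h, hτP, ha1, hb1, hT, hcτ⟩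
      · exact ⟨c₀ * τ, x, Or.inr rfl, (hmul hcM hτM).2 (iff_of_false htW h),
          fun h' => hτP (by simpa using mul_mem (inv_mem (mem_sup_right (S := F.sub) htC)) h'),
          hcTa, hcTb, hcT2, (Commute.refl c₀).mul_right hcτ⟩
    have hyQ : y ∉ F.sub := fun h => hyP (mem_sup_left h)
    by_cases hi : 2 ∣ i₀
    · refine F.wreath_false hS.frattini_meta (t := y) ?_ hya hyb hy2 ⟨hi, by omega⟩ hyQ hyW hS1
      rcases hu with rfl | rfl
      · norm_num
      · exact hx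
    · -- `τ ^ 2` odd: everything commutes with `c₀`
      have hx1 : (2 ^ k : ℤ) ∣ x - 1 := by
        have e : c₀ * (τ * τ) * c₀⁻¹ = τ * τ := by
          rw [← mul_assoc, hcτ.eq, mul_assoc τ, hcτ.eq, ← mul_assoc, mul_inv_cancel_right]
        rw [hT, Frame.conj_diag hxa hxb, F.q_eq] at e
        have hco : IsCoprime ((2 : ℤ) ^ k) i₀ :=
          (Int.prime_two.coprime_iff_not_dvd.2 hi).pow_left
        have h3 : (2 ^ k : ℤ) ∣ i₀ * (x - 1) := by
          rw [show i₀ * (x - 1) = -(i₀ - x * i₀) by ring]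
          exact e.1.neg_right
        exact hco.dvd_of_dvd_mul_left h3
      have hxa1 : c₀ * a * c₀⁻¹ = a := by
        rw [hxa, ← q_left a b]
        conv_rhs => rw [show a = q a b 1 0 by simp [q]]
        exact F.q_eq.2 ⟨by simpa using hx1.neg_right, by simp⟩
      have hxb1 : c₀ * b * c₀⁻¹ = b := by
        rw [hxb, ← q_right a b]
        conv_rhs => rw [show b = q a b 0 1 by simp [q]]
        exact F.q_eq.2 ⟨by simp, by simpa using hx1.neg_right⟩
      have hu1 : y * a * y⁻¹ = b ∧ y * b * y⁻¹ = a := by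
        rcases hu with rfl | rfl
        · exact ⟨by rw [hya, zpow_one], by rw [hyb, zpow_one]⟩
        · exact ⟨by rw [hya, ← hxb, hxb1], by rw [hyb, ← hxa, hxa1]⟩
      have hca : Commute c₀ a := mul_inv_eq_iff_eq_mul.1 hxa1
      have hcb : Commute c₀ b := mul_inv_eq_iff_eq_mul.1 hxb1
      have hya1 : y * a * y⁻¹ = b ^ (1 : ℤ) := by rw [zpow_one]; exact hu1.1
      have hyb1 : y * b * y⁻¹ = a ^ (1 : ℤ) := by rw [zpow_one]; exact hu1.2
      -- the involution of the wreath product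
      set t₀ := q a b (-i₀) 0 * y with ht₀
      have ht₀2 : t₀ * t₀ = q a b 0 0 := by
        rw [ht₀, F.sq_mul hya1 hyb1 hy2]
        congr 1 <;> ring
      have ht₀a : t₀ * a * t₀⁻¹ = b ^ (1 : ℤ) := by
        rw [ht₀, show q a b (-i₀) 0 * y * a * (q a b (-i₀) 0 * y)⁻¹ =
          q a b (-i₀) 0 * (y * a * y⁻¹) * (q a b (-i₀) 0)⁻¹ by group, hya1, ← q_right a b,
          F.q_mul, F.q_inv, F.q_mul]
        congr 1 <;> ring
      have ht₀b : t₀ * b * t₀⁻¹ = a ^ (1 : ℤ) := by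
        rw [ht₀, show q a b (-i₀) 0 * y * b * (q a b (-i₀) 0 * y)⁻¹ =
          q a b (-i₀) 0 * (y * b * y⁻¹) * (q a b (-i₀) 0)⁻¹ by group, hyb1, ← q_left a b,
          F.q_mul, F.q_inv, F.q_mul]
        congr 1 <;> ring
      have hpar : q a b (-i₀) 0 ∈ W ↔ a ∈ W := by
        have he : q a b (-i₀) 0 = q a b (-i₀ - 1) 0 * a := by
          rw [q_left, q_left, ← zpow_add_one]
          congr 1
          ring
        have hev : q a b (-i₀ - 1) 0 ∈ W := hS1 ⟨_, _, by omega, rfl⟩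
        rw [he, hmul (hqM _ _) haM, iff_iff_implies_and_implies]
        exact ⟨fun h => h.1 hev, fun h => ⟨fun _ => h, fun _ => hev⟩⟩
      have hqP : q a b (-i₀) 0 ∈ P := mem_sup_left ⟨_, _, rfl⟩
      by_cases haW : a ∈ W
      · refine F.wreath_false hS.frattini_meta (t := t₀) (by norm_num) ht₀a ht₀b ht₀2
          ⟨dvd_zero _, by norm_num⟩ ?_ ?_ hS1
        · intro h
          exact hyP (by simpa [ht₀] using mul_mem (inv_mem hqP) (mem_sup_left (T := C) h))
        · exact mul_mem (hpar.2 haW) hyW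
      · have hc1 : Commute c₀ t₀ := by
          rw [ht₀]
          refine Commute.mul_right ?_ hyc
          rw [q]
          exact (hca.zpow_right _).mul_right (hcb.zpow_right _)
        have e1 : ∀ g, Commute c₀ g → c₀ * g * c₀⁻¹ = g := fun g h => by
          rw [h.eq, mul_inv_cancel_right]
        refine F.wreath_false hS.frattini_meta (t := c₀ * t₀) (v := 1) (by norm_num) ?_ ?_ ?_
          (i₀ := 0) (j₀ := 0) ⟨dvd_zero _, by norm_num⟩ ?_ ?_ hS1
        · rw [show c₀ * t₀ * a * (c₀ * t₀)⁻¹ = c₀ * (t₀ * a * t₀⁻¹) * c₀⁻¹ by group, ht₀a,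
            e1 _ (hcb.zpow_right _)]
        · rw [show c₀ * t₀ * b * (c₀ * t₀)⁻¹ = c₀ * (t₀ * b * t₀⁻¹) * c₀⁻¹ by group, ht₀b,
            e1 _ (hca.zpow_right _)]
        · rw [mul_assoc, ← mul_assoc t₀, ← hc1.eq, mul_assoc c₀, ← mul_assoc c₀, htt, one_mul,
            ht₀2]
        · intro h
          refine hyP ?_
          have h' : c₀ * t₀ ∈ P := mem_sup_left h
          simpa [ht₀] using mul_mem (inv_mem hqP)
            (mul_mem (inv_mem (mem_sup_right (S := F.sub) htC)) h')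
        · rw [ht₀, ← mul_assoc]
          refine mul_mem ?_ hyW
          rw [hmul hcM (hqM _ _)]
          exact iff_of_false htW fun h => haW (hpar.1 h)

end CfsgLib.Bicyclic.EssHomo

namespace CfsgLib.Bicyclic

open Cfsg Subgroup

universe u

/-- The homocyclic case. -/
theorem stmtEssHomo : StmtEssHomo.{u} := by
  intro G _ _ M hS P Q C τ a b k hk ha hτa hab hd hQ hC hQC hP hτC hτP hτ2 hnorm hscal
  have hb : orderOf b = 2 ^ k := by
    rw [← hτa, ← MulAut.conj_apply, MulEquiv.orderOf_eq, ha]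
  have F : EssHomo.Frame a b k := ⟨hk, ha, hb, hab, hd⟩
  rw [F.sub_eq] at hQ
  subst hQ
  subst hP
  by_cases hC1 : C = ⊥
  · subst hC1
    rw [sup_bot_eq] at hτP hτ2 hnorm
    obtain ⟨i, j, e⟩ := hτ2
    have hτb : τ * b * τ⁻¹ = a := by
      rw [show τ * b * τ⁻¹ = τ * τ * a * (τ * τ)⁻¹ by rw [← hτa]; group, e, EssHomo.conj_a F]
    refine EssHomo.trivial_case hS.pgroup F hτa hτb (i₀ := i) ?_ hnorm
    have h : τ * (τ * τ) * τ⁻¹ = τ * τ := by group
    rw [e, EssHomo.Frame.conj_q (v := 1) (w := 1) (by rw [zpow_one]; exact hτa)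
      (by rw [zpow_one]; exact hτb) F.comm, one_mul, one_mul, F.q_eq] at h
    rw [e, F.q_eq]
    exact ⟨by simp, by simpa using h.1⟩
  · exact (EssHomo.nontrivial_case hS F hC hC1 hQC hτa hτC hτP hτ2 hscal).elim

end CfsgLib.Bicyclic
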