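import Cfsg.Agent.Lib.Bicyclic.EssDefs
import Cfsg.Agent.Lib.FTCons.MetacyclicNilpotent

/-!
# The homocyclic case of the essential analysis (S5217): coordinates and a rank criterion
-/

set_option autoImplicit false
set_option linter.style.haveILetI false

namespace CfsgLib.Bicyclic.EssHomo

open Cfsg Subgroup

variable {G : Type*} [Group G]

/-- A subgroup extended by a normalising element with square inside. -/
theorem mem_sup_zpowers {H : Subgroup G} {t g : G} (hn : t ∈ normalizer (H : Set G))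
    (ht : t * t ∈ H) : g ∈ H ⊔ zpowers t ↔ g ∈ H ∨ g * t⁻¹ ∈ H := by
  constructor
  · intro hg
    rw [← SetLike.mem_coe, coe_mul_of_right_le_normalizer_left H _ (zpowers_le.2 hn)] at hg
    obtain ⟨h, hh, z, hz, rfl⟩ := hg
    obtain ⟨n, rfl⟩ := mem_zpowers_iff.1 hz
    have he : ∀ m : ℤ, t ^ (2 * m) ∈ H := fun m => by
      rw [zpow_mul, zpow_two]
      exact zpow_mem ht m
    obtain ⟨m, rfl | rfl⟩ := Int.even_or_odd' n
    · exact Or.inl (mul_mem hh (he m))
    · refine Or.inr ?_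
      show h * t ^ (2 * m + 1) * t⁻¹ ∈ H
      rw [zpow_add_one, mul_assoc, mul_assoc, mul_inv_cancel, mul_one]
      exact mul_mem hh (he m)
  · rintro (h | h)
    · exact mem_sup_left h
    · have := mul_mem (mem_sup_left (T := zpowers t) h) (mem_sup_right (S := H) (mem_zpowers t))
      rwa [inv_mul_cancel_right] at this

/-- A group generated by two elements has at most four cosets of a subgroup containing all its
squares. -/
theorem rank_false {T L : Subgroup G} {g₁ g₂ : G} (h₁ : g₁ ∈ T) (h₂ : g₂ ∈ T)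
    (hgen : T ≤ closure {g₁, g₂}) (hL : L ≤ T) (hsq : ∀ g ∈ T, g * g ∈ L)
    (f : Bool × Bool × Bool → G) (hf : ∀ x, f x ∈ T)
    (hinj : ∀ x y, (f x)⁻¹ * f y ∈ L → x = y) : False := by
  set L' := L.subgroupOf T with hL'
  haveI : L'.Normal := ⟨fun l hl g => by
    have e : (g : G) * l * (g : G)⁻¹ =
        ((g : G) * g) * (((g : G)⁻¹ * l) * ((g : G)⁻¹ * l)) * (l : G)⁻¹ := by group
    rw [hL', mem_subgroupOf] at hl ⊢
    show (g : G) * l * (g : G)⁻¹ ∈ L
    rw [e]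
    exact mul_mem (mul_mem (hsq _ g.2) (hsq _ (mul_mem (inv_mem g.2) l.2))) (inv_mem hl)⟩
  have hsq' : ∀ v : T ⧸ L', v * v = 1 := by
    intro v
    induction v using QuotientGroup.induction_on with
    | H g => exact (QuotientGroup.eq_one_iff (g * g)).2 (hsq _ g.2)
  have hinv : ∀ v : T ⧸ L', v⁻¹ = v := fun v => inv_eq_of_mul_eq_one_right (hsq' v)
  letI : CommGroup (T ⧸ L') :=
    { (inferInstance : Group (T ⧸ L')) with
      mul_comm := fun v w => by rw [← hinv (v * w), mul_inv_rev, hinv, hinv] }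
  set A : T ⧸ L' := ((⟨g₁, h₁⟩ : T) : T ⧸ L')
  set B : T ⧸ L' := ((⟨g₂, h₂⟩ : T) : T ⧸ L')
  have hle : closure {g₁, g₂} ≤ T := (closure_le T).2 fun z hz => by
    rcases hz with rfl | rfl <;> assumption
  have hall : ∀ v : T ⧸ L', ∃ m n : ℤ, v = A ^ m * B ^ n := by
    intro v
    induction v using QuotientGroup.induction_on with
    | H g =>
      obtain ⟨g, hg⟩ := g
      have key : ∀ z, ∀ hz : z ∈ closure {g₁, g₂}, ∃ m n : ℤ,
          (((⟨z, hle hz⟩ : T) : T) : T ⧸ L') = A ^ m * B ^ n := by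
        intro z hz
        induction hz using closure_induction with
        | mem z hz =>
          rcases hz with rfl | rfl
          · exact ⟨1, 0, by simp [A]⟩
          · exact ⟨0, 1, by simp [B]⟩
        | one => exact ⟨0, 0, by rw [zpow_zero, zpow_zero, one_mul]; rfl⟩
        | mul z w hz hw iz iw =>
          obtain ⟨m, n, e⟩ := iz
          obtain ⟨m', n', e'⟩ := iw
          refine ⟨m + m', n + n', ?_⟩
          rw [zpow_add, zpow_add, mul_mul_mul_comm, ← e, ← e']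
          rfl
        | inv z hz iz =>
          obtain ⟨m, n, e⟩ := iz
          refine ⟨-m, -n, ?_⟩
          rw [zpow_neg, zpow_neg, ← mul_inv, ← e]
          rfl
      exact key g (hgen hg)
  have hmod : ∀ (v : T ⧸ L') (m : ℤ), v ^ m = if 2 ∣ m then 1 else v := by
    intro v m
    obtain ⟨n, rfl | rfl⟩ := Int.even_or_odd' m
    · rw [if_pos (dvd_mul_right 2 n), zpow_mul, zpow_two, hsq', one_zpow]
    · rw [if_neg (by omega), zpow_add_one, zpow_mul, zpow_two, hsq', one_zpow, one_mul]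
  let e : Bool × Bool → T ⧸ L' := fun p => (if p.1 then 1 else A) * (if p.2 then 1 else B)
  have hs : Function.Surjective e := by
    intro v
    obtain ⟨m, n, rfl⟩ := hall v
    refine ⟨(decide (2 ∣ m), decide (2 ∣ n)), ?_⟩
    simp only [e, hmod, decide_eq_true_eq]
  have hi : Function.Injective fun x => ((⟨f x, hf x⟩ : T) : T ⧸ L') := fun x y h =>
    hinj x y (show _ ∈ L' from QuotientGroup.eq.1 h)
  haveI : Finite (T ⧸ L') := Finite.of_surjective e hs
  have h1 := Nat.card_le_card_of_surjective e hs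
  have h2 := Nat.card_le_card_of_injective _ hi
  simp only [Nat.card_prod, Nat.card_eq_fintype_card (α := Bool), Fintype.card_bool] at h1 h2
  omega

/-- The criterion inside a metacyclic subgroup. -/
theorem meta_false [Finite G] {U T L : Subgroup G} (hU : IsMetacyclic ↥U) (hT : T ≤ U)
    (hL : L ≤ T) (hsq : ∀ g ∈ T, g * g ∈ L) (f : Bool × Bool × Bool → G) (hf : ∀ x, f x ∈ T)
    (hinj : ∀ x y, (f x)⁻¹ * f y ∈ L → x = y) : False := by
  obtain ⟨a, b, hab⟩ := CfsgLib.FTCons.exists_two_generators hU hT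
  refine rank_false a.2 b.2 (fun g hg => ?_) hL hsq f hf hinj
  obtain ⟨i, j, e⟩ := hab ⟨g, hg⟩
  have e' : g = (a : G) ^ i * (b : G) ^ j := congrArg Subtype.val e
  rw [e']
  exact mul_mem (zpow_mem (subset_closure (by simp)) i) (zpow_mem (subset_closure (by simp)) j)

/-- Two independent commuting elements of order `2 ^ k`. -/
structure Frame (a b : G) (k : ℕ) : Prop where
  two_le : 2 ≤ k
  order_a : orderOf a = 2 ^ k
  order_b : orderOf b = 2 ^ k
  comm : Commute a b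
  disj : zpowers a ⊓ zpowers b = ⊥

/-- The element with given coordinates. -/
def q (a b : G) (i j : ℤ) : G := a ^ i * b ^ j

theorem q_zero (a b : G) : q a b 0 0 = 1 := by simp [q]

theorem q_left (a b : G) (i : ℤ) : q a b i 0 = a ^ i := by simp [q]

theorem q_right (a b : G) (i : ℤ) : q a b 0 i = b ^ i := by simp [q]

namespace Frame

variable {a b : G} {k : ℕ} (F : Frame a b k)
include F

theorem q_mul (i j i' j' : ℤ) : q a b i j * q a b i' j' = q a b (i + i') (j + j') := by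
  have h := (F.comm.symm.zpow_zpow j i').eq
  simp only [q, zpow_add]
  rw [mul_assoc, ← mul_assoc (b ^ j), h]
  group

theorem q_inv (i j : ℤ) : (q a b i j)⁻¹ = q a b (-i) (-j) :=
  inv_eq_of_mul_eq_one_right (by rw [F.q_mul, add_neg_cancel, add_neg_cancel, q_zero])

theorem q_eq_one {i j : ℤ} : q a b i j = 1 ↔ (2 ^ k : ℤ) ∣ i ∧ (2 ^ k : ℤ) ∣ j := by
  constructor
  · intro h
    have e : a ^ i = b ^ (-j) := by rw [zpow_neg]; exact eq_inv_of_mul_eq_one_left h
    have h1 : a ^ i = 1 := by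
      rw [← mem_bot, ← F.disj]
      exact ⟨zpow_mem (mem_zpowers a) i, e ▸ zpow_mem (mem_zpowers b) (-j)⟩
    have h2 : b ^ j = 1 := by rwa [q, h1, one_mul] at h
    rw [← orderOf_dvd_iff_zpow_eq_one, F.order_a] at h1
    rw [← orderOf_dvd_iff_zpow_eq_one, F.order_b] at h2
    exact ⟨by exact_mod_cast h1, by exact_mod_cast h2⟩
  · rintro ⟨h1, h2⟩
    have e1 : a ^ i = 1 := orderOf_dvd_iff_zpow_eq_one.1 (by rw [F.order_a]; exact_mod_cast h1)
    have e2 : b ^ j = 1 := orderOf_dvd_iff_zpow_eq_one.1 (by rw [F.order_b]; exact_mod_cast h2)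
    rw [q, e1, e2, one_mul]

theorem q_eq {i j i' j' : ℤ} :
    q a b i j = q a b i' j' ↔ (2 ^ k : ℤ) ∣ i' - i ∧ (2 ^ k : ℤ) ∣ j' - j := by
  rw [← inv_mul_eq_one (a := q a b i j), F.q_inv, F.q_mul, neg_add_eq_sub, neg_add_eq_sub,
    F.q_eq_one]

theorem four_dvd : (4 : ℤ) ∣ 2 ^ k := by
  have h := pow_dvd_pow (2 : ℤ) F.two_le
  norm_num at h
  exact h

theorem two_dvd : (2 : ℤ) ∣ 2 ^ k := dvd_trans (by norm_num) F.four_dvd

theorem q_eq_mod {i j i' j' : ℤ} (h : q a b i j = q a b i' j') :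
    (4 : ℤ) ∣ i' - i ∧ (4 : ℤ) ∣ j' - j :=
  ⟨dvd_trans F.four_dvd (F.q_eq.1 h).1, dvd_trans F.four_dvd (F.q_eq.1 h).2⟩

/-- The subgroup `⟨a, b⟩`. -/
def sub : Subgroup G where
  carrier := {g | ∃ i j, g = q a b i j}
  one_mem' := ⟨0, 0, (q_zero a b).symm⟩
  mul_mem' := by
    rintro _ _ ⟨i, j, rfl⟩ ⟨i', j', rfl⟩
    exact ⟨_, _, F.q_mul _ _ _ _⟩
  inv_mem' := by
    rintro _ ⟨i, j, rfl⟩
    exact ⟨_, _, F.q_inv _ _⟩

/-- The elements of even weight. -/
def sub₁ : Subgroup G where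
  carrier := {g | ∃ i j : ℤ, 2 ∣ i + j ∧ g = q a b i j}
  one_mem' := ⟨0, 0, by norm_num, (q_zero a b).symm⟩
  mul_mem' := by
    rintro _ _ ⟨i, j, h, rfl⟩ ⟨i', j', h', rfl⟩
    exact ⟨_, _, by omega, F.q_mul _ _ _ _⟩
  inv_mem' := by
    rintro _ ⟨i, j, h, rfl⟩
    exact ⟨_, _, by omega, F.q_inv _ _⟩

/-- The even elements of weight divisible by four. -/
def sub₂ : Subgroup G where
  carrier := {g | ∃ i j : ℤ, 2 ∣ i ∧ 4 ∣ i + j ∧ g = q a b i j}
  one_mem' := ⟨0, 0, by norm_num, by norm_num, (q_zero a b).symm⟩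
  mul_mem' := by
    rintro _ _ ⟨i, j, h, h4, rfl⟩ ⟨i', j', h', h4', rfl⟩
    exact ⟨_, _, by omega, by omega, F.q_mul _ _ _ _⟩
  inv_mem' := by
    rintro _ ⟨i, j, h, h4, rfl⟩
    exact ⟨_, _, by omega, by omega, F.q_inv _ _⟩

theorem sub_eq : zpowers a ⊔ zpowers b = F.sub := by
  refine le_antisymm (sup_le (zpowers_le.2 ⟨1, 0, by simp [q]⟩) (zpowers_le.2 ⟨0, 1, by simp [q]⟩))
    ?_
  rintro _ ⟨i, j, rfl⟩
  exact mul_mem (zpow_mem (mem_sup_left (mem_zpowers a)) i)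
    (zpow_mem (mem_sup_right (mem_zpowers b)) j)

theorem mem_sub₁ {i j : ℤ} : q a b i j ∈ F.sub₁ ↔ 2 ∣ i + j := by
  refine ⟨?_, fun h => ⟨i, j, h, rfl⟩⟩
  rintro ⟨i', j', h, e⟩
  have := F.q_eq_mod e
  omega

theorem mem_sub₂ {i j : ℤ} : q a b i j ∈ F.sub₂ ↔ 2 ∣ i ∧ 4 ∣ i + j := by
  refine ⟨?_, fun h => ⟨i, j, h.1, h.2, rfl⟩⟩
  rintro ⟨i', j', h, h4, e⟩
  have := F.q_eq_mod e
  omega

omit F in
theorem conj_q {t : G} {v w : ℤ} (ha : t * a * t⁻¹ = b ^ v) (hb : t * b * t⁻¹ = a ^ w)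
    (hc : Commute a b) (i j : ℤ) : t * q a b i j * t⁻¹ = q a b (w * j) (v * i) := by
  have e : t * q a b i j * t⁻¹ = (t * a * t⁻¹) ^ i * (t * b * t⁻¹) ^ j := by
    rw [conj_zpow, conj_zpow, q]; group
  rw [e, ha, hb, ← zpow_mul, ← zpow_mul]
  exact ((hc.zpow_zpow _ _).eq).symm

omit F in
theorem conj_diag {c : G} {x : ℤ} (ha : c * a * c⁻¹ = a ^ x) (hb : c * b * c⁻¹ = b ^ x)
    (i j : ℤ) : c * q a b i j * c⁻¹ = q a b (x * i) (x * j) := by
  have e : c * q a b i j * c⁻¹ = (c * a * c⁻¹) ^ i * (c * b * c⁻¹) ^ j := by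
    rw [conj_zpow, conj_zpow, q]; group
  rw [e, ha, hb, ← zpow_mul, ← zpow_mul, q]

theorem sq_mul {t : G} {v i₀ j₀ : ℤ} (ha : t * a * t⁻¹ = b ^ v) (hb : t * b * t⁻¹ = a ^ v)
    (ht : t * t = q a b i₀ j₀) (i j : ℤ) :
    q a b i j * t * (q a b i j * t) = q a b (i + v * j + i₀) (j + v * i + j₀) := by
  rw [← F.q_mul, ← F.q_mul, ← conj_q ha hb F.comm i j, ← ht]
  group

/-- A metacyclic subgroup cannot hold an elementary abelian subgroup of order eight. -/
theorem elem_false [Finite G] {U : Subgroup G} (hU : IsMetacyclic ↥U) {t : G} (ht : t * t = 1)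
    (htQ : t ∉ F.sub) (htU : t ∈ U)
    (hA : ∀ i j, (2 ^ (k - 1) : ℤ) ∣ i → (2 ^ (k - 1) : ℤ) ∣ j →
      q a b i j ∈ U ∧ Commute t (q a b i j)) : False := by
  have hk : (2 ^ k : ℤ) = 2 * 2 ^ (k - 1) := by
    rw [← pow_succ']
    congr 1
    have := F.two_le
    omega
  let H : Subgroup G :=
    { carrier := {g | ∃ i j : ℤ, (2 ^ (k - 1) : ℤ) ∣ i ∧ (2 ^ (k - 1) : ℤ) ∣ j ∧ g = q a b i j}
      one_mem' := ⟨0, 0, dvd_zero _, dvd_zero _, (q_zero a b).symm⟩
      mul_mem' := by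
        rintro _ _ ⟨i, j, h, h', rfl⟩ ⟨i', j', g, g', rfl⟩
        exact ⟨_, _, dvd_add h g, dvd_add h' g', F.q_mul _ _ _ _⟩
      inv_mem' := by
        rintro _ ⟨i, j, h, h', rfl⟩
        exact ⟨_, _, h.neg_right, h'.neg_right, F.q_inv _ _⟩ }
  have hn : t ∈ normalizer (H : Set G) := by
    rw [mem_normalizer_iff]
    intro h
    constructor
    · rintro ⟨i, j, hi, hj, rfl⟩
      rw [(hA i j hi hj).2.eq, mul_inv_cancel_right]
      exact ⟨i, j, hi, hj, rfl⟩
    · rintro ⟨i, j, hi, hj, e⟩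
      refine ⟨i, j, hi, hj, ?_⟩
      have e' : h = t⁻¹ * q a b i j * t := by rw [← e]; group
      rw [e', mul_assoc, ← (hA i j hi hj).2.eq, inv_mul_cancel_left]
  have htH : t * t ∈ H := ht ▸ H.one_mem
  have hHU : H ≤ U := by
    rintro _ ⟨i, j, hi, hj, rfl⟩
    exact (hA i j hi hj).1
  have h1 : ∀ g ∈ H, g * g = 1 := by
    rintro _ ⟨i, j, ⟨i', rfl⟩, ⟨j', rfl⟩, rfl⟩
    rw [F.q_mul]
    exact F.q_eq_one.2 ⟨⟨i', by rw [hk]; ring⟩, ⟨j', by rw [hk]; ring⟩⟩
  have hHs : H ≤ F.sub := by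
    rintro _ ⟨i, j, -, -, rfl⟩
    exact ⟨i, j, rfl⟩
  refine meta_false hU (T := H ⊔ zpowers t) (L := ⊥) (sup_le hHU (zpowers_le.2 htU)) bot_le ?_
    (fun x => (if x.1 then t else 1) *
      q a b (if x.2.1 then 2 ^ (k - 1) else 0) (if x.2.2 then 2 ^ (k - 1) else 0)) ?_ ?_
  · intro g hg
    rw [mem_bot]
    rcases (mem_sup_zpowers hn htH).1 hg with h | h
    · exact h1 g h
    · obtain ⟨i, j, hi, hj, e⟩ := h
      rw [mul_inv_eq_iff_eq_mul] at e
      rw [e, mul_assoc, ← mul_assoc t, (hA i j hi hj).2.eq, mul_assoc, ← mul_assoc, ht, mul_one]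
      exact h1 _ ⟨i, j, hi, hj, rfl⟩
  · intro x
    refine mul_mem ?_ (mem_sup_left ⟨_, _, ?_, ?_, rfl⟩)
    · split_ifs
      · exact mem_sup_right (mem_zpowers t)
      · exact one_mem _
    · split_ifs <;> simp
    · split_ifs <;> simp
  · rintro ⟨x, y, z⟩ ⟨x', y', z'⟩ h
    rw [mem_bot, inv_mul_eq_one] at h
    have hx : x = x' := by
      cases x <;> cases x' <;> simp only [Bool.false_eq_true, if_false, if_true, one_mul] at h ⊢
      · exfalso; refine htQ ?_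
        rw [eq_mul_inv_iff_mul_eq.2 h.symm]
        exact mul_mem ⟨_, _, rfl⟩ (inv_mem ⟨_, _, rfl⟩)
      · exfalso; refine htQ ?_
        rw [eq_mul_inv_iff_mul_eq.2 h]
        exact mul_mem ⟨_, _, rfl⟩ (inv_mem ⟨_, _, rfl⟩)
    subst hx
    obtain ⟨hy, hz⟩ := F.q_eq.1 (mul_left_cancel h)
    have hne : ¬ (2 ^ k : ℤ) ∣ 2 ^ (k - 1) := fun h => by
      have := Int.le_of_dvd (by positivity) h
      have : (0 : ℤ) < 2 ^ (k - 1) := by positivity
      omega
    cases y <;> cases y' <;> cases z <;> cases z' <;> simp_all [Int.dvd_neg]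

/-- A metacyclic subgroup cannot hold the wreath configuration. -/
theorem wreath_false [Finite G] {U : Subgroup G} (hU : IsMetacyclic ↥U) {t : G} {v i₀ j₀ : ℤ}
    (hv : ¬ 2 ∣ v) (ha : t * a * t⁻¹ = b ^ v) (hb : t * b * t⁻¹ = a ^ v)
    (ht : t * t = q a b i₀ j₀) (h₀ : 2 ∣ i₀ ∧ 4 ∣ i₀ + j₀) (htQ : t ∉ F.sub) (htU : t ∈ U)
    (hS : F.sub₁ ≤ U) : False := by
  have hn : t ∈ normalizer (F.sub₁ : Set G) := by
    have h1 : ∀ g ∈ F.sub₁, t * g * t⁻¹ ∈ F.sub₁ := by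
      rintro _ ⟨i, j, h, rfl⟩
      rw [conj_q ha hb F.comm]
      refine F.mem_sub₁.2 ?_
      rw [← mul_add, add_comm]
      exact dvd_mul_of_dvd_right h v
    exact mem_normalizer_fintype h1
  have htH : t * t ∈ F.sub₁ := ht ▸ F.mem_sub₁.2 (by omega)
  have hsub : ∀ {g}, g ∈ F.sub₁ → g ∈ F.sub := fun ⟨i, j, _, e⟩ => ⟨i, j, e⟩
  refine meta_false hU (T := F.sub₁ ⊔ zpowers t) (L := F.sub₂) (sup_le hS (zpowers_le.2 htU))
    ?_ ?_ (fun x => (if x.1 then t else 1) *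
      q a b ((if x.2.1 then 1 else 0) + if x.2.2 then 2 else 0) (if x.2.1 then 1 else 0)) ?_ ?_
  · rintro _ ⟨i, j, hi, h4, rfl⟩
    exact mem_sup_left (F.mem_sub₁.2 (by omega))
  · intro g hg
    rcases (mem_sup_zpowers hn htH).1 hg with h | h
    · obtain ⟨i, j, hij, rfl⟩ := h
      rw [F.q_mul]
      exact F.mem_sub₂.2 (by omega)
    · obtain ⟨i, j, hij, e⟩ := h
      rw [mul_inv_eq_iff_eq_mul] at e
      rw [e, F.sq_mul ha hb ht]
      obtain ⟨w, rfl⟩ : ∃ w, v = 2 * w + 1 := ⟨v / 2, by omega⟩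
      refine F.mem_sub₂.2 ⟨?_, ?_⟩
      · have : i + (2 * w + 1) * j + i₀ = (i + j + i₀) + 2 * (w * j) := by ring
        omega
      · obtain ⟨m, hm⟩ := hij
        have : i + (2 * w + 1) * j + i₀ + (j + (2 * w + 1) * i + j₀) =
            4 * (m * w) + 4 * m + (i₀ + j₀) := by linear_combination (2 * w + 2) * hm
        omega
  · intro x
    refine mul_mem ?_ (mem_sup_left (F.mem_sub₁.2 ?_))
    · split_ifs
      · exact mem_sup_right (mem_zpowers t)
      · exact one_mem _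
    · split_ifs <;> norm_num
  · rintro ⟨x, y, z⟩ ⟨x', y', z'⟩ h
    have hs : ∀ {g}, g ∈ F.sub₂ → g ∈ F.sub := fun ⟨i, j, _, _, e⟩ => ⟨i, j, e⟩
    have key : ∀ {i j i' j' : ℤ}, (q a b i j)⁻¹ * (t * q a b i' j') ∈ F.sub₂ → False := by
      intro i j i' j' h
      refine htQ ?_
      have e : t = q a b i j * ((q a b i j)⁻¹ * (t * q a b i' j')) * (q a b i' j')⁻¹ := by group
      rw [e]
      exact mul_mem (mul_mem ⟨i, j, rfl⟩ (hs h)) (inv_mem ⟨i', j', rfl⟩)
    have hx : x = x' := by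
      cases x <;> cases x' <;> simp only [Bool.false_eq_true, if_false, if_true, one_mul] at h ⊢
      · exact (key h).elim
      · have h2 := inv_mem h
        rw [mul_inv_rev, inv_inv] at h2
        exact (key h2).elim
    subst hx
    rw [mul_inv_rev, mul_assoc, inv_mul_cancel_left, F.q_inv, F.q_mul] at h
    have := F.mem_sub₂.1 h
    cases y <;> cases y' <;> cases z <;> cases z' <;> simp_all

end Frame

end CfsgLib.Bicyclic.EssHomo
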