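import Mathlib
import Cfsg.Agent.Lib.Bicyclic.Defs
import Cfsg.Agent.Lib.Fusion.SatMain

/-!
# The fusion system generated by the inner maps and an automorphism of order three

`P` has index two in its normalizer `P⟨τ⟩`, `α` is an automorphism of order three of `P` inverted
by `τ` modulo inner automorphisms. The system generated by `α` and the inner maps is saturated as
soon as an automorphism of odd order of a centric proper subgroup of `P` that fixes the central
elements fixed by `α` is trivial.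
-/

set_option autoImplicit false
set_option linter.style.haveILetI false
set_option linter.unusedSectionVars false

namespace CfsgLib.Bicyclic

open Cfsg Cfsg.FusionSystem CfsgLib.Fusion

universe u

variable {Ω : Type u} [Group Ω]

/-- The datum. -/
structure Twist (S P : Subgroup Ω) (τ : Ω) (α : MulAut P) : Prop where
  le : P ≤ S
  tau_mem : τ ∈ S
  tau_not : τ ∉ P
  tau_norm : τ ∈ Subgroup.normalizer (P : Set Ω)
  cent : centralizerIn S P ≤ P
  norm : ∀ g ∈ S, g ∈ Subgroup.normalizer (P : Set Ω) → g ∈ P ∨ τ⁻¹ * g ∈ P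
  cube : α ^ 3 = 1
  ne : α ≠ 1
  rel : ∃ v ∈ P, ∀ x ∈ P, cj τ (autFun α x) = cj v (autFun (α ^ 2) (cj τ x))

/-- The condition on the centric subgroups of `P`. -/
def FixCond (S P : Subgroup Ω) (α : MulAut P) : Prop :=
  ∀ X : Subgroup Ω, X < P → centralizerIn S X ≤ X → ∀ φ : MulAut X, Odd (orderOf φ) →
    (∀ x ∈ X, (∀ s ∈ S, s * x = x * s) → autFun α x = x → autFun φ x = x) → φ = 1

namespace Twist

variable {S P : Subgroup Ω} {τ : Ω} {α : MulAut P}

/-- The automorphism group of `P` in the system. -/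
def aut (S : Subgroup Ω) {P : Subgroup Ω} (α : MulAut P) : Subgroup (MulAut P) :=
  autInducedBy S P ⊔ Subgroup.zpowers α

/-- The generated maps. -/
inductive TGen (S : Subgroup Ω) {P : Subgroup Ω} (α : MulAut P) : Subgroup Ω → (Ω → Ω) → Prop
  | base {X : Subgroup Ω} {g : Ω} {f : Ω → Ω} : X ≤ S → g ∈ S → (∀ x ∈ X, f x = cj g x) → TGen S α X f
  | step {X : Subgroup Ω} {a : MulAut P} {f : Ω → Ω} : X ≤ P → a ∈ aut S α →
      (∀ x ∈ X, f x = autFun a x) → TGen S α X f
  | comp {X : Subgroup Ω} {g h f : Ω → Ω} : TGen S α X g → TGen S α (img X g) h →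
      (∀ x ∈ X, f x = h (g x)) → TGen S α X f

theorem TGen.restrict {X : Subgroup Ω} {f : Ω → Ω} (h : TGen S α X f) :
    ∀ X' ≤ X, TGen S α X' f := by
  induction h with
  | base hX hg e => exact fun X' h' => .base (h'.trans hX) hg fun x hx => e x (h' hx)
  | step hX ha e => exact fun X' h' => .step (h'.trans hX) ha fun x hx => e x (h' hx)
  | comp _ _ e ih₁ ih₂ =>
    exact fun X' h' => .comp (ih₁ X' h') (ih₂ _ (img_mono _ h')) fun x hx => e x (h' hx)

theorem TGen.congr {X : Subgroup Ω} {f f' : Ω → Ω} (h : TGen S α X f) (e : ∀ x ∈ X, f x = f' x) :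
    TGen S α X f' := by
  cases h with
  | base hX hg e' => exact .base hX hg fun x hx => (e x hx).symm.trans (e' x hx)
  | step hX ha e' => exact .step hX ha fun x hx => (e x hx).symm.trans (e' x hx)
  | comp h₁ h₂ e' => exact .comp h₁ h₂ fun x hx => (e x hx).symm.trans (e' x hx)

/-- The basic properties of a generated map. -/
theorem TGen.facts (hP : P ≤ S) {X : Subgroup Ω} {f : Ω → Ω} (h : TGen S α X f) :
    X ≤ S ∧ (∀ x ∈ X, f x ∈ S) ∧ (∀ x ∈ X, ∀ y ∈ X, f (x * y) = f x * f y) ∧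
      ∀ x ∈ X, ∀ y ∈ X, f x = f y → x = y := by
  induction h with
  | @base X g f hX hg e =>
    refine ⟨hX, fun x hx => e x hx ▸ S.mul_mem (S.mul_mem hg (hX hx)) (S.inv_mem hg),
      fun x hx y hy => by rw [e x hx, e y hy, e _ (X.mul_mem hx hy), cj_map_mul],
      fun x hx y hy he => ?_⟩
    rw [e x hx, e y hy] at he
    have := congrArg (cj g⁻¹) he
    rwa [cj_inv_cj, cj_inv_cj] at this
  | @step X a f hX ha e =>
    refine ⟨hX.trans hP, fun x hx => e x hx ▸ hP (autFun_mem a (hX hx)),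
      fun x hx y hy => by rw [e x hx, e y hy, e _ (X.mul_mem hx hy), autFun_map_mul a (hX hx) (hX hy)],
      fun x hx y hy he => ?_⟩
    rw [e x hx, e y hy] at he
    have := congrArg (autFun a⁻¹) he
    rwa [autFun_inv_left a (hX hx), autFun_inv_left a (hX hy)] at this
  | @comp X g h f _ _ e ih₁ ih₂ =>
    obtain ⟨hX, -, hm, hi⟩ := ih₁
    obtain ⟨-, hS', hm', hi'⟩ := ih₂
    have hg : ∀ x ∈ X, g x ∈ img X g := fun x hx => mem_img_of_mem g hx
    refine ⟨hX, fun x hx => e x hx ▸ hS' _ (hg x hx),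
      fun x hx y hy => by
        rw [e x hx, e y hy, e _ (X.mul_mem hx hy), hm x hx y hy, hm' _ (hg x hx) _ (hg y hy)],
      fun x hx y hy he => ?_⟩
    rw [e x hx, e y hy] at he
    exact hi x hx y hy (hi' _ (hg x hx) _ (hg y hy) he)

/-- The image of a multiplicative map consists of the values. -/
theorem mem_img_of_hom {X : Subgroup Ω} {f : Ω → Ω}
    (hm : ∀ x ∈ X, ∀ y ∈ X, f (x * y) = f x * f y) {y : Ω} (hy : y ∈ img X f) :
    ∃ x ∈ X, f x = y := by
  let φ : X →* Ω := MonoidHom.mk' (fun x => f x) fun a b => hm a a.2 b b.2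
  have h : φ.range = img X f := range_eq_img fun _ => rfl
  rw [← h] at hy
  obtain ⟨x, rfl⟩ := hy
  exact ⟨x, x.2, rfl⟩

theorem TGen.inverse (hP : P ≤ S) {X : Subgroup Ω} {f : Ω → Ω} (h : TGen S α X f) :
    ∃ k, TGen S α (img X f) k ∧ ∀ x ∈ X, k (f x) = x := by
  induction h with
  | @base X g f hX hg e =>
    refine ⟨cj g⁻¹, .base (img_le fun x hx => ?_) (S.inv_mem hg) fun _ _ => rfl,
      fun x hx => by rw [e x hx, cj_inv_cj]⟩
    rw [e x hx]
    exact S.mul_mem (S.mul_mem hg (hX hx)) (S.inv_mem hg)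
  | @step X a f hX ha e =>
    refine ⟨autFun a⁻¹, .step (img_le fun x hx => ?_) ((aut S α).inv_mem ha) fun _ _ => rfl,
      fun x hx => by rw [e x hx, autFun_inv_left a (hX hx)]⟩
    rw [e x hx]
    exact autFun_mem a (hX hx)
  | @comp X g h f h₁ h₂ e ih₁ ih₂ =>
    obtain ⟨k₁, hk₁, e₁⟩ := ih₁
    obtain ⟨k₂, hk₂, e₂⟩ := ih₂
    have hg : ∀ x ∈ X, g x ∈ img X g := fun x hx => mem_img_of_mem g hx
    have hf : img X f ≤ img (img X g) h := img_le fun x hx => by
      rw [e x hx]; exact mem_img_of_mem h (hg x hx)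
    have hk : img (img X f) k₂ ≤ img X g := img_le fun y hy => by
      obtain ⟨x, hx, rfl⟩ := mem_img_of_hom (TGen.facts hP (TGen.comp h₁ h₂ e)).2.2.1 hy
      rw [e x hx, e₂ _ (hg x hx)]
      exact hg x hx
    exact ⟨k₁ ∘ k₂, .comp (hk₂.restrict _ hf) (hk₁.restrict _ hk) fun _ _ => rfl,
      fun x hx => by rw [Function.comp_apply, e x hx, e₂ _ (hg x hx), e₁ x hx]⟩

theorem exists_system (hP : P ≤ S) :
    ∃ F : FusionSystem S, ∀ X f, IsMor F X f ↔ TGen S α X f := by
  refine ⟨ofPred S (TGen S α) (fun X f h => ⟨(h.facts hP).1, (h.facts hP).2.1⟩)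
    (fun X f h => (h.facts hP).2.2.2) (fun X f g h e => h.congr e)
    (fun X g hX hg => .base hX hg fun _ _ => rfl) ?_ ?_, fun X f => isMor_ofPred fun h => (h.facts hP).2.2.1⟩
  · exact fun X Q f g hf hg hfQ => .comp hf (hg.restrict _ (img_le hfQ)) fun _ _ => rfl
  · exact fun X f h _ => h.inverse hP

variable (D : Twist S P τ α)
include D

/-- Conjugation by `τ` inverts `α` modulo inner automorphisms. -/
theorem exists_flip {cτ : MulAut P} (hc : ∀ x ∈ P, autFun cτ x = cj τ x) (k : ℕ) :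
    ∃ w ∈ Inn P, cτ * α ^ k = w * α ^ (2 * k) * cτ := by
  obtain ⟨v, hv, hvx⟩ := D.rel
  obtain ⟨cv, hcv, hcve⟩ := exists_autInducedBy (K := P) hv (Subgroup.le_normalizer hv)
  rw [← inn_eq_autInducedBy] at hcv
  have h1 : cτ * α = cv * α ^ 2 * cτ := autFun_inj fun x hx => by
    rw [autFun_mul _ _ hx, hc _ (autFun_mem α hx), hvx x hx, autFun_mul _ _ hx,
      autFun_mul _ _ (autFun_mem cτ hx), hc x hx,
      hcve _ (autFun_mem _ (show cj τ x ∈ P from (Subgroup.mem_normalizer_iff.mp D.tau_norm x).mp hx))]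
  induction k with
  | zero => exact ⟨1, one_mem _, by simp⟩
  | succ k ih =>
    obtain ⟨w, hw, e⟩ := ih
    refine ⟨w * (α ^ (2 * k) * cv * (α ^ (2 * k))⁻¹), mul_mem hw (inn_conj_mem hcv), ?_⟩
    rw [pow_succ α k, ← mul_assoc, e, mul_assoc _ cτ, h1, show 2 * (k + 1) = 2 * k + 2 by ring, pow_add]
    group

theorem aut_norm {g : Ω} (hg : g ∈ S) (hn : g ∈ Subgroup.normalizer (P : Set Ω)) {cτ : MulAut P}
    (hc : ∀ x ∈ P, autFun cτ x = cj τ x) {t : MulAut P} (ht : ∀ x ∈ P, autFun t x = cj g x) :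
    t ∈ Inn P ∨ ∃ u ∈ Inn P, t = cτ * u := by
  rcases D.norm g hg hn with h | h
  · exact Or.inl (mem_inn.mpr ⟨g, h, ht⟩)
  · obtain ⟨u, hu, hue⟩ := exists_autInducedBy (K := P) h (Subgroup.le_normalizer h)
    rw [← inn_eq_autInducedBy] at hu
    refine Or.inr ⟨u, hu, autFun_inj fun x hx => ?_⟩
    rw [autFun_mul _ _ hx, hc _ (autFun_mem u hx), hue x hx, ← cj_mul, mul_inv_cancel_left, ht x hx]

theorem exists_tau : ∃ cτ ∈ autInducedBy S P, ∀ x ∈ P, autFun cτ x = cj τ x :=
  exists_autInducedBy D.tau_mem D.tau_norm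

/-- An element of `Aut_S(P)` moves past a power of `α`. -/
theorem swap {t : MulAut P} (ht : t ∈ autInducedBy S P) (k : ℕ) :
    ∃ (e : ℕ) (t' : MulAut P), t' ∈ autInducedBy S P ∧ t * α ^ k = α ^ e * t' := by
  obtain ⟨g, hg, hn, hge⟩ := mem_autInducedBy.mp ht
  obtain ⟨cτ, hcτ, hc⟩ := D.exists_tau
  have hle := inn_le_autInducedBy (S := S) D.le
  rcases D.aut_norm hg hn hc hge with h | ⟨u, hu, rfl⟩
  · refine ⟨k, (α ^ k)⁻¹ * t * α ^ k, ?_, by group⟩
    have h1 := inn_conj_mem (a := (α ^ k)⁻¹) h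
    rw [inv_inv] at h1
    exact hle h1
  · obtain ⟨w, hw, e⟩ := D.exists_flip hc k
    have h1 := inn_conj_mem (a := (α ^ k)⁻¹) hu
    have h2 := inn_conj_mem (a := (α ^ (2 * k))⁻¹) hw
    rw [inv_inv] at h1 h2
    refine ⟨2 * k, ((α ^ (2 * k))⁻¹ * w * α ^ (2 * k)) * cτ * ((α ^ k)⁻¹ * u * α ^ k),
      mul_mem (mul_mem (hle h2) hcτ) (hle h1), ?_⟩
    calc cτ * u * α ^ k = (cτ * α ^ k) * ((α ^ k)⁻¹ * u * α ^ k) := by group
      _ = _ := by rw [e]; group

theorem exists_form {a : MulAut P} (ha : a ∈ aut S α) :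
    ∃ k : ℕ, ∃ t ∈ autInducedBy S P, a = α ^ k * t := by
  rw [aut, Subgroup.sup_eq_closure] at ha
  induction ha using Subgroup.closure_induction with
  | mem y hy =>
    rcases hy with hy | hy
    · exact ⟨0, y, hy, by simp⟩
    · obtain ⟨n, rfl⟩ := Subgroup.mem_zpowers_iff.mp hy
      refine ⟨(n % 3).toNat, 1, one_mem _, ?_⟩
      rw [mul_one, ← zpow_natCast, Int.toNat_of_nonneg (Int.emod_nonneg _ (by norm_num))]
      exact zpow_eq_zpow_emod' n D.cube
  | one => exact ⟨0, 1, one_mem _, by simp⟩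
  | mul x y _ _ hx hy =>
    obtain ⟨k, t, ht, rfl⟩ := hx
    obtain ⟨l, u, hu, rfl⟩ := hy
    obtain ⟨e, t', ht', het⟩ := D.swap ht l
    refine ⟨k + e, t' * u, mul_mem ht' hu, ?_⟩
    rw [pow_add, mul_assoc, ← mul_assoc t, het]
    group
  | inv x _ hx =>
    obtain ⟨k, t, ht, rfl⟩ := hx
    obtain ⟨e, t', ht', het⟩ := D.swap (inv_mem ht) (2 * k)
    refine ⟨e, t', ht', ?_⟩
    rw [← het, mul_inv_rev]
    congr 1
    refine inv_eq_of_mul_eq_one_right ?_
    rw [← pow_add, show k + 2 * k = 3 * k by ring, pow_mul, D.cube, one_pow]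

theorem not_pGroup (hS : IsPGroup 2 S) {k : ℕ} (h : α ^ k ∈ autInducedBy S P) : α ^ k = 1 := by
  obtain ⟨j, hj⟩ := isPGroup_autInducedBy (S := S) (P := P) hS ⟨_, h⟩
  have h1 : (α ^ k) ^ 2 ^ j = 1 := congrArg Subtype.val hj
  have h3 : (α ^ k) ^ 3 = 1 := by rw [← pow_mul, mul_comm, pow_mul, D.cube, one_pow]
  rw [← orderOf_eq_one_iff]
  exact Nat.eq_one_of_dvd_coprimes ((show Nat.Coprime 3 2 by norm_num).pow_right j)
    (orderOf_dvd_of_pow_eq_one h3) (orderOf_dvd_of_pow_eq_one h1)

/-- An automorphism outside `Aut_S(P)` normalizes no outer element of `Aut_S(P)` into it. -/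
theorem mem_of_conj (hS : IsPGroup 2 S) {a : MulAut P} (ha : a ∈ aut S α)
    (hna : a ∉ autInducedBy S P) {g : Ω} (hg : g ∈ S) (hn : g ∈ Subgroup.normalizer (P : Set Ω))
    {c : MulAut P} (hc : ∀ x ∈ P, autFun c x = cj g x) (hac : a * c * a⁻¹ ∈ autInducedBy S P) :
    g ∈ P := by
  obtain ⟨k, t, ht, rfl⟩ := D.exists_form ha
  obtain ⟨cτ, hcτ, hcτe⟩ := D.exists_tau
  have hle := inn_le_autInducedBy (S := S) D.le
  have hcT : c ∈ autInducedBy S P := mem_autInducedBy.mpr ⟨g, hg, hn, hc⟩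
  rcases D.aut_norm hg hn hcτe hc with h | ⟨u, hu, rfl⟩
  · exact mem_of_cj_inn D.le D.cent hg h hc
  exfalso
  -- the conjugate of the outer part is again outer
  set c' := t * (cτ * u) * t⁻¹ with hc'
  have hc'T : c' ∈ autInducedBy S P := mul_mem (mul_mem ht hcT) (inv_mem ht)
  obtain ⟨g', hg', hn', hge'⟩ := mem_autInducedBy.mp hc'T
  have hconj : α ^ k * c' * (α ^ k)⁻¹ ∈ autInducedBy S P := by
    rw [hc']
    convert hac using 1
    group
  rcases D.aut_norm hg' hn' hcτe hge' with h | ⟨u', hu', he'⟩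
  · have h1 := inn_conj_mem (a := t⁻¹) h
    rw [inv_inv, hc', show t⁻¹ * (t * (cτ * u) * t⁻¹) * t = cτ * u by group] at h1
    have h2 : cτ ∈ Inn P := by simpa using mul_mem h1 (inv_mem hu)
    exact D.tau_not (mem_of_cj_inn D.le D.cent D.tau_mem h2 hcτe)
  · rw [he'] at hconj
    obtain ⟨w, hw, hfl⟩ := D.exists_flip hcτe (2 * k)
    have hinv : (α ^ k)⁻¹ = α ^ (2 * k) := inv_eq_of_mul_eq_one_right (by
      rw [← pow_add, show k + 2 * k = 3 * k by ring, pow_mul, D.cube, one_pow])
    have h4 : α ^ (2 * (2 * k)) = α ^ k := by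
      rw [show 2 * (2 * k) = 3 * k + k by ring, pow_add, pow_mul, D.cube, one_pow, one_mul]
    have hfl' : cτ * (α ^ k)⁻¹ = w * α ^ k * cτ := by rw [hinv, hfl, h4]
    have h1 := inn_conj_mem (a := α ^ k) hu'
    have key : α ^ k * (cτ * u') * (α ^ k)⁻¹ =
        (α ^ k * w * (α ^ k)⁻¹) * α ^ (2 * k) * cτ * (α ^ k * u' * (α ^ k)⁻¹) := by
      calc α ^ k * (cτ * u') * (α ^ k)⁻¹ = α ^ k * (cτ * (α ^ k)⁻¹) * (α ^ k * u' * (α ^ k)⁻¹) := by group
        _ = _ := by rw [hfl', two_mul, pow_add]; group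
    rw [key, mul_mem_cancel_right (hle h1), mul_mem_cancel_right hcτ,
      mul_mem_cancel_left (hle (inn_conj_mem hw))] at hconj
    have h2 := D.not_pGroup hS hconj
    have h3 : α ^ k = 1 := by rw [← h4, mul_comm, pow_mul, h2, one_pow]
    exact hna (by rw [h3, one_mul]; exact ht)

/-- The normal form of the maps: inner outside the conjugates of `P`, twisted on them, and fixing
the central elements fixed by `α`. -/
theorem TGen.invariant [Finite S] {X : Subgroup Ω} {f : Ω → Ω} (h : TGen S α X f) :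
    ((∀ g ∈ S, ¬ X ≤ img P (cj g)) → ∃ s ∈ S, ∀ x ∈ X, f x = cj s x) ∧
    (∀ g ∈ S, X = img P (cj g) → ∃ s ∈ S, ∃ a ∈ aut S α, ∀ x ∈ X,
      f x = cj s (autFun a (cj g⁻¹ x))) ∧
    (∀ x ∈ X, (∀ s ∈ S, s * x = x * s) → autFun α x = x → f x = x) := by
  induction h with
  | @base X s f hX hs e =>
    refine ⟨fun _ => ⟨s, hs, e⟩, fun g hg hXg => ⟨s * g, S.mul_mem hs hg, 1, one_mem _, fun x hx => ?_⟩,
      fun x hx hc _ => by rw [e x hx, cj, hc s hs, mul_inv_cancel_right]⟩
    have hxP : cj g⁻¹ x ∈ P := by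
      have := mem_img_cj.mp (hXg ▸ hx : x ∈ img P (cj g))
      simpa [cj] using this
    rw [e x hx, autFun_one hxP, cj_mul, cj_cj_inv]
  | @step X a f hX ha e =>
    refine ⟨fun hno => absurd (fun x hx => mem_img_cj.mpr (by simpa using hX hx)) (hno 1 S.one_mem),
      fun g hg hXg => ?_, fun x hx hc hfix => ?_⟩
    · have hgn : g ∈ Subgroup.normalizer (P : Set Ω) := by
        rw [Subgroup.mem_normalizer_iff_map_conj_eq]
        show P.map (MulAut.conj g).toMonoidHom = P
        rw [← img_cj]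
        refine eq_of_le_of_card D.le (hXg ▸ hX) ?_
        rw [(isMor_cj (innerFusionSystem S) D.le hg).card_img]
      obtain ⟨cg, hcg, hcge⟩ := exists_autInducedBy hg hgn
      refine ⟨1, S.one_mem, a * cg, mul_mem ha (Subgroup.mem_sup_left hcg), fun x hx => ?_⟩
      have hxP : cj g⁻¹ x ∈ P := by
        have := mem_img_cj.mp (hXg ▸ hx : x ∈ img P (cj g))
        simpa [cj] using this
      rw [e x hx, cj_one, autFun_mul _ _ hxP, hcge _ hxP, cj_cj_inv]
    · have hpow : ∀ k : ℕ, autFun (α ^ k) x = x := fun k => by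
        induction k with
        | zero => rw [pow_zero, autFun_one (hX hx)]
        | succ k ih => rw [pow_succ, autFun_mul _ _ (hX hx), hfix, ih]
      obtain ⟨k, t, ht, rfl⟩ := D.exists_form ha
      obtain ⟨g, hg, -, hge⟩ := mem_autInducedBy.mp ht
      rw [e x hx, autFun_mul _ _ (hX hx), hge x (hX hx), cj, hc g hg, mul_inv_cancel_right, hpow]
  | @comp X f₁ f₂ f h₁ h₂ e ih₁ ih₂ =>
    refine ⟨fun hno => ?_, fun g hg hXg => ?_, fun x hx hc hfix => ?_⟩
    · obtain ⟨s, hs, hse⟩ := ih₁.1 hno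
      have hno' : ∀ g ∈ S, ¬ img X f₁ ≤ img P (cj g) := fun g hg hle =>
        hno (s⁻¹ * g) (S.mul_mem (S.inv_mem hs) hg) fun x hx => by
          have h3 := hle (mem_img_of_mem f₁ hx)
          rw [hse x hx, mem_img_cj] at h3
          rw [mem_img_cj]
          simpa [cj, mul_assoc] using h3
      obtain ⟨s', hs', hse'⟩ := ih₂.1 hno'
      exact ⟨s' * s, S.mul_mem hs' hs, fun x hx => by
        rw [e x hx, hse' _ (mem_img_of_mem f₁ hx), hse x hx, cj_mul]⟩
    · obtain ⟨s, hs, a, ha, hse⟩ := ih₁.2.1 g hg hXg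
      have hmemP : ∀ x ∈ X, cj g⁻¹ x ∈ P := fun x hx => by
        have := mem_img_cj.mp (hXg ▸ hx : x ∈ img P (cj g))
        simpa [cj] using this
      have himg : img X f₁ = img P (cj s) := by
        refine le_antisymm (img_le fun x hx => ?_) (img_le fun y hy => ?_)
        · rw [hse x hx]
          exact mem_img_of_mem _ (autFun_mem a (hmemP x hx))
        · have hxy : cj g (autFun a⁻¹ y) ∈ X :=
            hXg ▸ mem_img_of_mem _ (autFun_mem _ hy)
          have h4 := mem_img_of_mem f₁ hxy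
          rw [hse _ hxy, cj_inv_cj, autFun_inv_right a hy] at h4
          exact h4
      obtain ⟨s', hs', b, hb, hse'⟩ := ih₂.2.1 s hs himg
      exact ⟨s', hs', b * a, mul_mem hb ha, fun x hx => by
        rw [e x hx, hse' _ (mem_img_of_mem f₁ hx), hse x hx, cj_inv_cj, autFun_mul _ _ (hmemP x hx)]⟩
    · have h1 := ih₁.2.2 x hx hc hfix
      rw [e x hx, h1]
      exact ih₂.2.2 x (h1 ▸ mem_img_of_mem f₁ hx) hc hfix

end Twist

/-- An odd permutation-like step: an automorphism of odd order fixes what its square fixes. -/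
theorem fix_of_sq {X : Type*} [Group X] {φ : MulAut X} (hodd : Odd (orderOf φ)) {x : X}
    (h : φ (φ x) = x) : φ x = x := by
  obtain ⟨k, hk⟩ := hodd
  have h1 : ∀ j : ℕ, (φ ^ (2 * j)) x = x := fun j => by
    induction j with
    | zero => rfl
    | succ j ih => rw [mul_add, pow_add, MulAut.mul_apply, pow_two, MulAut.mul_apply, h, ih]
  have h2 : φ ^ (2 * (k + 1)) = φ := by
    rw [show 2 * (k + 1) = orderOf φ + 1 by omega, pow_succ, pow_orderOf_eq_one, one_mul]
  conv_rhs => rw [← h1 (k + 1), h2]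

/-- If odd order automorphisms are trivial the group of automorphisms is a 2-group. -/
theorem isPGroup_of_odd_trivial {X : Type*} [Group X] [Finite X] {A : Subgroup (MulAut X)}
    (h : ∀ φ ∈ A, Odd (orderOf φ) → φ = 1) : IsPGroup 2 A := by
  rintro ⟨φ, hφ⟩
  haveI : Finite (MulAut X) := MulEquiv.finite_left
  obtain ⟨k, m, hm, hkm⟩ := Nat.exists_eq_two_pow_mul_odd (orderOf_pos φ).ne'
  refine ⟨k, Subtype.ext (h _ (pow_mem hφ _) ?_)⟩
  show Odd (orderOf (φ ^ 2 ^ k))
  rw [orderOf_pow_of_dvd (pow_ne_zero _ two_ne_zero) (hkm ▸ dvd_mul_right _ _), hkm,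
    Nat.mul_div_cancel_left _ (pow_pos two_pos _)]
  exact hm

open Twist in
/-- The system generated by `α` and the inner maps is saturated and not inner. -/
theorem noninner_of_twist {S P : Subgroup Ω} [Finite S] {τ : Ω} {α : MulAut P} (hS : IsPGroup 2 S)
    (D : Twist S P τ α) (hfix : FixCond S P α) : Noninner S := by
  haveI : Fact (Nat.Prime 2) := ⟨Nat.prime_two⟩
  haveI : Finite P := finite_of_le D.le
  have hle := D.le
  obtain ⟨F, hF⟩ := exists_system (α := α) hle
  have hPS : P < S := lt_of_le_of_ne hle fun h => D.tau_not (h ▸ D.tau_mem)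
  have hcard : ∀ g ∈ S, Nat.card (img P (cj g)) = Nat.card P := fun g hg =>
    (isMor_cj F hle hg).card_img
  have hSno : ∀ g ∈ S, ¬ S ≤ img P (cj g) := fun g hg h => by
    haveI := finite_of_le (isMor_cj F hle hg).img_le
    have h2 := Subgroup.card_le_of_le h
    rw [hcard g hg] at h2
    have := card_lt_of_lt le_rfl hPS
    omega
  -- the automorphisms of `P` and of `S`
  have haut : F.autGroup P = aut S α := by
    refine le_antisymm (fun β hβ => ?_) (fun β hβ => ?_)
    · obtain ⟨s, hs, a, ha, he⟩ :=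
        (TGen.invariant D ((hF _ _).mp (isMor_autFun hle hβ))).2.1 1 S.one_mem
          (by rw [img_congr (g := id) fun x _ => cj_one x, img_id])
      have hsn : s ∈ Subgroup.normalizer (P : Set Ω) := by
        refine Subgroup.mem_normalizer_fintype fun y hy => ?_
        have hy' : autFun a⁻¹ y ∈ P := autFun_mem _ hy
        have h1 := he _ hy'
        rw [inv_one, cj_one, autFun_inv_right a hy] at h1
        show cj s y ∈ P
        rw [← h1]
        exact autFun_mem β hy'
      obtain ⟨cs, hcs, hcse⟩ := exists_autInducedBy hs hsn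
      have : β = cs * a := autFun_inj fun x hx => by
        rw [he x hx, inv_one, cj_one, autFun_mul _ _ hx, hcse _ (autFun_mem a hx)]
      exact this ▸ mul_mem (Subgroup.mem_sup_left hcs) ha
    · exact (autGroup_eq_set hle β).mpr ((hF _ _).mpr (.step le_rfl hβ fun _ _ => rfl))
  have hSinner : ∀ f, IsMor F S f → ∃ s ∈ S, ∀ x ∈ S, f x = cj s x := fun f hf =>
    (TGen.invariant D ((hF _ _).mp hf)).1 hSno
  refine ⟨F, ?_, fun heq => ?_⟩
  swap
  · have h1 : α ∈ F.autGroup P := haut.symm ▸ Subgroup.mem_sup_right (Subgroup.mem_zpowers α)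
    have h2 : F = innerFusionSystem S := fusion_ext fun X f => by
      unfold IsMor
      rw [heq X]
    rw [h2, autGroup_inner hle] at h1
    exact D.ne (by simpa using D.not_pGroup hS (k := 1) (by rwa [pow_one]))
  let ℋ : Set (Subgroup Ω) := {X | X = S ∨ ∃ g ∈ S, X = img P (cj g)}
  refine saturated_of_crit hS (ℋ := ℋ) ?_ ?_ ?_ ?_
  · -- closure under conjugation
    rintro X hX R hXR
    obtain ⟨f, hf, rfl⟩ := isConj_iff.mp hXR
    rcases hX with rfl | ⟨g, hg, rfl⟩
    · exact Or.inl (eq_of_le_of_card le_rfl hf.img_le hf.card_img.ge)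
    · obtain ⟨s, hs, a, ha, he⟩ := (TGen.invariant D ((hF _ _).mp hf)).2.1 g hg rfl
      refine Or.inr ⟨s, hs, le_antisymm (img_le fun x hx => ?_) (img_le fun y hy => ?_)⟩
      · rw [he x hx]
        refine mem_img_of_mem _ (autFun_mem a ?_)
        simpa [cj] using mem_img_cj.mp hx
      · have hxy : cj g (autFun a⁻¹ y) ∈ img P (cj g) := mem_img_of_mem _ (autFun_mem _ hy)
        have h4 := mem_img_of_mem f hxy
        rw [he _ hxy, cj_inv_cj, autFun_inv_right a hy] at h4
        exact h4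
  · rintro X (rfl | ⟨g, hg, rfl⟩)
    · -- the whole group
      refine ⟨X, isConj_refl F le_rfl, isFullyAutomized_iff.mpr ⟨le_rfl, autInducedBy_le F le_rfl,
        isPGroup_autInducedBy hS, fun C _ hC hC' => le_antisymm (fun β hβ => ?_) hC⟩,
        isReceptive_iff.mpr ⟨le_rfl, fun R f hf he => ?_⟩⟩
      · obtain ⟨s, hs, he⟩ := hSinner _ (isMor_autFun le_rfl (hC' hβ))
        exact mem_autInducedBy.mpr ⟨s, hs, Subgroup.le_normalizer hs, he⟩
      · have hR : R = X := eq_of_le_of_card le_rfl hf.le (by rw [← hf.card_img, he])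
        subst hR
        obtain ⟨s, hs, he'⟩ := hSinner f hf
        exact ⟨cj s, isMor_cj F (fun x hx => hx.1) hs, fun x hx => (he' x hx).symm⟩
    · -- the twisted subgroup
      have hc : F.IsConj (img P (cj g)) P := isConj_symm (isConj_img (isMor_cj F hle hg))
      refine ⟨P, hc, isFullyAutomized_iff.mpr ⟨hle, autInducedBy_le F hle, isPGroup_autInducedBy hS,
        fun C hC2 hTC hC => le_antisymm (fun β hβ => ?_) hTC⟩,
        isReceptive_iff.mpr ⟨hle, fun R f hf he => ?_⟩⟩
      · obtain ⟨k, t, ht, rfl⟩ := D.exists_form (haut ▸ hC hβ)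
        have hk : α ^ k ∈ C := by simpa using mul_mem hβ (inv_mem (hTC ht))
        obtain ⟨j, hj⟩ := hC2 ⟨_, hk⟩
        have h3 : (α ^ k) ^ 3 = 1 := by rw [← pow_mul, mul_comm, pow_mul, D.cube, one_pow]
        have h1 : α ^ k = 1 := orderOf_eq_one_iff.mp (Nat.eq_one_of_dvd_coprimes
          ((show Nat.Coprime 3 2 by norm_num).pow_right j) (orderOf_dvd_of_pow_eq_one h3)
          (orderOf_dvd_of_pow_eq_one (congrArg Subtype.val hj)))
        rwa [h1, one_mul]
      · have hRP : F.IsConj P R := isConj_symm (isConj_iff.mpr ⟨f, hf, he⟩)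
        obtain ⟨h₀, hh₀, rfl⟩ : ∃ h₀ ∈ S, R = img P (cj h₀) := by
          obtain ⟨f', hf', e'⟩ := isConj_iff.mp hRP
          obtain ⟨s, hs, a, ha, he'⟩ := (TGen.invariant D ((hF _ _).mp hf')).2.1 1 S.one_mem
            (by rw [img_congr (g := id) fun x _ => cj_one x, img_id])
          refine ⟨s, hs, ?_⟩
          rw [← e']
          refine le_antisymm (img_le fun x hx => ?_) (img_le fun y hy => ?_)
          · rw [he' x hx, inv_one, cj_one]
            exact mem_img_of_mem _ (autFun_mem a hx)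
          · have h4 := mem_img_of_mem f' (autFun_mem a⁻¹ hy)
            rw [he' _ (autFun_mem _ hy), inv_one, cj_one, autFun_inv_right a hy] at h4
            exact h4
        have hg' := isMor_cj F hle hh₀
        obtain ⟨β, hβ, hβe⟩ := exists_aut (hg'.comp hf fun x hx => mem_img_of_mem _ hx)
          (by rw [← hg'.img_comp, he])
        by_cases hβT : β ∈ autInducedBy S P
        · obtain ⟨k, hk, -, hke⟩ := mem_autInducedBy.mp hβT
          refine ⟨cj (k * h₀⁻¹), isMor_cj F ((nExt_le f).trans normalizerIn_le)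
            (S.mul_mem hk (S.inv_mem hh₀)), fun x hx => ?_⟩
          obtain ⟨y, hy, rfl⟩ := hg'.mem_img.mp hx
          rw [cj_mul, cj_inv_cj, ← hke y hy, hβe y hy]
          rfl
        · have hNR : nExt S (img P (cj h₀)) f ≤ img P (cj h₀) := by
            intro h hh
            obtain ⟨hhS, hhN, k, hk, hke⟩ := hh
            set h' := h₀⁻¹ * h * h₀ with hh'
            have hh'S : h' ∈ S := S.mul_mem (S.mul_mem (S.inv_mem hh₀) hhS) hh₀
            have hh'N : h' ∈ Subgroup.normalizer (P : Set Ω) := by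
              refine Subgroup.mem_normalizer_fintype fun y hy => ?_
              have h2 := mem_img_cj.mp
                ((Subgroup.mem_normalizer_iff.mp hhN _).mp (mem_img_of_mem (cj h₀) hy))
              rw [hh']
              simpa [cj, mul_assoc] using h2
            have hyy : ∀ y, cj h (cj h₀ y) = cj h₀ (cj h' y) := fun y => by
              rw [← cj_mul, ← cj_mul, hh']; congr 1; group
            have hP' : ∀ y ∈ P, cj h' y ∈ P := fun y hy => (Subgroup.mem_normalizer_iff.mp hh'N y).mp hy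
            have hkey : ∀ y ∈ P, autFun β (cj h' y) = cj k (autFun β y) := fun y hy => by
              rw [hβe _ (hP' y hy), hβe y hy, Function.comp_apply, Function.comp_apply, ← hyy]
              exact hke _ (mem_img_of_mem _ hy)
            have hkn : k ∈ Subgroup.normalizer (P : Set Ω) := by
              refine Subgroup.mem_normalizer_fintype fun y hy => ?_
              have hy' := autFun_mem β⁻¹ hy
              have h2 := hkey _ hy'
              rw [autFun_inv_right β hy] at h2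
              show cj k y ∈ P
              rw [← h2]
              exact autFun_mem β (hP' _ hy')
            obtain ⟨c, -, hce⟩ := exists_autInducedBy hh'S hh'N
            obtain ⟨ck, hck, hcke⟩ := exists_autInducedBy hk hkn
            have hcc : β * c * β⁻¹ = ck := mul_inv_eq_iff_eq_mul.mpr (autFun_inj fun x hx => by
              rw [autFun_mul _ _ hx, autFun_mul _ _ hx, hce x hx, hcke _ (autFun_mem β hx), hkey x hx])
            have h'P := D.mem_of_conj hS (haut ▸ hβ) hβT hh'S hh'N hce (hcc ▸ hck)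
            rw [mem_img_cj]
            exact h'P
          exact ⟨f, hf.restrict hNR, fun _ _ => rfl⟩
  · -- generation
    intro E hE
    have hαE : ∀ a ∈ aut S α, IsMor E P (autFun a) := fun a ha => by
      have h1 : IsMor F P (autFun a) := (hF _ _).mpr (.step le_rfl ha fun _ _ => rfl)
      obtain ⟨φ, hφ, hφe⟩ := h1
      exact ⟨φ, hE P (Or.inr ⟨1, S.one_mem, by rw [img_congr (g := id) fun x _ => cj_one x, img_id]⟩) hφ, hφe⟩
    refine le_iff_isMor.mpr fun X f hf => ?_
    induction (hF X f).mp hf with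
    | base hX hg e => exact (isMor_cj E hX hg).congr fun x hx => (e x hx).symm
    | step hX ha e => exact ((hαE _ ha).restrict hX).congr fun x hx => (e x hx).symm
    | @comp X g h f h₁ h₂ e ih₁ ih₂ =>
      exact ((ih₁ ((hF _ _).mpr h₁)).comp (ih₂ ((hF _ _).mpr h₂)) fun x hx => mem_img_of_mem g hx).congr
        fun x hx => (e x hx).symm
  · -- centric subgroups outside
    intro X hX hXH
    suffices h : ∃ Q, F.IsConj X Q ∧ ∀ φ ∈ F.autGroup Q, Odd (orderOf φ) → φ = 1 by
      obtain ⟨Q, hXQ, hodd⟩ := h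
      have hQc := centric_of_isConj hX hXQ
      have hQS : Q < S := by
        refine lt_of_le_of_ne hQc.1 fun h => hXH (Or.inl (eq_of_le_of_card le_rfl hX.1 ?_))
        rw [← isConj_card hXQ, h]
      haveI := finite_of_le hQc.1
      haveI : Finite (MulAut Q) := MulEquiv.finite_left
      have hA := isPGroup_of_odd_trivial hodd
      refine ⟨Q, hXQ, fun hinn => ?_⟩
      obtain ⟨y, hy, hyQ⟩ := SetLike.exists_of_lt (normalizerIn_gt hS hQS)
      obtain ⟨hyS, hyN⟩ := mem_normalizerIn.mp hy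
      obtain ⟨cy, hcy, hcye⟩ := exists_autInducedBy hyS hyN
      have hcore : pCore 2 ↥(F.autGroup Q) = ⊤ := top_le_iff.mp
        (le_sSup ⟨⟨fun a _ g => Subgroup.mem_top _⟩, hA.to_subgroup ⊤⟩)
      have hcy' : cy ∈ (pCore 2 ↥(F.autGroup Q)).map (F.autGroup Q).subtype := by
        rw [hcore, ← MonoidHom.range_eq_map, Subgroup.range_subtype]
        exact autInducedBy_le F hQc.1 hcy
      exact hyQ (mem_of_cj_inn hQc.1 (centric_centralizer_le hQc) hyS (hinn ⟨hcy, hcy'⟩) hcye)
    by_cases hin : ∀ g ∈ S, ¬ X ≤ img P (cj g)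
    · refine ⟨X, isConj_refl F hX.1, fun φ hφ hodd => ?_⟩
      obtain ⟨s, hs, he⟩ := (TGen.invariant D ((hF _ _).mp (isMor_autFun hX.1 hφ))).1 hin
      haveI := finite_of_le hX.1
      have hsn : s ∈ Subgroup.normalizer (X : Set Ω) :=
        Subgroup.mem_normalizer_fintype fun y hy => by
          show cj s y ∈ X
          rw [← he y hy]
          exact autFun_mem φ hy
      obtain ⟨j, hj⟩ := isPGroup_autInducedBy (S := S) (P := X) hS
        ⟨φ, mem_autInducedBy.mpr ⟨s, hs, hsn, he⟩⟩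
      refine orderOf_eq_one_iff.mp (Nat.eq_one_of_dvd_coprimes ?_ dvd_rfl
        (orderOf_dvd_of_pow_eq_one (congrArg Subtype.val hj)))
      exact (Nat.coprime_two_right.mpr hodd).pow_right j
    · push Not at hin
      obtain ⟨g, hg, hXg⟩ := hin
      have hm := isMor_cj F hX.1 (S.inv_mem hg)
      have hYP : img X (cj g⁻¹) ≤ P := img_le fun x hx => by
        have := mem_img_cj.mp (hXg hx)
        simpa [cj] using this
      refine ⟨_, isConj_img hm, fun φ hφ hodd => hfix _ (lt_of_le_of_ne hYP fun h => hXH (Or.inr ⟨g, hg, ?_⟩))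
        (hX.2 _ (isConj_img hm)) φ hodd fun x hx hc hfx =>
          (TGen.invariant D ((hF _ _).mp (isMor_autFun hm.img_le hφ))).2.2 x hx hc hfx⟩
      refine eq_of_le_of_card (isMor_cj F hle hg).img_le hXg ?_
      rw [hcard g hg, ← hm.card_img, h]

end CfsgLib.Bicyclic
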