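import Mathlib
import Cfsg.Agent.Lib.Bicyclic.TwistSystem

/-!
# The fusion system of a four-group datum (piece 5a of S5217)
-/

set_option autoImplicit false
set_option linter.unusedSectionVars false
set_option linter.style.haveILetI false

namespace CfsgLib.Bicyclic

open Cfsg Cfsg.FusionSystem CfsgLib.Fusion Subgroup

universe u

namespace FourSys

/-- The four-group. -/
abbrev K4 : Type := Multiplicative (ZMod 2 × ZMod 2)

/-- The automorphism of order three. -/
def cyc : MulAut K4 where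
  toFun k := Multiplicative.ofAdd (k.toAdd.2, k.toAdd.1 + k.toAdd.2)
  invFun k := Multiplicative.ofAdd (k.toAdd.1 + k.toAdd.2, k.toAdd.1)
  left_inv := by decide
  right_inv := by decide
  map_mul' := by decide

/-- The action of `τ`. -/
def flip' (k : K4) : K4 := Multiplicative.ofAdd (k.toAdd.1, k.toAdd.1 + k.toAdd.2)

theorem cyc_cube : ∀ k : K4, cyc (cyc (cyc k)) = k := by decide

theorem cyc_ne : cyc (Multiplicative.ofAdd (1, 0)) ≠ Multiplicative.ofAdd (1, 0) := by decide

theorem flip_cyc : ∀ k : K4, flip' (cyc k) = cyc (cyc (flip' k)) := by decide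

variable {G : Type u} [Group G] {e z τ : G} {C : Subgroup G}

/-- The representative of an element of the four-group. -/
def rep4 (e z : G) (k : K4) : G := e ^ k.toAdd.1.val * z ^ k.toAdd.2.val

theorem k4_cases : ∀ k : K4, k = Multiplicative.ofAdd (0, 0) ∨ k = Multiplicative.ofAdd (1, 0) ∨
    k = Multiplicative.ofAdd (0, 1) ∨ k = Multiplicative.ofAdd (1, 1) := by decide

theorem rep4_00 : rep4 e z (Multiplicative.ofAdd (0, 0)) = 1 := by simp [rep4]
theorem rep4_10 : rep4 e z (Multiplicative.ofAdd (1, 0)) = e := by simp [rep4, ZMod.val_one]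
theorem rep4_01 : rep4 e z (Multiplicative.ofAdd (0, 1)) = z := by simp [rep4, ZMod.val_one]
theorem rep4_11 : rep4 e z (Multiplicative.ofAdd (1, 1)) = e * z := by simp [rep4, ZMod.val_one]

theorem pow_add_two {x : G} (hx : x * x = 1) :
    ∀ a b : ZMod 2, x ^ (a + b).val = x ^ a.val * x ^ b.val := by
  intro a b
  have h0 : ∀ a b : ZMod 2, (a + b).val = (a.val + b.val) % 2 := by decide
  rw [← pow_add, h0]
  exact (pow_eq_pow_mod _ (by rw [sq, hx])).symm

/-- The four-group as a subgroup. -/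
def hom4 (h : FourData G e z τ C) : K4 →* G where
  toFun := rep4 e z
  map_one' := by simp [rep4]
  map_mul' k l := by
    show e ^ (k.toAdd.1 + l.toAdd.1).val * z ^ (k.toAdd.2 + l.toAdd.2).val = _
    rw [pow_add_two h.ee, pow_add_two h.zz]
    simp only [rep4, mul_assoc]
    rw [← mul_assoc (z ^ k.toAdd.2.val) (e ^ l.toAdd.1.val),
      (h.comm.symm.pow_pow k.toAdd.2.val l.toAdd.1.val).eq, mul_assoc]

theorem hom4_mem (h : FourData G e z τ C) (k : K4) : hom4 h k ∈ closure {e, z} :=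
  mul_mem (pow_mem (subset_closure (by simp)) _) (pow_mem (subset_closure (by simp)) _)

theorem hom4_inj (h : FourData G e z τ C) : Function.Injective (hom4 h) :=
  (injective_iff_map_eq_one _).2 fun k hk => by
    replace hk : rep4 e z k = 1 := hk
    rcases k4_cases k with rfl | rfl | rfl | rfl
    · rfl
    · rw [rep4_10] at hk; exact absurd hk h.e_ne
    · rw [rep4_01] at hk; exact absurd hk h.z_ne
    · rw [rep4_11] at hk
      exact absurd ((mul_eq_one_iff_eq_inv.1 hk).trans (inv_eq_of_mul_eq_one_right h.zz)) h.ne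

/-- The product decomposition. -/
noncomputable def prodHom (h : FourData G e z τ C) :
    K4 × C →* ↥(closure {e, z} ⊔ C) :=
  MonoidHom.noncommCoprod ((hom4 h).codRestrict _ fun k => mem_sup_left (hom4_mem h k))
    (Subgroup.inclusion le_sup_right) fun k c =>
      Subtype.ext (h.central _ (mem_sup_left (hom4_mem h k)) _ (mem_sup_right c.2))

theorem prodHom_coe (h : FourData G e z τ C) (p : K4 × C) :
    (prodHom h p : G) = rep4 e z p.1 * (p.2 : G) := rfl

theorem prodHom_bijective (h : FourData G e z τ C) : Function.Bijective (prodHom h) := by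
  constructor
  · refine (injective_iff_map_eq_one _).2 fun p hp => ?_
    have hp' : rep4 e z p.1 * (p.2 : G) = 1 := congrArg Subtype.val hp
    have h1 : (p.2 : G) ∈ closure {e, z} ⊓ C := ⟨by
      rw [eq_inv_of_mul_eq_one_right hp']
      exact Subgroup.inv_mem _ (hom4_mem h p.1), p.2.2⟩
    rw [h.disj, mem_bot] at h1
    rw [h1, mul_one] at hp'
    exact Prod.ext (hom4_inj h (hp'.trans (map_one (hom4 h)).symm)) (Subtype.ext h1)
  · rintro ⟨x, hx⟩
    have hle : closure {e, z} ⊔ C ≤ ((prodHom h).range).map (closure {e, z} ⊔ C).subtype := by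
      refine sup_le ((closure_le _).2 ?_) fun c hc =>
        ⟨prodHom h (1, ⟨c, hc⟩), ⟨_, rfl⟩, by simp [prodHom_coe, rep4]⟩
      rintro y (rfl | rfl)
      · exact ⟨prodHom h (Multiplicative.ofAdd (1, 0), 1), ⟨_, rfl⟩, by
          simp [prodHom_coe, rep4_10]⟩
      · exact ⟨prodHom h (Multiplicative.ofAdd (0, 1), 1), ⟨_, rfl⟩, by
          simp [prodHom_coe, rep4_01]⟩
    obtain ⟨_, ⟨p, rfl⟩, hp⟩ := hle hx
    exact ⟨p, Subtype.ext hp⟩

theorem tau_rep4 (h : FourData G e z τ C) (k : K4) :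
    τ * rep4 e z k * τ⁻¹ = rep4 e z (flip' k) := by
  rcases k4_cases k with rfl | rfl | rfl | rfl
  · rw [rep4_00, show flip' (Multiplicative.ofAdd (0, 0)) = Multiplicative.ofAdd (0, 0) by decide,
      rep4_00, mul_one, mul_inv_cancel]
  · rw [rep4_10, show flip' (Multiplicative.ofAdd (1, 0)) = Multiplicative.ofAdd (1, 1) by decide,
      rep4_11, h.tau_e]
  · rw [rep4_01, show flip' (Multiplicative.ofAdd (0, 1)) = Multiplicative.ofAdd (0, 1) by decide,
      rep4_01, h.tau_z]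
  · rw [rep4_11, show flip' (Multiplicative.ofAdd (1, 1)) = Multiplicative.ofAdd (1, 0) by decide,
      rep4_10, show τ * (e * z) * τ⁻¹ = τ * e * τ⁻¹ * (τ * z * τ⁻¹) by group, h.tau_e, h.tau_z,
      mul_assoc, h.zz, mul_one]

theorem tau_not (h : FourData G e z τ C) : τ ∉ closure {e, z} ⊔ C := fun hτ => h.z_ne (by
  have h1 := h.tau_e
  rw [h.central τ hτ e (mem_sup_left (subset_closure (by simp))), mul_inv_cancel_right] at h1
  exact mul_eq_left.1 h1.symm)

theorem norm_cosets (h : FourData G e z τ C) {g : G}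
    (hg : g ∈ normalizer ((closure {e, z} ⊔ C : Subgroup G) : Set G)) :
    g ∈ closure {e, z} ⊔ C ∨ τ⁻¹ * g ∈ closure {e, z} ⊔ C := by
  set P := closure {e, z} ⊔ C
  have hτ : τ ∈ normalizer (P : Set G) := h.norm.ge (mem_sup_right (mem_zpowers τ))
  have hc : ∀ x, x ∈ P → τ⁻¹ * x * τ ∈ P := fun x hx => (mem_normalizer_iff''.1 hτ x).1 hx
  let R : Subgroup G :=
    { carrier := {g | g ∈ P ∨ τ⁻¹ * g ∈ P}
      one_mem' := Or.inl P.one_mem
      mul_mem' := by
        rintro a b (ha | ha) (hb | hb)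
        · exact Or.inl (P.mul_mem ha hb)
        · refine Or.inr ?_
          have := P.mul_mem (hc a ha) hb
          simpa [mul_assoc] using this
        · refine Or.inr ?_
          rw [← mul_assoc]
          exact P.mul_mem ha hb
        · refine Or.inl ?_
          have := P.mul_mem (P.mul_mem h.tau_sq (hc _ ha)) hb
          simpa [mul_assoc] using this
      inv_mem' := by
        rintro a (ha | ha)
        · exact Or.inl (P.inv_mem ha)
        · refine Or.inr ?_
          have := P.mul_mem (hc _ (P.inv_mem ha)) (P.inv_mem h.tau_sq)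
          simpa [mul_assoc] using this }
  have hle : P ⊔ zpowers τ ≤ R :=
    sup_le (fun x hx => Or.inl hx) (zpowers_le.2 (Or.inr (by simp)))
  exact hle (h.norm.le hg)

end FourSys

open FourSys in
/-- **Piece 5a of S5217.** -/
theorem stmtFourSystem : StmtFourSystem.{u} := by
  intro Ω _ S _ hS e z τ C h
  set P₀ : Subgroup ↥S := closure {e, z} ⊔ C with hP₀
  let Ψ : K4 × C ≃* ↥P₀ := MulEquiv.ofBijective (prodHom h) (prodHom_bijective h)
  let α₀ : MulAut ↥P₀ := MulAut.congr Ψ (cyc.prodCongr (MulEquiv.refl C))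
  have hΨ : ∀ p, ((Ψ p : ↥P₀) : ↥S) = rep4 e z p.1 * (p.2 : ↥S) := fun p => rfl
  have hα : ∀ p, α₀ (Ψ p) = Ψ (cyc p.1, p.2) := fun p => by
    simp only [α₀, MulAut.congr_apply, MulEquiv.trans_apply, MulEquiv.symm_apply_apply]
    rfl
  set P : Subgroup Ω := P₀.map S.subtype with hPdef
  let η : ↥P₀ ≃* ↥P := P₀.equivMapOfInjective S.subtype S.subtype_injective
  set α : MulAut ↥P := MulAut.congr η α₀ with hαdef
  have hval : ∀ (β : MulAut ↥P₀) (x : ↥P₀),
      autFun (MulAut.congr η β) ((x : ↥S) : Ω) = ((β x : ↥S) : Ω) := by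
    intro β x
    have hm : ((x : ↥S) : Ω) ∈ P := mem_map_of_mem S.subtype x.2
    rw [autFun_of_mem _ hm, show (⟨_, hm⟩ : ↥P) = η x from Subtype.ext rfl, MulAut.congr_apply,
      MulEquiv.trans_apply, MulEquiv.trans_apply, MulEquiv.symm_apply_apply]
    rfl
  have hmemP : ∀ g : ↥S, (g : Ω) ∈ P ↔ g ∈ P₀ := fun g => mem_map_iff_mem S.subtype_injective
  have hle : P ≤ S := Subgroup.map_subtype_le _
  have hlift : ∀ y ∈ P, ∃ x : ↥P₀, ((x : ↥S) : Ω) = y := fun y hy => by
    obtain ⟨x, hx, rfl⟩ := mem_map.1 hy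
    exact ⟨⟨x, hx⟩, rfl⟩
  have hnorm : ∀ g : ↥S, (g : Ω) ∈ normalizer (P : Set Ω) ↔ g ∈ normalizer (P₀ : Set ↥S) := by
    intro g
    constructor
    · intro hg
      rw [mem_normalizer_iff] at hg ⊢
      intro x
      rw [← hmemP, ← hmemP]
      exact hg x
    · intro hg
      haveI : Finite ↥P := finite_of_le hle
      refine Subgroup.mem_normalizer_fintype fun y hy => ?_
      obtain ⟨x, rfl⟩ := hlift y hy
      exact (hmemP (g * (x : ↥S) * g⁻¹)).2 ((mem_normalizer_iff.1 hg _).1 x.2)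
  have hτN : τ ∈ normalizer (P₀ : Set ↥S) := h.norm.ge (mem_sup_right (mem_zpowers τ))
  have heP : e ∈ P₀ := mem_sup_left (subset_closure (by simp))
  have D : Twist S P (τ : Ω) α := by
    refine ⟨hle, τ.2, fun hτ => tau_not h ((hmemP τ).1 hτ), (hnorm τ).2 hτN, ?_, ?_, ?_, ?_, ?_⟩
    · intro g hg
      obtain ⟨hgS, hc⟩ := mem_centralizerIn.1 hg
      refine (hmemP ⟨g, hgS⟩).2 (h.cent_e.le ?_)
      rw [mem_centralizer_singleton_iff]
      exact Subtype.ext (cj_fixed_iff.1 (hc _ ((hmemP e).2 heP)))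
    · intro g hg hn
      rcases norm_cosets h ((hnorm ⟨g, hg⟩).1 hn) with h1 | h1
      · exact Or.inl ((hmemP _).2 h1)
      · exact Or.inr ((hmemP (τ⁻¹ * ⟨g, hg⟩)).2 h1)
    · rw [hαdef, ← map_pow]
      have : α₀ ^ 3 = 1 := MulEquiv.ext fun x => by
        obtain ⟨p, rfl⟩ := Ψ.surjective x
        rw [pow_succ, pow_two, MulAut.mul_apply, MulAut.mul_apply, hα, hα, hα, cyc_cube]
        rfl
      rw [this, map_one]
    · intro hα1
      have h1 := hval α₀ (Ψ (Multiplicative.ofAdd (1, 0), 1))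
      rw [← hαdef, hα1, autFun_one ((hmemP _).2 (Ψ _).2), hα] at h1
      exact cyc_ne (Prod.ext_iff.1 (Ψ.injective (Subtype.ext (Subtype.ext h1)))).1.symm
    · refine ⟨1, one_mem _, fun y hy => ?_⟩
      obtain ⟨x, rfl⟩ := hlift y hy
      obtain ⟨⟨k, c⟩, rfl⟩ := Ψ.surjective x
      have hc' : τ * (c : ↥S) * τ⁻¹ ∈ C := (mem_normalizer_iff.1 h.tau_C _).1 c.2
      have hτΨ : ∀ l, τ * ((Ψ (l, c) : ↥P₀) : ↥S) * τ⁻¹ =
          ((Ψ (flip' l, ⟨_, hc'⟩) : ↥P₀) : ↥S) := fun l => by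
        rw [hΨ, hΨ, show τ * (rep4 e z l * (c : ↥S)) * τ⁻¹
          = τ * rep4 e z l * τ⁻¹ * (τ * (c : ↥S) * τ⁻¹) by group, tau_rep4 h]
      have hL : cj (τ : Ω) (autFun α (((Ψ (k, c) : ↥P₀) : ↥S) : Ω)) =
          (((Ψ (flip' (cyc k), ⟨_, hc'⟩) : ↥P₀) : ↥S) : Ω) := by
        rw [hval, hα, ← hτΨ]
        rfl
      rw [hL, show cj (τ : Ω) (((Ψ (k, c) : ↥P₀) : ↥S) : Ω)
        = (((Ψ (flip' k, ⟨_, hc'⟩) : ↥P₀) : ↥S) : Ω) from congrArg Subtype.val (hτΨ k),
        hαdef, ← map_pow, hval, cj_one, pow_two, MulAut.mul_apply, hα, hα, flip_cyc]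
  refine noninner_of_twist hS D fun X hXP hXc φ hodd hfix => absurd ?_ hXP.not_ge
  intro g hg
  refine hXc (mem_centralizerIn.2 ⟨hle hg, fun y hy => ?_⟩)
  obtain ⟨x, rfl⟩ := hlift y (hXP.le hy)
  obtain ⟨x', rfl⟩ := hlift g hg
  exact cj_fixed_iff.2 (congrArg Subtype.val (h.central _ x'.2 _ x.2))

end CfsgLib.Bicyclic
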