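import Mathlib
import Cfsg.Agent.Lib.Bicyclic.Defs

/-!
# S5217, piece 4: a cyclic derived subgroup gives a four-group or quaternion datum

`G' = ⟨c⟩`, `a b a⁻¹ = c b`; here `b` inverts `c` and `b⁴ = 1`, so `D = ⟨c, b⟩` is dihedral or
quaternion, and an element `w ≡ a² mod D` centralizes `b`.
-/

set_option autoImplicit false
set_option linter.unusedSectionVars false
set_option linter.style.haveILetI false

namespace CfsgLib.Bicyclic

open Cfsg Subgroup
open scoped commutatorElement

universe u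

namespace Pivot

variable {G : Type u} [Group G]

theorem meta_of_cyclic_sup (N : Subgroup G) [N.Normal] (hN : IsCyclic ↥N) (a : G)
    (h : N ⊔ zpowers a = ⊤) : IsMetacyclic G := by
  refine ⟨N, inferInstance, hN, ⟨⟨(a : G ⧸ N), fun q => ?_⟩⟩⟩
  induction q using QuotientGroup.induction_on with
  | H g =>
    obtain ⟨y, hy, x, hx, rfl⟩ := mem_sup_of_normal_left.1 (h ▸ mem_top g : g ∈ N ⊔ zpowers a)
    obtain ⟨k, rfl⟩ := mem_zpowers_iff.1 hx
    refine mem_zpowers_iff.2 ⟨k, ?_⟩
    rw [QuotientGroup.mk_mul, (QuotientGroup.eq_one_iff y).2 hy, one_mul, QuotientGroup.mk_zpow]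

theorem commutator_eq_zpowers {a b : G} (gen : closure {a, b} = ⊤)
    (hcyc : IsCyclic ↥(commutator G)) :
    commutator G = zpowers (a * b * a⁻¹ * b⁻¹) := by
  set d := a * b * a⁻¹ * b⁻¹ with hd
  have hdm : d ∈ commutator G := by
    rw [_root_.commutator_def, hd, ← commutatorElement_def]
    exact commutator_mem_commutator (mem_top a) (mem_top b)
  obtain ⟨c0, hc0⟩ := (Subgroup.isCyclic_iff_exists_zpowers_eq_top _).1 hcyc
  have hdn : (zpowers d).Normal := by
    constructor
    intro x hx g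
    obtain ⟨k, hk⟩ := mem_zpowers_iff.1 (hc0.symm ▸ hdm : d ∈ zpowers c0)
    obtain ⟨l, hl⟩ := mem_zpowers_iff.1 (hc0.symm ▸ (inferInstance : (commutator G).Normal).conj_mem
      c0 (hc0 ▸ mem_zpowers c0) g : g * c0 * g⁻¹ ∈ zpowers c0)
    obtain ⟨i, rfl⟩ := mem_zpowers_iff.1 hx
    refine mem_zpowers_iff.2 ⟨l * i, ?_⟩
    have e : g * d * g⁻¹ = d ^ l := by
      rw [← hk, ← conj_zpow, ← hl, ← zpow_mul, ← zpow_mul, mul_comm]
    rw [← conj_zpow, e, ← zpow_mul]
  refine le_antisymm ?_ (by rw [zpowers_le]; exact hdm)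
  haveI := hdn
  let π := QuotientGroup.mk' (zpowers d)
  have hab : Commute (π a) (π b) := by
    have h : π d = 1 := (QuotientGroup.eq_one_iff d).2 (mem_zpowers d)
    replace h : π a * π b * (π a)⁻¹ * (π b)⁻¹ = 1 := by
      simpa only [hd, map_mul, map_inv] using h
    exact mul_inv_eq_iff_eq_mul.1 (mul_inv_eq_one.1 h)
  have key : ∀ q : G ⧸ zpowers d, Commute q (π a) → Commute q (π b) → ∀ g, Commute q (π g) := by
    intro q h1 h2 g
    have hg : g ∈ (centralizer ({q} : Set (G ⧸ zpowers d))).comap π := by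
      refine (closure_le _).2 ?_ (gen ▸ mem_top g : g ∈ closure {a, b})
      rintro x (rfl | rfl) <;> rw [SetLike.mem_coe, mem_comap, mem_centralizer_singleton_iff]
      · exact h1.symm.eq
      · exact h2.symm.eq
    rw [mem_comap, mem_centralizer_singleton_iff] at hg
    exact hg.symm
  have hA := key _ (Commute.refl _) hab
  have hB := key _ hab.symm (Commute.refl _)
  rw [_root_.commutator_def, commutator_le]
  intro g _ h _
  have hgh : Commute (π g) (π h) := key _ (hA g).symm (hB g).symm h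
  rw [← QuotientGroup.eq_one_iff, ← QuotientGroup.mk'_apply, map_commutatorElement,
    commutatorElement_eq_one_iff_commute]
  exact hgh

theorem eq_top_of_sup_commutator [Finite G] (hG : IsPGroup 2 G) {K : Subgroup G}
    (h : K ⊔ commutator G = ⊤) : K = ⊤ := by
  rcases eq_top_or_exists_le_coatom K with hK | ⟨M, hM, hKM⟩
  · exact hK
  · haveI : Fact (Nat.Prime 2) := ⟨Nat.prime_two⟩
    haveI := hG.isNilpotent
    haveI hn : M.Normal := NormalizerCondition.normal_of_coatom M
      Group.normalizerCondition_of_isNilpotent hM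
    obtain ⟨g, hg⟩ : ∃ g, g ∉ M := by
      by_contra hcon
      exact hM.1 (eq_top_iff.2 fun x _ => not_not.1 fun hx => hcon ⟨x, hx⟩)
    have htop : M ⊔ zpowers g = ⊤ := by
      refine hM.2 _ (lt_of_le_of_ne le_sup_left fun he => hg ?_)
      rw [he]
      exact mem_sup_right (mem_zpowers g)
    have hle : commutator G ≤ M := by
      rw [_root_.commutator_def, commutator_le]
      intro x _ y _
      obtain ⟨m, hm, p, hp, rfl⟩ :=
        mem_sup_of_normal_left.1 (htop ▸ mem_top x : x ∈ M ⊔ zpowers g)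
      obtain ⟨m', hm', p', hp', rfl⟩ :=
        mem_sup_of_normal_left.1 (htop ▸ mem_top y : y ∈ M ⊔ zpowers g)
      obtain ⟨k, rfl⟩ := mem_zpowers_iff.1 hp
      obtain ⟨l, rfl⟩ := mem_zpowers_iff.1 hp'
      rw [← QuotientGroup.eq_one_iff, ← QuotientGroup.mk'_apply, map_commutatorElement,
        commutatorElement_eq_one_iff_commute, map_mul, map_mul]
      simp only [QuotientGroup.mk'_apply, (QuotientGroup.eq_one_iff m).2 hm,
        (QuotientGroup.eq_one_iff m').2 hm', one_mul, QuotientGroup.mk_zpow]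
      exact Commute.zpow_zpow_self _ _ _
    exact absurd (eq_top_iff.2 (h ▸ sup_le hKM hle)) hM.1

/-- In a group with two generators `a`, `b`, the hypotheses of the piece. -/
structure Pair (G : Type u) [Group G] (a b : G) : Prop where
  pgroup : IsPGroup 2 G
  not_meta : ¬ IsMetacyclic G
  cyc : IsCyclic ↥(commutator G)
  gen : closure {a, b} = ⊤
  sq : b * b ∈ commutator G
  notin : a * a ∉ commutator G ⊔ zpowers b

/-- The derived facts: `c` generates `G'`, is inverted by `b`; `z` is its involution. -/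
structure Data (G : Type u) [Group G] (a b c z : G) (n : ℕ) : Prop where
  pair : Pair G a b
  com : commutator G = zpowers c
  hab : a * b * a⁻¹ = c * b
  ord : orderOf c = 2 ^ (n + 1)
  hz : z = c ^ (2 ^ n)
  bc : b * c * b⁻¹ = c⁻¹
  bb4 : (b * b) * (b * b) = 1
  cnot : c ∉ zpowers (b * b)
  bnotN : b ∉ commutator G ⊔ zpowers a

theorem data_exists [Finite G] {a b : G} (P : Pair G a b) :
    ∃ (c z : G) (n : ℕ), Data G a b c z n := by
  haveI : Fact (Nat.Prime 2) := ⟨Nat.prime_two⟩
  set c := a * b * a⁻¹ * b⁻¹ with hc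
  have hcom : commutator G = zpowers c := commutator_eq_zpowers P.gen P.cyc
  have hab : a * b * a⁻¹ = c * b := by rw [hc]; group
  have bnotN : b ∉ commutator G ⊔ zpowers a := fun hb => P.not_meta <|
    meta_of_cyclic_sup (commutator G) P.cyc a <| by
      rw [eq_top_iff, ← P.gen, closure_le]
      rintro x (rfl | rfl)
      · exact mem_sup_right (mem_zpowers _)
      · exact hb
  have cnot : c ∉ zpowers (b * b) := by
    intro hcb
    have hle : commutator G ≤ zpowers b := by
      rw [hcom, zpowers_le]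
      exact (zpowers_le.2 (mul_mem (mem_zpowers b) (mem_zpowers b))) hcb
    haveI : (zpowers b).Normal := Subgroup.Normal.of_commutator_le G hle
    refine P.not_meta (meta_of_cyclic_sup (zpowers b) inferInstance a ?_)
    rw [eq_top_iff, ← P.gen, closure_le]
    rintro x (rfl | rfl)
    · exact mem_sup_right (mem_zpowers _)
    · exact mem_sup_left (mem_zpowers _)
  have hc1 : c ≠ 1 := fun h => cnot (h ▸ one_mem _)
  obtain ⟨p, hp⟩ := (IsPGroup.iff_orderOf.1 P.pgroup) c
  obtain ⟨n, rfl⟩ : ∃ n, p = n + 1 := by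
    rcases Nat.eq_zero_or_eq_succ_pred p with h | h
    · exfalso; apply hc1; rw [← orderOf_eq_one_iff, hp, h, pow_zero]
    · exact ⟨_, h⟩
  have hdvd : ∀ k : ℤ, c ^ k = 1 ↔ ((2 : ℤ) ^ (n + 1)) ∣ k := fun k => by
    rw [← orderOf_dvd_iff_zpow_eq_one, hp]; norm_num
  have hcN : ∀ g : G, ∃ k : ℤ, g * c * g⁻¹ = c ^ k := fun g => by
    have hm : g * c * g⁻¹ ∈ zpowers c := hcom ▸ (inferInstance : (commutator G).Normal).conj_mem c
      (hcom.symm ▸ mem_zpowers c) g
    obtain ⟨k, hk⟩ := mem_zpowers_iff.1 hm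
    exact ⟨k, hk.symm⟩
  -- the square of `b` is an even power
  obtain ⟨i, hi⟩ := mem_zpowers_iff.1 (hcom ▸ P.sq : b * b ∈ zpowers c)
  obtain ⟨m, rfl⟩ : ∃ m, i = 2 * m := by
    rcases Int.even_or_odd i with ⟨m, h⟩ | ⟨m, h⟩
    · exact ⟨m, by omega⟩
    · exfalso
      have hcop : IsCoprime i ((2 : ℤ) ^ (n + 1)) :=
        IsCoprime.pow_right ⟨1, -m, by rw [h]; ring⟩
      obtain ⟨x, y, hxy⟩ := hcop
      refine cnot (mem_zpowers_iff.2 ⟨x, ?_⟩)
      calc (b * b) ^ x = c ^ (x * i + y * 2 ^ (n + 1)) := by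
            rw [zpow_add, (hdvd (y * 2 ^ (n + 1))).2 (Dvd.intro_left y rfl), mul_one, mul_comm x i,
              zpow_mul, hi]
        _ = c := by rw [hxy, zpow_one]
  obtain ⟨u, hu⟩ := hcN a
  obtain ⟨v, hv⟩ := hcN b
  obtain ⟨l, rfl⟩ : ∃ l, u = 2 * l + 1 := by
    rcases Int.even_or_odd u with ⟨l, h⟩ | h
    · exfalso
      have h0 : c ^ ((2 : ℤ) ^ n) ≠ 1 := fun h1 => by
        have h2 := (hdvd _).1 h1
        have := Int.le_of_dvd (by positivity) h2
        rw [pow_succ] at this
        have hpos : (0 : ℤ) < 2 ^ n := by positivity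
        omega
      apply h0
      have h3 : (a * c * a⁻¹) ^ ((2 : ℤ) ^ n) = 1 := by
        rw [hu, ← zpow_mul, hdvd, h]
        exact ⟨l, by ring⟩
      rw [conj_zpow] at h3
      exact conj_eq_one_iff.1 h3
    · exact h
  have e1 : ((2 : ℤ) ^ (n + 1)) ∣ 1 + v - 4 * m * l := by
    have h1 : a * (b * b) * a⁻¹ = c ^ (1 + v + 2 * m) := by
      calc a * (b * b) * a⁻¹ = (a * b * a⁻¹) * (a * b * a⁻¹) := by group
        _ = c * (b * c * b⁻¹) * (b * b) := by rw [hab]; group
        _ = c ^ (1 + v + 2 * m) := by rw [hv, ← hi, zpow_add, zpow_add, zpow_one]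
    have h2 : a * (b * b) * a⁻¹ = c ^ ((2 * l + 1) * (2 * m)) := by
      rw [← hi, ← conj_zpow, hu, ← zpow_mul]
    rw [h1] at h2
    rw [← hdvd]
    calc c ^ (1 + v - 4 * m * l) = c ^ (1 + v + 2 * m) * (c ^ ((2 * l + 1) * (2 * m)))⁻¹ := by
          rw [← zpow_neg, ← zpow_add]; ring_nf
      _ = 1 := by rw [h2, mul_inv_cancel]
  have e2 : ((2 : ℤ) ^ (n + 1)) ∣ 2 * m * (v - 1) := by
    have h1 : b * (b * b) * b⁻¹ = b * b := by group
    rw [← hi, ← conj_zpow, hv, ← zpow_mul] at h1
    rw [← hdvd]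
    calc c ^ (2 * m * (v - 1)) = c ^ (v * (2 * m)) * (c ^ (2 * m))⁻¹ := by
          rw [← zpow_neg, ← zpow_add]; ring_nf
      _ = 1 := by rw [h1, mul_inv_cancel]
  have e3 : ((2 : ℤ) ^ (n + 1)) ∣ 4 * m := by
    have h : ((2 : ℤ) ^ (n + 1)) ∣ 4 * m * (2 * m * l - 1) := by
      have := dvd_sub e2 (e1.mul_left (2 * m))
      rwa [show 2 * m * (v - 1) - 2 * m * (1 + v - 4 * m * l) = 4 * m * (2 * m * l - 1) by ring]
        at this
    refine IsCoprime.dvd_of_dvd_mul_right ?_ h
    exact IsCoprime.pow_left ⟨m * l, -1, by ring⟩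
  have e4 : ((2 : ℤ) ^ (n + 1)) ∣ 1 + v := by
    have := dvd_add e1 (e3.mul_right l)
    simpa using this
  refine ⟨c, c ^ (2 ^ n), n, P, hcom, hab, hp, rfl, ?_, ?_, cnot, bnotN⟩
  · rw [hv, ← mul_inv_eq_one, inv_inv, ← zpow_add_one, hdvd, add_comm v]
    exact e4
  · rw [← hi, ← zpow_add, hdvd]
    convert e3 using 1
    ring

variable [Finite G] {a b c z : G} {n : ℕ}

theorem zpow_eq_one_iff (D : Data G a b c z n) (k : ℤ) :
    c ^ k = 1 ↔ ((2 : ℤ) ^ (n + 1)) ∣ k := by
  rw [← orderOf_dvd_iff_zpow_eq_one, D.ord]; norm_num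

theorem two_cases {x : G} (hx : x * x = 1) (q : ℤ) : x ^ q = 1 ∨ x ^ q = x := by
  rcases Int.even_or_odd q with ⟨t, rfl⟩ | ⟨t, rfl⟩
  · left; rw [← two_mul, zpow_mul, zpow_two, hx, one_zpow]
  · right; rw [zpow_add, zpow_mul, zpow_two, hx, one_zpow, one_mul, zpow_one]

theorem z_mem (D : Data G a b c z n) : z ∈ zpowers c := D.hz ▸ npow_mem_zpowers _ _

theorem z_sq (D : Data G a b c z n) : z * z = 1 := by
  rw [D.hz, ← pow_add, ← two_mul, ← pow_succ', ← D.ord, pow_orderOf_eq_one]

theorem z_ne (D : Data G a b c z n) : z ≠ 1 := by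
  rw [D.hz]
  refine pow_ne_one_of_lt_orderOf (by positivity) ?_
  rw [D.ord]
  exact Nat.pow_lt_pow_right one_lt_two (Nat.lt_succ_self n)

/-- The only elements of `⟨c⟩` of square one. -/
theorem sq_one (D : Data G a b c z n) {x : G} (hx : x ∈ zpowers c) (h : x * x = 1) :
    x = 1 ∨ x = z := by
  obtain ⟨k, rfl⟩ := mem_zpowers_iff.1 hx
  rw [← zpow_add, zpow_eq_one_iff D, ← two_mul, pow_succ'] at h
  obtain ⟨q, hq⟩ := Int.dvd_of_mul_dvd_mul_left (by norm_num) h
  have hk : c ^ k = z ^ q := by rw [hq, zpow_mul, D.hz, ← zpow_natCast]; norm_num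
  rw [hk]
  exact two_cases (z_sq D) q

theorem c_conj (D : Data G a b c z n) (g : G) {x : G} (hx : x ∈ zpowers c) :
    g * x * g⁻¹ ∈ zpowers c := by
  rw [← D.com] at hx ⊢
  exact (inferInstance : (commutator G).Normal).conj_mem x hx g

theorem z_central (D : Data G a b c z n) (g : G) : g * z * g⁻¹ = z := by
  rcases sq_one D (c_conj D g (z_mem D)) (by rw [conj_mul, z_sq D]; group) with h | h
  · exact absurd (conj_eq_one_iff.1 h) (z_ne D)
  · exact h

theorem z_commute (D : Data G a b c z n) (g : G) : Commute g z :=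
  mul_inv_eq_iff_eq_mul.1 (z_central D g)

theorem b_inv (D : Data G a b c z n) {x : G} (hx : x ∈ zpowers c) : b * x * b⁻¹ = x⁻¹ := by
  obtain ⟨k, rfl⟩ := mem_zpowers_iff.1 hx
  rw [← conj_zpow, D.bc, inv_zpow]

theorem b_not_c (D : Data G a b c z n) : b ∉ zpowers c := fun h =>
  D.bnotN (mem_sup_left (D.com.symm ▸ h))

theorem bb_cases (D : Data G a b c z n) : b * b = 1 ∨ b * b = z :=
  sq_one D (D.com ▸ D.pair.sq) D.bb4

theorem zpow_b_mem (D : Data G a b c z n) {k : ℤ} (h : b ^ k ∈ zpowers c) :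
    b ^ k = 1 ∨ b ^ k = z := by
  rcases Int.even_or_odd k with ⟨t, rfl⟩ | ⟨t, rfl⟩
  · have h2 : b ^ (t + t) = (b * b) ^ t := by rw [← two_mul, zpow_mul, zpow_two]
    rw [h2]
    rcases two_cases D.bb4 t with h' | h'
    · exact Or.inl h'
    · rw [h']; exact bb_cases D
  · exfalso
    apply b_not_c D
    have h2 : b = ((b * b) ^ t)⁻¹ * b ^ (2 * t + 1) := by
      rw [zpow_add, zpow_mul, zpow_two, zpow_one]; group
    rw [h2]
    exact mul_mem (inv_mem (zpow_mem (D.com ▸ D.pair.sq) t)) h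

/-- `g b g⁻¹` is in `⟨c⟩ b`. -/
theorem b_conj (D : Data G a b c z n) (g : G) : ∃ x ∈ zpowers c, g * b * g⁻¹ = x * b := by
  refine ⟨g * b * g⁻¹ * b⁻¹, ?_, by group⟩
  rw [← D.com, ← commutatorElement_def, _root_.commutator_def]
  exact commutator_mem_commutator (mem_top g) (mem_top b)

theorem mem_D {y : G} (hy : y * y ∈ commutator G) {x : G}
    (hx : x ∈ commutator G ⊔ zpowers y) :
    x ∈ commutator G ∨ ∃ t ∈ commutator G, x = t * y := by
  obtain ⟨t, ht, s, hs, rfl⟩ := mem_sup_of_normal_left.1 hx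
  obtain ⟨k, rfl⟩ := mem_zpowers_iff.1 hs
  rcases Int.even_or_odd k with ⟨q, rfl⟩ | ⟨q, rfl⟩
  · left
    rw [← two_mul, zpow_mul, zpow_two]
    exact mul_mem ht (zpow_mem hy q)
  · right
    refine ⟨t * (y * y) ^ q, mul_mem ht (zpow_mem hy q), ?_⟩
    rw [zpow_add, zpow_mul, zpow_two, zpow_one, mul_assoc]

theorem D_cent (D : Data G a b c z n) {x : G} (hx : x ∈ commutator G ⊔ zpowers b)
    (h : Commute x b) : x = 1 ∨ x = z ∨ x = b ∨ x = z * b := by
  have key : ∀ t ∈ zpowers c, Commute t b → t = 1 ∨ t = z := fun t ht htb => by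
    refine sq_one D ht ?_
    have h1 := b_inv D ht
    rw [← htb.eq, mul_inv_cancel_right] at h1
    nth_rewrite 2 [h1]
    exact mul_inv_cancel t
  rcases mem_D D.pair.sq hx with h' | ⟨t, ht, rfl⟩
  · rcases key x (D.com ▸ h') h with e | e
    · exact Or.inl e
    · exact Or.inr (Or.inl e)
  · have htb : Commute t b := by
      have := h.mul_left (Commute.refl b).inv_left
      rwa [mul_inv_cancel_right] at this
    rcases key t (D.com ▸ ht) htb with rfl | rfl
    · exact Or.inr (Or.inr (Or.inl (one_mul b)))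
    · exact Or.inr (Or.inr (Or.inr rfl))

/-- What is asked of `w`. -/
structure Cen (G : Type u) [Group G] (a b w : G) : Prop where
  comm : Commute w b
  rep : w⁻¹ * (a * a) ∈ commutator G ⊔ zpowers b

theorem cen_exists (D : Data G a b c z n) :
    ∃ w, Cen G a b w ∧ w ∈ commutator G ⊔ zpowers a := by
  obtain ⟨u, hu⟩ := mem_zpowers_iff.1 (c_conj D a (mem_zpowers c))
  obtain ⟨l, rfl⟩ : ∃ l, u = 2 * l + 1 := by
    rcases Int.even_or_odd u with ⟨l, h⟩ | h
    · exfalso
      apply z_ne D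
      apply (conj_eq_one_iff (a := a)).1
      rw [D.hz, ← zpow_natCast, ← conj_zpow, ← hu, ← zpow_mul, zpow_eq_one_iff D, h]
      exact ⟨l, by push_cast; ring⟩
    · exact h
  refine ⟨c ^ (-(l + 1)) * (a * a), ⟨?_, ?_⟩, ?_⟩
  · have h1 : (a * a) * b * (a * a)⁻¹ = c ^ (2 * l + 2) * b := by
      calc (a * a) * b * (a * a)⁻¹ = a * (a * b * a⁻¹) * a⁻¹ := by group
        _ = a * (c * b) * a⁻¹ := by rw [D.hab]
        _ = (a * c * a⁻¹) * (a * b * a⁻¹) := by group
        _ = c ^ (2 * l + 1) * (c * b) := by rw [← hu, D.hab]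
        _ = c ^ (2 * l + 2) * b := by
          rw [← mul_assoc, ← zpow_add_one]; ring_nf
    show c ^ (-(l + 1)) * (a * a) * b = b * (c ^ (-(l + 1)) * (a * a))
    calc c ^ (-(l + 1)) * (a * a) * b
          = c ^ (-(l + 1)) * ((a * a) * b * (a * a)⁻¹) * (a * a) := by group
      _ = c ^ (l + 1) * b * (a * a) := by
          rw [h1, ← mul_assoc (c ^ (-(l + 1))), ← zpow_add]; ring_nf
      _ = b * (c ^ (-(l + 1)) * (a * a)) := by
          rw [← mul_assoc b]
          congr 1
          have h2 := b_inv D (zpow_mem_zpowers c (-(l + 1)))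
          rw [zpow_neg, inv_inv] at h2
          rw [zpow_neg]
          exact (mul_inv_eq_iff_eq_mul.1 h2).symm
  · refine mem_sup_left ?_
    rw [D.com]
    have : (c ^ (-(l + 1)) * (a * a))⁻¹ * (a * a) = (a * a)⁻¹ * c ^ (l + 1) * ((a * a)⁻¹)⁻¹ := by
      rw [zpow_neg, mul_inv_rev, inv_inv, inv_inv]
    rw [this]
    exact c_conj D _ (zpow_mem_zpowers _ _)
  · exact mul_mem (mem_sup_left (D.com.symm ▸ zpow_mem_zpowers c _))
      (mem_sup_right (mul_mem (mem_zpowers a) (mem_zpowers a)))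

theorem Cen.mul_b {w : G} (W : Cen G a b w) : Cen G a b (w * b) := by
  refine ⟨W.comm.mul_left (Commute.refl b), ?_⟩
  rw [mul_inv_rev, mul_assoc]
  exact mul_mem (inv_mem (mem_sup_right (mem_zpowers b))) W.rep

theorem Cen.ne_one {w : G} (P : Pair G a b) (W : Cen G a b w) : w ≠ 1 := by
  rintro rfl
  exact P.notin (by simpa using W.rep)

/-- The centralizer of `b`. -/
theorem cent_b (D : Data G a b c z n) {w : G} (W : Cen G a b w) {g : G} (hg : Commute g b) :
    ∃ x, (x = 1 ∨ x = z ∨ x = b ∨ x = z * b) ∧ ∃ l : ℤ, g = x * w ^ l := by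
  set H := commutator G ⊔ zpowers b with hH
  haveI hHn : H.Normal := Subgroup.Normal.of_commutator_le G le_sup_left
  have htop : H ⊔ zpowers a = ⊤ := by
    rw [eq_top_iff, ← D.pair.gen, closure_le]
    rintro x (rfl | rfl)
    · exact mem_sup_right (mem_zpowers _)
    · exact mem_sup_left (mem_sup_right (mem_zpowers _))
  obtain ⟨x, hx, s, hs, rfl⟩ := mem_sup_of_normal_left.1 (htop ▸ mem_top g : g ∈ H ⊔ zpowers a)
  obtain ⟨k, rfl⟩ := mem_zpowers_iff.1 hs
  have hpow : ∀ l : ℤ, a ^ (2 * l) * (w ^ l)⁻¹ ∈ H := fun l => by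
    have e : ((w : G) : G ⧸ H) = ((a * a : G) : G ⧸ H) := QuotientGroup.eq.2 W.rep
    rw [← QuotientGroup.eq_one_iff, QuotientGroup.mk_mul, QuotientGroup.mk_inv,
      QuotientGroup.mk_zpow, QuotientGroup.mk_zpow, e, zpow_mul, zpow_two,
      ← QuotientGroup.mk_mul, mul_inv_cancel]
  rcases Int.even_or_odd k with ⟨l, rfl⟩ | ⟨l, rfl⟩
  · have hy : x * a ^ (l + l) * (w ^ l)⁻¹ ∈ H := by
      rw [mul_assoc, ← two_mul]; exact mul_mem hx (hpow l)
    refine ⟨_, D_cent D hy (hg.mul_left (W.comm.zpow_left l).inv_left), l, ?_⟩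
    group
  · exfalso
    set h := x * a ^ (2 * l) with hh
    have hg' : x * a ^ (2 * l + 1) = h * a := by rw [zpow_add_one, hh, mul_assoc]
    rw [hg'] at hg
    obtain ⟨y, hy, hyh⟩ : ∃ y ∈ H, h = y * w ^ l :=
      ⟨x * a ^ (2 * l) * (w ^ l)⁻¹, by rw [mul_assoc]; exact mul_mem hx (hpow l),
        by rw [hh]; group⟩
    obtain ⟨q, hq⟩ : ∃ q : ℤ, h * b * h⁻¹ = c ^ (2 * q) * b := by
      have h1 : h * b * h⁻¹ = y * b * y⁻¹ := by
        rw [hyh, mul_inv_rev, mul_assoc y, ((W.comm.zpow_left l)).eq]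
        group
      rw [h1]
      rcases mem_D D.pair.sq hy with ht | ⟨t, ht, rfl⟩
      · obtain ⟨q, rfl⟩ := mem_zpowers_iff.1 (D.com ▸ ht : y ∈ zpowers c)
        refine ⟨q, ?_⟩
        have hb : b * (c ^ q)⁻¹ = c ^ q * b := by
          have := b_inv D (inv_mem (zpow_mem_zpowers c q))
          rw [inv_inv] at this
          exact mul_inv_eq_iff_eq_mul.1 this
        rw [mul_assoc, hb, ← mul_assoc, ← zpow_add, two_mul]
      · obtain ⟨q, rfl⟩ := mem_zpowers_iff.1 (D.com ▸ ht : t ∈ zpowers c)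
        refine ⟨q, ?_⟩
        have hb : b * (c ^ q)⁻¹ = c ^ q * b := by
          have := b_inv D (inv_mem (zpow_mem_zpowers c q))
          rw [inv_inv] at this
          exact mul_inv_eq_iff_eq_mul.1 this
        calc c ^ q * b * b * (c ^ q * b)⁻¹ = c ^ q * (b * (c ^ q)⁻¹) := by group
          _ = c ^ (2 * q) * b := by rw [hb, ← mul_assoc, ← zpow_add, two_mul]
    have h2 : (h * c * h⁻¹) * c ^ (2 * q) = 1 := by
      have h3 : h * a * b * (h * a)⁻¹ = b := by rw [hg.eq, mul_inv_cancel_right]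
      have h4 : h * a * b * (h * a)⁻¹ = (h * c * h⁻¹) * (h * b * h⁻¹) := by
        have : h * a * b * (h * a)⁻¹ = h * (a * b * a⁻¹) * h⁻¹ := by group
        rw [this, D.hab]; group
      rw [h4, hq, ← mul_assoc] at h3
      exact mul_right_cancel (h3.trans (one_mul b).symm)
    obtain ⟨v, hv⟩ := mem_zpowers_iff.1 (c_conj D h⁻¹ (mem_zpowers c))
    have h5 : c ^ (1 + v * (2 * q)) = 1 := by
      calc c ^ (1 + v * (2 * q)) = c * (h⁻¹ * c * h⁻¹⁻¹) ^ (2 * q) := by
            rw [zpow_add, zpow_one, zpow_mul, hv]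
        _ = h⁻¹ * ((h * c * h⁻¹) * c ^ (2 * q)) * h := by rw [conj_zpow]; group
        _ = 1 := by rw [h2]; group
    rw [zpow_eq_one_iff D, pow_succ'] at h5
    have h6 := dvd_trans (Dvd.intro ((2 : ℤ) ^ n) rfl) h5
    rw [Int.dvd_add_left ⟨v * q, by ring⟩] at h6
    norm_num at h6

theorem exists_sqrt (D : Data G a b c z n) {w : G} (hw : w ∉ zpowers c) (hz : z ∈ zpowers w) :
    ∃ h ∈ zpowers w, h * h = z := by
  obtain ⟨l, rfl⟩ := mem_zpowers_iff.1 hz
  rcases Int.even_or_odd l with ⟨t, rfl⟩ | ⟨t, ht⟩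
  · exact ⟨w ^ t, zpow_mem_zpowers w t, by rw [← zpow_add]⟩
  · exfalso
    haveI : Fact (Nat.Prime 2) := ⟨Nat.prime_two⟩
    obtain ⟨p, hp⟩ := (IsPGroup.iff_orderOf.1 D.pair.pgroup) w
    have hcop : IsCoprime l ((2 : ℤ) ^ p) := IsCoprime.pow_right ⟨1, -t, by rw [ht]; ring⟩
    obtain ⟨x, y, hxy⟩ := hcop
    apply hw
    have h1 : w ^ (y * (2 : ℤ) ^ p) = 1 := by
      rw [← orderOf_dvd_iff_zpow_eq_one, hp]; push_cast; exact Dvd.intro_left y rfl
    have h2 : w = (w ^ l) ^ x := by
      calc w = w ^ (x * l + y * 2 ^ p) := by rw [hxy, zpow_one]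
        _ = _ := by rw [zpow_add, h1, mul_one, mul_comm x l, zpow_mul]
    rw [h2]
    exact zpow_mem (z_mem D) x

theorem mem_normalizer_of_le {H : Subgroup G} {g : G} (h : ∀ x ∈ H, g * x * g⁻¹ ∈ H) :
    g ∈ normalizer (H : Set G) :=
  mem_normalizer_fintype h

theorem conj_mem_closure {g : G} {s : Set G} {K : Subgroup G}
    (hs : ∀ x ∈ s, g * x * g⁻¹ ∈ K) : ∀ x ∈ closure s, g * x * g⁻¹ ∈ K := fun _ hx =>
  ((closure_le (K := K.comap (MulAut.conj g).toMonoidHom)).2 fun y hy => hs y hy) hx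

theorem b_ne (D : Data G a b c z n) : b ≠ 1 := fun h => b_not_c D (h ▸ one_mem _)

theorem z_mem_center (D : Data G a b c z n) : z ∈ center G :=
  mem_center_iff.2 fun g => z_commute D g

/-- The elements of order four of `⟨c⟩`. -/
theorem d_facts (D : Data G a b c z n) {d : G} (hdef : d = c ^ (2 ^ (n - 1))) (hn : n ≠ 0) :
    d ∈ zpowers c ∧ d * d = z ∧ ∀ x ∈ zpowers c, x * x = z → x = d ∨ x = d⁻¹ := by
  have hd : d ∈ zpowers c := hdef ▸ npow_mem_zpowers _ _
  have hdd : d * d = z := by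
    rw [D.hz, hdef, ← pow_add, ← mul_two, ← pow_succ]
    congr 2
    omega
  refine ⟨hd, hdd, fun x hx hxx => ?_⟩
  have hcomm : Commute x d := by
    obtain ⟨k, rfl⟩ := mem_zpowers_iff.1 hx
    rw [hdef]
    exact ((Commute.refl c).pow_right _).zpow_left k
  have h1 : (x * d⁻¹) * (x * d⁻¹) = 1 := by
    rw [hcomm.inv_right.symm.mul_mul_mul_comm, ← mul_inv_rev, hxx, hdd, mul_inv_cancel]
  rcases sq_one D (mul_mem hx (inv_mem hd)) h1 with h | h
  · exact Or.inl (mul_inv_eq_one.1 h)
  · right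
    rw [mul_inv_eq_iff_eq_mul.1 h, eq_comm, inv_eq_iff_mul_eq_one, ← mul_assoc,
      (z_commute D d).eq, mul_assoc, hdd, z_sq D]

theorem d_conj (D : Data G a b c z n) {d : G} (hd : d ∈ zpowers c) (hdd : d * d = z)
    (huniq : ∀ x ∈ zpowers c, x * x = z → x = d ∨ x = d⁻¹) (g : G) :
    g * d * g⁻¹ = d ∨ g * d * g⁻¹ = d⁻¹ :=
  huniq _ (c_conj D g hd) (by rw [conj_mul, hdd, z_central D g])

/-- Some `w` centralizing `b` commutes with `d`. -/
theorem cen_commute_d (D : Data G a b c z n) {d w : G} (hd : d ∈ zpowers c) (hdd : d * d = z)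
    (huniq : ∀ x ∈ zpowers c, x * x = z → x = d ∨ x = d⁻¹) (W : Cen G a b w) :
    ∃ w', Cen G a b w' ∧ Commute w' d ∧ (w' = w ∨ w' = w * b) := by
  rcases d_conj D hd hdd huniq w with h | h
  · exact ⟨w, W, mul_inv_eq_iff_eq_mul.1 h, Or.inl rfl⟩
  · refine ⟨w * b, W.mul_b, mul_inv_eq_iff_eq_mul.1 ?_, Or.inr rfl⟩
    have h1 : w * b * d * (w * b)⁻¹ = w * (b * d * b⁻¹) * w⁻¹ := by group
    rw [h1, b_inv D hd, ← conj_inv, h, inv_inv]

/-- The quaternion case. -/
theorem quat (D : Data G a b c z n) (hbb : b * b ≠ 1) :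
    ∃ i j τ : G, QuatData G i j τ ∧ i * i ∈ center G := by
  haveI : Fact (Nat.Prime 2) := ⟨Nat.prime_two⟩
  have hz : b * b = z := (bb_cases D).resolve_left hbb
  have hn : n ≠ 0 := by
    rintro rfl
    exact D.cnot (by rw [hz, D.hz, pow_zero, pow_one]; exact mem_zpowers c)
  obtain ⟨d, hdef⟩ : ∃ d, d = c ^ (2 ^ (n - 1)) := ⟨_, rfl⟩
  obtain ⟨hd, hdd, huniq⟩ := d_facts D hdef hn
  obtain ⟨w0, W0, -⟩ := cen_exists D
  obtain ⟨w, W, hwd, -⟩ := cen_commute_d D hd hdd huniq W0
  have hbd : b * d * b⁻¹ = d⁻¹ := b_inv D hd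
  have hd4 : d * d * (d * d) = 1 := by rw [hdd, z_sq D]
  have hbinv : b⁻¹ = z * b := by
    rw [← hz, inv_eq_iff_mul_eq_one, ← mul_assoc, ← mul_assoc]
    rw [mul_assoc, hz, z_sq D]
  have hdb : d * b * d⁻¹ = b⁻¹ := by
    have : b * d⁻¹ = d * b := by
      have := b_inv D (inv_mem hd); rw [inv_inv] at this
      exact mul_inv_eq_iff_eq_mul.1 this
    rw [mul_assoc, this, ← mul_assoc, hdd, hbinv]
  set j := d * b with hj
  have hjb : j * b * j⁻¹ = b⁻¹ := by rw [← hdb, hj]; group
  have hjj : j * j = b * b := by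
    calc j * j = d * (b * d * b⁻¹) * (b * b) := by rw [hj]; group
      _ = b * b := by rw [hbd, mul_inv_cancel, one_mul]
  set Q := closure ({b, j} : Set G) with hQ
  set C := quatCent b j with hC
  have hCmem : ∀ x, x ∈ C ↔ Commute x b ∧ Commute x d := by
    intro x
    rw [hC, quatCent, mem_centralizer_iff]
    constructor
    · intro h
      have h1 : Commute x b := (h b (Set.mem_insert _ _)).symm
      have h2 : Commute x j := (h j (Set.mem_insert_of_mem _ rfl)).symm
      have : d = j * b⁻¹ := by rw [hj]; group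
      exact ⟨h1, this ▸ h2.mul_right h1.inv_right⟩
    · rintro ⟨h1, h2⟩ g (rfl | rfl)
      · exact h1.symm
      · exact (h2.mul_right h1).symm
  have hwC : w ∈ C := (hCmem w).2 ⟨W.comm, hwd⟩
  have hzC : z ∈ C := (hCmem z).2 ⟨(z_commute D b).symm, (z_commute D d).symm⟩
  have hbQ : b ∈ Q := subset_closure (Set.mem_insert _ _)
  have hjQ : j ∈ Q := subset_closure (Set.mem_insert_of_mem _ rfl)
  have hdQ : d ∈ Q := by
    have : d = j * b⁻¹ := by rw [hj]; group
    rw [this]; exact mul_mem hjQ (inv_mem hbQ)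
  set P := quatProd b j with hP
  have hQP : Q ≤ P := le_sup_left
  have hCP : C ≤ P := le_sup_right
  have hzP : z ∈ P := hCP hzC
  have cbP : ∀ g, Commute g b → g ∈ P := by
    intro g hg
    obtain ⟨x, hx, l, rfl⟩ := cent_b D W hg
    refine mul_mem ?_ (zpow_mem (hCP hwC) l)
    rcases hx with rfl | rfl | rfl | rfl
    · exact one_mem _
    · exact hzP
    · exact hQP hbQ
    · exact mul_mem hzP (hQP hbQ)
  have hcent : C = zpowers (b * b) ⊔ zpowers w := by
    refine le_antisymm (fun g hg => ?_) (sup_le (zpowers_le.2 (hz ▸ hzC)) (zpowers_le.2 hwC))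
    obtain ⟨hgb, hgd⟩ := (hCmem g).1 hg
    obtain ⟨x, hx, l, rfl⟩ := cent_b D W hgb
    refine mul_mem (mem_sup_left ?_) (mem_sup_right (zpow_mem_zpowers w l))
    have hxd : Commute x d := by
      have := hgd.mul_left (hwd.zpow_left l).inv_left
      rwa [mul_inv_cancel_right] at this
    have hb : ¬ Commute b d := fun hc => by
      have h1 := hbd
      rw [hc.eq, mul_inv_cancel_right] at h1
      exact z_ne D (by rw [← hdd]; nth_rewrite 2 [h1]; exact mul_inv_cancel d)
    rw [hz]
    rcases hx with rfl | rfl | rfl | rfl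
    · exact one_mem _
    · exact mem_zpowers _
    · exact absurd hxd hb
    · exfalso
      refine hb ?_
      have := ((z_commute D d).symm.inv_left).mul_left hxd
      rwa [inv_mul_cancel_left] at this
  have hnb : normalizer ((zpowers b : Subgroup G) : Set G) = P := by
    refine le_antisymm (fun g hg => ?_) (sup_le ?_ ?_)
    · have h1 : g * b * g⁻¹ ∈ zpowers b := (mem_normalizer_iff.1 hg b).1 (mem_zpowers b)
      obtain ⟨x, hx, hxe⟩ := b_conj D g
      have h2 : x ∈ zpowers b := by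
        have := mul_mem h1 (inv_mem (mem_zpowers b))
        rwa [hxe, mul_inv_cancel_right] at this
      obtain ⟨k, hk⟩ := mem_zpowers_iff.1 h2
      rcases zpow_b_mem D (k := k) (hk.symm ▸ hx) with h | h
      · rw [hk] at h
        rw [h, one_mul] at hxe
        exact cbP g (mul_inv_eq_iff_eq_mul.1 hxe)
      · rw [hk] at h
        rw [h, ← hbinv] at hxe
        have h3 : Commute (j⁻¹ * g) b := mul_inv_eq_iff_eq_mul.1 <| by
          calc j⁻¹ * g * b * (j⁻¹ * g)⁻¹ = j⁻¹ * (g * b * g⁻¹) * j := by group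
            _ = j⁻¹ * (j * b * j⁻¹) * j := by rw [hxe, hjb]
            _ = b := by group
        have := mul_mem (hQP hjQ) (cbP _ h3)
        rwa [mul_inv_cancel_left] at this
    · refine (closure_le _).2 ?_
      rintro x (rfl | rfl)
      · exact le_normalizer (mem_zpowers _)
      · refine mem_normalizer_of_le fun y hy => ?_
        obtain ⟨k, rfl⟩ := mem_zpowers_iff.1 hy
        rw [← conj_zpow, hjb]
        exact zpow_mem (inv_mem (mem_zpowers b)) k
    · intro x hx
      refine mem_normalizer_of_le fun y hy => ?_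
      obtain ⟨k, rfl⟩ := mem_zpowers_iff.1 hy
      rw [((((hCmem x).1 hx).1).zpow_right k).eq, mul_inv_cancel_right]
      exact zpow_mem_zpowers b k
  -- the element exchanging `b` and `j`
  obtain ⟨τ, hτb, hτj, hτsq⟩ : ∃ τ, τ * b * τ⁻¹ = j ∧
      (τ * j * τ⁻¹ = b ∨ τ * j * τ⁻¹ = b⁻¹) ∧ τ * τ ∈ P := by
    rcases Nat.lt_or_ge n 2 with h0 | h0
    · have hn1 : n = 1 := by omega
      have hdc : d = c := by rw [hdef, hn1]; simp
      have hcP : c ∈ P := hdc ▸ hQP hdQ
      have haa : a * a ∈ P := by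
        rcases mem_D D.pair.sq W.rep with h | ⟨t, ht, h⟩
        · obtain ⟨k, hk⟩ := mem_zpowers_iff.1 (D.com ▸ h : _ ∈ zpowers c)
          have : a * a = w * c ^ k := by rw [hk]; group
          rw [this]; exact mul_mem (hCP hwC) (zpow_mem hcP k)
        · obtain ⟨k, rfl⟩ := mem_zpowers_iff.1 (D.com ▸ ht : t ∈ zpowers c)
          have : a * a = w * (c ^ k * b) := by rw [← h]; group
          rw [this]; exact mul_mem (hCP hwC) (mul_mem (zpow_mem hcP k) (hQP hbQ))
      refine ⟨a, by rw [D.hab, hj, hdc], ?_, haa⟩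
      have h1 : a * j * a⁻¹ = (a * d * a⁻¹) * (d * b) := by
        rw [← conj_mul (a := d), D.hab, hdc]
      rcases d_conj D hd hdd huniq a with h | h
      · right
        rw [h1, h, ← mul_assoc, hdd, hbinv]
      · left
        rw [h1, h, inv_mul_cancel_left]
    · obtain ⟨t, htdef⟩ : ∃ t, t = c ^ (2 ^ (n - 2)) := ⟨_, rfl⟩
      have htt : t * t = d := by
        rw [htdef, hdef, ← pow_add, ← mul_two, ← pow_succ]
        congr 2
        omega
      have htb : b * t⁻¹ = t * b := by
        have := b_inv D (inv_mem (htdef ▸ npow_mem_zpowers c _ : t ∈ zpowers c))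
        rw [inv_inv] at this
        exact mul_inv_eq_iff_eq_mul.1 this
      refine ⟨t, ?_, Or.inr ?_, htt ▸ hQP hdQ⟩
      · rw [mul_assoc, htb, ← mul_assoc, htt]
      · have hcomm : t * d = d * t := by rw [← htt, mul_assoc]
        calc t * (d * b) * t⁻¹ = (t * d) * (b * t⁻¹) := by group
          _ = d * (t * t) * b := by rw [hcomm, htb]; group
          _ = b⁻¹ := by rw [htt, hdd, hbinv]
  refine ⟨b, j, τ, ⟨?_, hjj, hjb, ⟨w, hwC, hcent⟩, hnb, hτb, hτj, hτsq, ?_⟩, hz ▸ z_mem_center D⟩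
  · have h4 : b ^ 4 = 1 := by
      rw [show (4 : ℕ) = 2 * 2 from rfl, pow_mul, pow_two b, hz, pow_two, z_sq D]
    exact orderOf_eq_prime_pow (p := 2) (n := 1) (by rw [pow_one, pow_two]; exact hbb) h4
  · have hτP : ∀ x ∈ P, τ * x * τ⁻¹ ∈ P := by
      have hτQ : ∀ x ∈ Q, τ * x * τ⁻¹ ∈ P := conj_mem_closure <| by
        rintro x (rfl | rfl)
        · rw [hτb]; exact hQP hjQ
        · rcases hτj with h | h <;> rw [h]
          · exact hQP hbQ
          · exact inv_mem (hQP hbQ)
      have hτC : ∀ x ∈ C, τ * x * τ⁻¹ ∈ P := by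
        intro x hx
        refine hCP ?_
        rw [hC, quatCent, mem_centralizer_iff] at hx ⊢
        have hconj : ∀ g, Commute x g → Commute (τ * x * τ⁻¹) (τ * g * τ⁻¹) := fun g h => by
          show _ * _ = _ * _
          rw [conj_mul, conj_mul, h.eq]
        have hb := hconj b (hx b (Set.mem_insert _ _)).symm
        have hj' := hconj j (hx j (Set.mem_insert_of_mem _ rfl)).symm
        rw [hτb] at hb
        rintro g (rfl | rfl)
        · rcases hτj with h | h <;> rw [h] at hj'
          · exact hj'.symm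
          · exact (inv_inv g ▸ hj'.inv_right).symm
        · exact hb.symm
      exact fun x hx => (sup_le (c := P.comap (MulAut.conj τ).toMonoidHom) hτQ hτC) hx
    refine le_antisymm (fun g hg => ?_)
      (sup_le le_normalizer (zpowers_le.2 (mem_normalizer_of_le hτP)))
    have h1 : g * b * g⁻¹ ∈ P := (mem_normalizer_iff.1 hg b).1 (hQP hbQ)
    obtain ⟨x, hx, hxe⟩ := b_conj D g
    rw [hxe, ← hnb] at h1
    have h2 : x * b * b * (x * b)⁻¹ ∈ zpowers b := (mem_normalizer_iff.1 h1 b).1 (mem_zpowers b)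
    have h3 : x * b * b * (x * b)⁻¹ = x * x * b := by
      have := b_inv D (inv_mem hx)
      rw [inv_inv] at this
      calc x * b * b * (x * b)⁻¹ = x * (b * x⁻¹ * b⁻¹) * b := by group
        _ = x * x * b := by rw [this]
    rw [h3] at h2
    have h4 : x * x ∈ zpowers b := by
      have := mul_mem h2 (inv_mem (mem_zpowers b))
      rwa [mul_inv_cancel_right] at this
    obtain ⟨k, hk⟩ := mem_zpowers_iff.1 h4
    have hcases : x * x = 1 ∨ x * x = z :=
      hk ▸ zpow_b_mem D (k := k) (hk.symm ▸ mul_mem hx hx)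
    have hgP : g * b * g⁻¹ ∈ zpowers b → g ∈ P ⊔ zpowers τ := fun hm => by
      refine mem_sup_left (hnb ▸ mem_normalizer_of_le fun y hy => ?_)
      obtain ⟨k, rfl⟩ := mem_zpowers_iff.1 hy
      rw [← conj_zpow]; exact zpow_mem hm k
    have hgτ : τ * (g * b * g⁻¹) * τ⁻¹ ∈ zpowers b → g ∈ P ⊔ zpowers τ := fun hm => by
      have h5 : τ * g ∈ P := hnb ▸ mem_normalizer_of_le fun y hy => by
        obtain ⟨k, rfl⟩ := mem_zpowers_iff.1 hy
        rw [← conj_zpow, show τ * g * b * (τ * g)⁻¹ = τ * (g * b * g⁻¹) * τ⁻¹ by group]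
        exact zpow_mem hm k
      have := mul_mem (inv_mem (mem_sup_right (mem_zpowers τ) : τ ∈ P ⊔ zpowers τ))
        (mem_sup_left h5 : τ * g ∈ P ⊔ zpowers τ)
      rwa [inv_mul_cancel_left] at this
    rw [hxe] at hgP hgτ
    rcases hcases with h | h
    · apply hgP
      rcases sq_one D hx h with e | e <;> rw [e]
      · rw [one_mul]; exact mem_zpowers b
      · rw [← hbinv]; exact inv_mem (mem_zpowers b)
    · apply hgτ
      have hjm : τ * j * τ⁻¹ ∈ zpowers b := by
        rcases hτj with h' | h' <;> rw [h']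
        · exact mem_zpowers b
        · exact inv_mem (mem_zpowers b)
      rcases huniq x hx h with e | e <;> rw [e]
      · exact hjm
      · have e2 : d⁻¹ * b = j⁻¹ := by
          rw [hj, mul_inv_rev, hbinv]
          have := b_inv D (inv_mem hd)
          rw [inv_inv] at this
          rw [mul_assoc, mul_inv_eq_iff_eq_mul.1 this, ← mul_assoc]
          congr 1
          rw [inv_eq_iff_mul_eq_one, ← hdd, show d * (d * d * d) = d * d * (d * d) by group, hd4]
        rw [e2, ← conj_inv]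
        exact inv_mem hjm

/-- The four-group case, for a `w` missing `⟨b, z⟩` and a `τ` centralizing it. -/
theorem four_of (D : Data G a b c z n) (hbb : b * b = 1) {w τ : G} (W : Cen G a b w)
    (hdisj : ∀ l : ℤ, (w ^ l = 1 ∨ w ^ l = z ∨ w ^ l = b ∨ w ^ l = z * b) → w ^ l = 1)
    (hτb : τ * b * τ⁻¹ = b * z) (hτw : Commute τ w)
    (hτsq : τ * τ ∈ closure ({b, z} : Set G) ⊔ zpowers w) :
    FourData G b z τ (zpowers w) := by
  set E := closure ({b, z} : Set G) with hE
  set P := E ⊔ zpowers w with hP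
  have hbE : b ∈ E := subset_closure (Set.mem_insert _ _)
  have hzE : z ∈ E := subset_closure (Set.mem_insert_of_mem _ rfl)
  have hbD : b ∈ commutator G ⊔ zpowers b := mem_sup_right (mem_zpowers b)
  have hzD : z ∈ commutator G ⊔ zpowers b := mem_sup_left (D.com.symm ▸ z_mem D)
  have hEb : E ≤ centralizer ({b} : Set G) := by
    refine (closure_le _).2 ?_
    rintro x (rfl | rfl) <;> rw [SetLike.mem_coe, mem_centralizer_singleton_iff]
    exact ((z_commute D b).symm).eq
  have hPb : P = centralizer ({b} : Set G) := by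
    refine le_antisymm (sup_le hEb (zpowers_le.2 (mem_centralizer_singleton_iff.2 W.comm.eq)))
      (fun g hg => ?_)
    obtain ⟨x, hx, l, rfl⟩ := cent_b D W (mem_centralizer_singleton_iff.1 hg)
    refine mul_mem (mem_sup_left ?_) (mem_sup_right (zpow_mem_zpowers w l))
    rcases hx with rfl | rfl | rfl | rfl
    · exact one_mem _
    · exact hzE
    · exact hbE
    · exact mul_mem hzE hbE
  have hab : ∀ p ∈ P, ∀ q ∈ P, Commute p q := by
    have h1 : ∀ y ∈ ({b, z, w} : Set G), P ≤ centralizer ({y} : Set G) := by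
      intro y hy
      refine sup_le ((closure_le _).2 ?_) (zpowers_le.2 ?_)
      · rintro x (rfl | rfl) <;> rw [SetLike.mem_coe, mem_centralizer_singleton_iff] <;>
          rcases hy with rfl | rfl | rfl <;>
          first
            | rfl
            | exact (z_commute D _).eq
            | exact (z_commute D _).eq.symm
            | exact W.comm.eq.symm
      · rw [mem_centralizer_singleton_iff]
        rcases hy with rfl | rfl | rfl
        · exact W.comm.eq
        · exact (z_commute D _).eq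
        · rfl
    intro p hp q hq
    have h2 : P ≤ centralizer ({p} : Set G) := by
      refine sup_le ((closure_le _).2 ?_) (zpowers_le.2 ?_)
      · intro x hx
        rw [SetLike.mem_coe, mem_centralizer_singleton_iff]
        refine (mem_centralizer_singleton_iff.1 (h1 x ?_ hp)).symm
        rcases hx with rfl | rfl <;> simp
      · rw [mem_centralizer_singleton_iff]
        exact (mem_centralizer_singleton_iff.1 (h1 w (by simp) hp)).symm
    exact (mem_centralizer_singleton_iff.1 (h2 hq)).symm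
  have hτz : τ * z * τ⁻¹ = z := z_central D τ
  have hτP : ∀ x ∈ P, τ * x * τ⁻¹ ∈ P := by
    intro x hx
    refine (sup_le (c := P.comap (MulAut.conj τ).toMonoidHom) ?_ ?_) hx
    · refine (conj_mem_closure (K := P) ?_)
      rintro y (rfl | rfl)
      · rw [hτb]; exact mem_sup_left (mul_mem hbE hzE)
      · rw [hτz]; exact mem_sup_left hzE
    · intro y hy
      obtain ⟨k, rfl⟩ := mem_zpowers_iff.1 hy
      show τ * w ^ k * τ⁻¹ ∈ P
      rw [(hτw.zpow_right k).eq, mul_inv_cancel_right]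
      exact mem_sup_right (zpow_mem_zpowers w k)
  refine ⟨hbb, z_sq D, b_ne D, z_ne D, fun h => b_not_c D (h ▸ z_mem D), z_commute D b,
    inferInstance, ?_, hPb.symm, hab, hτz, hτb, ?_, hτsq, ?_⟩
  · rw [eq_bot_iff]
    intro x hx
    obtain ⟨l, rfl⟩ := mem_zpowers_iff.1 hx.2
    refine mem_bot.2 (hdisj l (D_cent D ?_ (mem_centralizer_singleton_iff.1 (hEb hx.1))))
    refine (closure_le _).2 ?_ hx.1
    rintro y (rfl | rfl)
    · exact hbD
    · exact hzD
  · refine mem_normalizer_of_le fun y hy => ?_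
    obtain ⟨k, rfl⟩ := mem_zpowers_iff.1 hy
    rw [(hτw.zpow_right k).eq, mul_inv_cancel_right]
    exact zpow_mem_zpowers w k
  · refine le_antisymm (fun g hg => ?_)
      (sup_le le_normalizer (zpowers_le.2 (mem_normalizer_of_le hτP)))
    have h1 : g * b * g⁻¹ ∈ P := (mem_normalizer_iff.1 hg b).1 (mem_sup_left hbE)
    obtain ⟨x, hx, hxe⟩ := b_conj D g
    rw [hPb, hxe, mem_centralizer_singleton_iff] at h1
    have hxD : x * b ∈ commutator G ⊔ zpowers b := mul_mem (mem_sup_left (D.com.symm ▸ hx)) hbD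
    rcases D_cent D hxD h1 with h | h | h | h
    · exfalso
      apply b_not_c D
      rw [eq_inv_of_mul_eq_one_right h]
      exact inv_mem hx
    · exfalso
      apply b_not_c D
      rw [eq_inv_mul_of_mul_eq h]
      exact mul_mem (inv_mem hx) (z_mem D)
    · rw [h] at hxe
      refine mem_sup_left ?_
      show g ∈ P
      rw [hPb, mem_centralizer_singleton_iff]
      exact mul_inv_eq_iff_eq_mul.1 hxe
    · rw [h, ← (z_commute D b).eq] at hxe
      have h2 : τ⁻¹ * g ∈ P := by
        rw [hPb, mem_centralizer_singleton_iff]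
        refine mul_inv_eq_iff_eq_mul.1 ?_
        calc τ⁻¹ * g * b * (τ⁻¹ * g)⁻¹ = τ⁻¹ * (g * b * g⁻¹) * τ := by group
          _ = τ⁻¹ * (τ * b * τ⁻¹) * τ := by rw [hxe, hτb]
          _ = b := by group
      have := mul_mem (mem_sup_right (mem_zpowers τ) : τ ∈ P ⊔ zpowers τ)
        (mem_sup_left h2 : τ⁻¹ * g ∈ P ⊔ zpowers τ)
      rwa [mul_inv_cancel_left] at this

/-- If `b² = 1`: a four-group datum, or a better second generator. -/
theorem four (D : Data G a b c z n) (hbb : b * b = 1) :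
    (∃ (e z τ : G) (C : Subgroup G), FourData G e z τ C) ∨
      ∃ b' : G, Pair G a b' ∧ b' * b' ≠ 1 := by
  haveI : Fact (Nat.Prime 2) := ⟨Nat.prime_two⟩
  obtain ⟨w, W, hwN⟩ := cen_exists D
  set N := commutator G ⊔ zpowers a with hN
  have hzN : z ∈ N := mem_sup_left (D.com.symm ▸ z_mem D)
  have hwc : w ∉ zpowers c := fun h => D.pair.notin <| by
    have := mul_mem (mem_sup_left (D.com.symm ▸ h : w ∈ commutator G) :
      w ∈ commutator G ⊔ zpowers b) W.rep
    rwa [mul_inv_cancel_left] at this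
  by_cases hzw : z ∈ zpowers w
  · right
    obtain ⟨h, hh, hh2⟩ := exists_sqrt D hwc hzw
    obtain ⟨k, hk⟩ := mem_zpowers_iff.1 hh
    have hhb : Commute h b := hk ▸ W.comm.zpow_left k
    have hhN : h ∈ N := hk ▸ zpow_mem hwN k
    have hsq : (b * h) * (b * h) = z := by
      rw [hhb.mul_mul_mul_comm, hbb, one_mul, hh2]
    refine ⟨b * h, ⟨D.pair.pgroup, D.pair.not_meta, D.pair.cyc, ?_, ?_, ?_⟩, hsq ▸ z_ne D⟩
    · refine eq_top_of_sup_commutator D.pair.pgroup ?_
      set K := closure ({a, b * h} : Set G) ⊔ commutator G with hK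
      have haK : a ∈ K := mem_sup_left (subset_closure (Set.mem_insert _ _))
      have hbhK : b * h ∈ K := mem_sup_left (subset_closure (Set.mem_insert_of_mem _ rfl))
      have hhK : h ∈ K := (sup_le le_sup_right (zpowers_le.2 haK) : N ≤ K) hhN
      rw [eq_top_iff, ← D.pair.gen, closure_le]
      rintro x (rfl | rfl)
      · exact haK
      · have := mul_mem hbhK (inv_mem hhK)
        rwa [mul_inv_cancel_right] at this
    · rw [hsq, D.com]; exact z_mem D
    · intro hmem
      have hy : (b * h) * (b * h) ∈ commutator G := by rw [hsq, D.com]; exact z_mem D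
      rcases mem_D hy hmem with h1 | ⟨t, ht, h1⟩
      · exact D.pair.notin (mem_sup_left h1)
      · apply D.bnotN
        have : b = t⁻¹ * (a * a) * h⁻¹ := by rw [h1]; group
        rw [this]
        exact mul_mem (mul_mem (mem_sup_left (inv_mem ht))
          (mem_sup_right (mul_mem (mem_zpowers a) (mem_zpowers a)))) (inv_mem hhN)
  · left
    have hdisj : ∀ l : ℤ, (w ^ l = 1 ∨ w ^ l = z ∨ w ^ l = b ∨ w ^ l = z * b) → w ^ l = 1 := by
      intro l hl
      rcases hl with h | h | h | h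
      · exact h
      · exact absurd (h ▸ zpow_mem_zpowers w l) hzw
      · exact absurd (h ▸ zpow_mem hwN l) D.bnotN
      · refine absurd ?_ D.bnotN
        have := mul_mem (inv_mem hzN) (h ▸ zpow_mem hwN l : z * b ∈ N)
        rwa [inv_mul_cancel_left] at this
    rcases Nat.eq_zero_or_pos n with hn | hn
    · have hzc : z = c := by rw [D.hz, hn, pow_zero, pow_one]
      have hca : ∀ g, Commute g c := fun g => hzc ▸ z_commute D g
      have haw : Commute a w := by
        have : N ≤ centralizer ({a} : Set G) := by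
          refine sup_le ?_ (zpowers_le.2 (mem_centralizer_singleton_iff.2 rfl))
          rw [D.com, zpowers_le, mem_centralizer_singleton_iff]
          exact (hca a).eq.symm
        exact (mem_centralizer_singleton_iff.1 (this hwN)).symm
      refine ⟨b, z, a, zpowers w, four_of D hbb W hdisj ?_ haw ?_⟩
      · rw [D.hab, ← hzc, (z_commute D b).eq]
      · have hcz : ∀ k : ℤ, c ^ k ∈ closure ({b, z} : Set G) := fun k =>
          zpow_mem (hzc ▸ subset_closure (Set.mem_insert_of_mem _ rfl)) k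
        rcases mem_D D.pair.sq W.rep with h | ⟨t, ht, h⟩
        · obtain ⟨k, hk⟩ := mem_zpowers_iff.1 (D.com ▸ h : _ ∈ zpowers c)
          have : a * a = w * c ^ k := by rw [hk]; group
          rw [this]
          exact mul_mem (mem_sup_right (mem_zpowers w)) (mem_sup_left (hcz k))
        · obtain ⟨k, rfl⟩ := mem_zpowers_iff.1 (D.com ▸ ht : t ∈ zpowers c)
          have : a * a = w * (c ^ k * b) := by rw [← h]; group
          rw [this]
          exact mul_mem (mem_sup_right (mem_zpowers w))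
            (mem_sup_left (mul_mem (hcz k) (subset_closure (Set.mem_insert _ _))))
    · obtain ⟨d, hdef⟩ : ∃ d, d = c ^ (2 ^ (n - 1)) := ⟨_, rfl⟩
      obtain ⟨hd, hdd, huniq⟩ := d_facts D hdef hn.ne'
      have hdb : d * b * d⁻¹ = b * z := by
        have := b_inv D (inv_mem hd)
        rw [inv_inv] at this
        rw [mul_assoc, mul_inv_eq_iff_eq_mul.1 this, ← mul_assoc, hdd, (z_commute D b).eq]
      obtain ⟨w', W', hwd, hw'⟩ := cen_commute_d D hd hdd huniq W
      have hdisj' : ∀ l : ℤ, (w' ^ l = 1 ∨ w' ^ l = z ∨ w' ^ l = b ∨ w' ^ l = z * b) →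
          w' ^ l = 1 := by
        rcases hw' with rfl | rfl
        · exact hdisj
        · intro l hl
          rw [W.comm.mul_zpow] at hl ⊢
          rcases Int.even_or_odd l with ⟨t, rfl⟩ | ⟨t, rfl⟩
          · have e : b ^ (t + t) = 1 := by rw [← two_mul, zpow_mul, zpow_two, hbb, one_zpow]
            rw [e, mul_one] at hl ⊢
            exact hdisj _ hl
          · exfalso
            have e : b ^ (2 * t + 1) = b := by
              rw [zpow_add, zpow_mul, zpow_two, hbb, one_zpow, one_mul, zpow_one]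
            rw [e] at hl
            have h1 : w ^ (2 * t + 1) = 1 ∨ w ^ (2 * t + 1) = z ∨ w ^ (2 * t + 1) = b ∨
                w ^ (2 * t + 1) = z * b := by
              rcases hl with h | h | h | h
              · refine Or.inr (Or.inr (Or.inl ?_))
                rw [eq_inv_of_mul_eq_one_left h, inv_eq_iff_mul_eq_one, hbb]
              · refine Or.inr (Or.inr (Or.inr ?_))
                rw [eq_mul_inv_of_mul_eq h, inv_eq_of_mul_eq_one_right hbb]
              · exact Or.inl (mul_eq_right.1 h)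
              · exact Or.inr (Or.inl (mul_right_cancel h))
            have h2 := orderOf_dvd_iff_zpow_eq_one.2 (hdisj _ h1)
            obtain ⟨p, hp⟩ := (IsPGroup.iff_orderOf.1 D.pair.pgroup) w
            rcases Nat.eq_zero_or_eq_succ_pred p with h3 | h3
            · exact Cen.ne_one D.pair W (orderOf_eq_one_iff.1 (by rw [hp, h3, pow_zero]))
            · rw [hp, h3, pow_succ'] at h2
              push_cast at h2
              have h4 := dvd_trans (Dvd.intro ((2 : ℤ) ^ p.pred) rfl) h2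
              omega
      exact ⟨b, z, d, zpowers w', four_of D hbb W' hdisj' hdb hwd.symm
        (hdd.symm ▸ mem_sup_left (subset_closure (Set.mem_insert_of_mem _ rfl)))⟩

end Pivot

/-- Piece 4. -/
theorem stmtPivot : StmtPivot.{u} := by
  intro G _ _ M hS hcyc
  obtain ⟨a, b, hgen, hsq, hnot⟩ := hS.gens
  have P : Pivot.Pair G a b := ⟨hS.pgroup, hS.not_meta, hcyc, hgen, hsq, hnot⟩
  obtain ⟨c, z, n, D⟩ := Pivot.data_exists P
  by_cases hbb : b * b = 1
  · rcases Pivot.four D hbb with h | ⟨b', P', hb'⟩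
    · exact Or.inl h
    · obtain ⟨c', z', n', D'⟩ := Pivot.data_exists P'
      exact Or.inr (Pivot.quat D' hb')
  · exact Or.inr (Pivot.quat D hbb)

end CfsgLib.Bicyclic
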