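import Mathlib
import Cfsg.Agent.Lib.Bicyclic.EssDefs
import Cfsg.Agent.Lib.Bicyclic.EssBasic
import Cfsg.Agent.Lib.Bicyclic.Pivot
import Cfsg.Agent.Lib.PGroups.MaximalClassTwo

/-!
# S5217, piece 3: a 2-group generated by the displacements of an automorphism of order three, with a
metacyclic subgroup of index at most two, is metacyclic
-/

set_option autoImplicit false
set_option linter.style.haveILetI false

namespace CfsgLib.Bicyclic

open Cfsg Subgroup CfsgLib.PGroups
open scoped commutatorElement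

universe u

namespace QStruct

variable {X : Type u} [Group X]

theorem commutator_le_of_gen {u v : X} (gen : closure {u, v} = ⊤) (N : Subgroup X) [N.Normal]
    (h : ⁅u, v⁆ ∈ N) : commutator X ≤ N := by
  let π := QuotientGroup.mk' N
  have hab : Commute (π u) (π v) := by
    rw [← commutatorElement_eq_one_iff_commute, ← map_commutatorElement]
    exact (QuotientGroup.eq_one_iff _).2 h
  have key : ∀ q : X ⧸ N, Commute q (π u) → Commute q (π v) → ∀ g, Commute q (π g) := by
    intro q h1 h2 g
    have hg : g ∈ (centralizer ({q} : Set (X ⧸ N))).comap π := by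
      refine (closure_le _).2 ?_ (gen ▸ mem_top g : g ∈ closure {u, v})
      rintro x (rfl | rfl) <;> rw [SetLike.mem_coe, mem_comap, mem_centralizer_singleton_iff]
      · exact h1.symm.eq
      · exact h2.symm.eq
    rw [mem_comap, mem_centralizer_singleton_iff] at hg
    exact hg.symm
  have hA := key _ (Commute.refl _) hab
  have hB := key _ hab.symm (Commute.refl _)
  rw [_root_.commutator_def, commutator_le]
  intro g _ g' _
  rw [← QuotientGroup.eq_one_iff, ← QuotientGroup.mk'_apply, map_commutatorElement,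
    commutatorElement_eq_one_iff_commute]
  exact key _ (hA g).symm (hB g).symm g'

theorem meta_of_comm_pair {a b : X} (hc : ∀ x y : X, x * y = y * x) (gen : closure {a, b} = ⊤) :
    IsMetacyclic X := by
  haveI : (zpowers a).Normal := ⟨fun x hx g => by rwa [hc g, mul_inv_cancel_right]⟩
  refine Pivot.meta_of_cyclic_sup (zpowers a) inferInstance b ?_
  rw [eq_top_iff, ← gen, closure_le]
  rintro x (rfl | rfl)
  · exact mem_sup_left (mem_zpowers _)
  · exact mem_sup_right (mem_zpowers _)

theorem bool_inj {A B : X} (hA : A ≠ 1) (hB : B ≠ 1) (hAB : A ≠ B) (h1 : A * B ≠ 1)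
    {i j i' j' : Bool}
    (h : (if i then A else 1) * (if j then B else 1) =
      (if i' then A else 1) * (if j' then B else 1)) : i = i' ∧ j = j' := by
  revert h
  cases i <;> cases i' <;> cases j <;> cases j' <;>
    simp [hA, hB, hAB, hA.symm, hB.symm, hAB.symm, h1, h1.symm]

variable [Finite X]

/-- the Frattini quotient has order 4, or `X` is trivial -/
theorem two_gen (h2 : IsPGroup 2 X) (β : MulAut X) (hβ : β ^ 3 = 1)
    (hgen : closure (Set.range fun x : X => x⁻¹ * β x) = ⊤) (hidx : (frattini X).index ≤ 8) :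
    IsMetacyclic X ∨ ∃ a : X, closure {a, β a} = ⊤ ∧ a⁻¹ * β a ∉ frattini X := by
  haveI : Fact (Nat.Prime 2) := ⟨Nat.prime_two⟩
  haveI : Fact (Nat.Prime 3) := ⟨Nat.prime_three⟩
  set F := frattini X with hF
  have hsq : ∀ v : X ⧸ F, v * v = 1 := fun v => by
    induction v using QuotientGroup.induction_on with
    | H x =>
      rw [← QuotientGroup.mk_mul, ← pow_two]
      exact (QuotientGroup.eq_one_iff _).2 (pow_mem_frattini h2 x)
  have hinv : ∀ v : X ⧸ F, v⁻¹ = v := fun v => inv_eq_of_mul_eq_one_right (hsq v)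
  have hc : ∀ v w : X ⧸ F, v * w = w * v := fun v w => by
    calc v * w = (v * w)⁻¹ := (hinv _).symm
      _ = w * v := by rw [mul_inv_rev, hinv, hinv]
  let γ := MetacyclicTwoAut.quotAut F β
  let ψ : (X ⧸ F) →* (X ⧸ F) :=
    { toFun := fun y => y⁻¹ * γ y
      map_one' := by simp
      map_mul' := fun y z => by
        show (y * z)⁻¹ * γ (y * z) = y⁻¹ * γ y * (z⁻¹ * γ z)
        rw [map_mul, mul_inv_rev]
        calc z⁻¹ * y⁻¹ * (γ y * γ z) = z⁻¹ * (y⁻¹ * γ y) * γ z := by group
          _ = y⁻¹ * γ y * (z⁻¹ * γ z) := by rw [hc z⁻¹]; group }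
  have hs : Function.Surjective ψ := by
    refine MonoidHom.range_eq_top.1 (eq_top_iff.2 fun q _ => ?_)
    induction q using QuotientGroup.induction_on with
    | H x =>
      have hx : x ∈ (ψ.range).comap (QuotientGroup.mk' F) := by
        refine (closure_le _).2 ?_ (hgen ▸ mem_top x : x ∈ Subgroup.closure _)
        rintro _ ⟨y, rfl⟩
        refine ⟨(y : X ⧸ F), ?_⟩
        show (y : X ⧸ F)⁻¹ * γ (y : X ⧸ F) = ((y⁻¹ * β y : X) : X ⧸ F)
        rw [MetacyclicTwoAut.quotAut_mk, ← QuotientGroup.mk_inv, ← QuotientGroup.mk_mul]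
      exact hx
  have hinj := Finite.injective_iff_surjective.2 hs
  have hfree : ∀ v, γ v = v → v = 1 := fun v hv => hinj (by
    show v⁻¹ * γ v = (1 : X ⧸ F)⁻¹ * γ 1
    rw [hv]; simp)
  have hγ : γ ^ 3 = 1 := by
    ext q
    induction q using QuotientGroup.induction_on with
    | H x => rw [MetacyclicTwoAut.quotAut_pow, hβ]; rfl
  have hP : IsPGroup 3 (zpowers γ) := by
    rintro ⟨x, hx⟩
    obtain ⟨k, rfl⟩ := mem_zpowers_iff.1 hx
    refine ⟨1, Subtype.ext ?_⟩
    show (γ ^ k) ^ 3 ^ 1 = 1
    rw [pow_one, ← zpow_natCast, ← zpow_mul, mul_comm, zpow_mul, zpow_natCast, hγ, one_zpow]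
  have hmod := hP.card_modEq_card_fixedPoints (X ⧸ F)
  have hfix : MulAction.fixedPoints (zpowers γ) (X ⧸ F) = {1} := by
    ext q
    refine ⟨fun h => hfree q (h ⟨γ, mem_zpowers γ⟩), ?_⟩
    rintro rfl g
    exact map_one g.1
  rw [hfix, ← index_eq_card, Nat.card_coe_set_eq, Set.ncard_singleton] at hmod
  obtain ⟨k, hk⟩ := (h2.to_quotient F).exists_card_eq
  rw [← index_eq_card] at hk
  have hk3 : k ≤ 3 := (Nat.pow_le_pow_iff_right one_lt_two).1 (hk ▸ hidx : 2 ^ k ≤ 2 ^ 3)
  unfold Nat.ModEq at hmod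
  rcases (show F.index = 1 ∨ F.index = 4 by
    interval_cases k <;> omega) with h1 | h4
  · left
    have hbot : (⊥ : Subgroup X) = ⊤ := frattini_nongenerating (by
      rw [bot_sup_eq]; exact index_eq_one.1 h1)
    exact Pivot.meta_of_cyclic_sup ⊥ inferInstance (1 : X) (by rw [hbot, top_sup_eq])
  · right
    have hne : F ≠ ⊤ := fun h => by rw [h, index_top] at h4; omega
    obtain ⟨a, ha⟩ : ∃ a, a ∉ F := by
      by_contra hcon
      exact hne (eq_top_iff.2 fun x _ => not_not.1 fun hx => hcon ⟨x, hx⟩)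
    have hd : a⁻¹ * β a ∉ F := fun h => ha <| (QuotientGroup.eq_one_iff a).1 <| hfree _ <| by
      rw [MetacyclicTwoAut.quotAut_mk]
      exact (QuotientGroup.eq.2 h).symm
    refine ⟨a, ?_, hd⟩
    set H := closure ({a, β a} : Set X) with hH
    set I := H.map (QuotientGroup.mk' F) with hI
    have haI : (a : X ⧸ F) ∈ I := ⟨a, subset_closure (Set.mem_insert _ _), rfl⟩
    have hbI : ((β a : X) : X ⧸ F) ∈ I :=
      ⟨β a, subset_closure (Set.mem_insert_of_mem _ rfl), rfl⟩
    have hab : (a : X ⧸ F) ≠ ((β a : X) : X ⧸ F) := fun h => hd (QuotientGroup.eq.1 h)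
    have ha1 : (a : X ⧸ F) ≠ 1 := fun h => ha ((QuotientGroup.eq_one_iff a).1 h)
    have hb1 : ((β a : X) : X ⧸ F) ≠ 1 := fun h => by
      rw [← MetacyclicTwoAut.quotAut_mk, EmbeddingLike.map_eq_one_iff] at h
      exact ha1 h
    have hcard3 : 3 ≤ Nat.card I := by
      have h3 : ({1, (a : X ⧸ F), ((β a : X) : X ⧸ F)} : Set (X ⧸ F)).ncard = 3 :=
        Set.ncard_eq_three.2 ⟨_, _, _, ha1.symm, hb1.symm, hab, rfl⟩
      rw [← h3]
      refine Set.ncard_le_ncard ?_ (Set.toFinite _)
      rintro x (rfl | rfl | rfl)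
      exacts [one_mem I, haI, hbI]
    have hdvd : Nat.card I ∣ 4 := h4 ▸ index_eq_card F ▸ card_subgroup_dvd_card I
    have hI4 : Nat.card I = 4 := by
      have := Nat.le_of_dvd (by norm_num) hdvd
      obtain ⟨q, hq⟩ := hdvd
      interval_cases h : Nat.card I <;> omega
    have hItop : I = ⊤ := eq_top_of_card_eq I (by rw [hI4, ← index_eq_card, h4])
    refine frattini_nongenerating (eq_top_iff.2 fun x _ => ?_)
    obtain ⟨y, hy, hyx⟩ := (hItop ▸ mem_top (x : X ⧸ F) : (x : X ⧸ F) ∈ I)
    have := mul_mem (mem_sup_left hy : y ∈ H ⊔ F) (mem_sup_right (QuotientGroup.eq.1 hyx))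
    rwa [mul_inv_cancel_left] at this

end QStruct

set_option maxHeartbeats 800000 in
open QStruct in
/-- The commutator part of an essential subgroup is metacyclic. -/
theorem stmtQStruct : StmtQStruct.{u} := by
  intro X _ _ h2 β hβ hβ1 hgen hidx Y hY hYm
  haveI : Fact (Nat.Prime 2) := ⟨Nat.prime_two⟩
  haveI : Fact (Nat.Prime 3) := ⟨Nat.prime_three⟩
  rcases eq_or_ne Y ⊤ with rfl | hYtop
  · exact OddOrder.isMetacyclic_of_surjective (⊤ : Subgroup X).subtype
      (fun x => ⟨⟨x, mem_top x⟩, rfl⟩) hYm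
  have hY2 : Y.index = 2 := by
    have h0 : Y.index ≠ 0 := index_ne_zero_of_finite
    have h1 : Y.index ≠ 1 := fun h => hYtop (index_eq_one.1 h)
    omega
  rcases two_gen h2 β hβ hgen hidx with h | ⟨a, hagen, hda⟩
  · exact h
  -- the abelianization is homocyclic
  let X' := commutator X
  have hcA : ∀ x y : X ⧸ X', x * y = y * x := by
    intro x y
    induction x using QuotientGroup.induction_on with
    | H x =>
      induction y using QuotientGroup.induction_on with
      | H y =>
        rw [← QuotientGroup.mk_mul, ← QuotientGroup.mk_mul, QuotientGroup.eq,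
          show (x * y)⁻¹ * (y * x) = ⁅y⁻¹, x⁻¹⁆ by rw [commutatorElement_def]; group]
        exact commutator_mem_commutator (mem_top _) (mem_top _)
  let γ := MetacyclicTwoAut.quotAut X' β
  have hγ : γ ^ 3 = 1 := by
    ext q
    induction q using QuotientGroup.induction_on with
    | H x => rw [MetacyclicTwoAut.quotAut_pow, hβ]; rfl
  have hγ1 : γ ≠ 1 := fun h => hda <| commutator_le_frattini h2 <| by
    rw [← QuotientGroup.eq, ← MetacyclicTwoAut.quotAut_mk X' β a]
    show (a : X ⧸ X') = γ a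
    rw [h]; rfl
  have hmA : IsMetacyclic (X ⧸ X') := by
    refine meta_of_comm_pair (a := (a : X ⧸ X')) (b := ((β a : X) : X ⧸ X')) hcA ?_
    have := congrArg (Subgroup.map (QuotientGroup.mk' X')) hagen
    rwa [MonoidHom.map_closure, map_top_of_surjective _ (QuotientGroup.mk'_surjective _),
      Set.image_pair] at this
  obtain ⟨n, α, hn, -, hord, hinf, hsup⟩ := MetacyclicTwoAut.homocyclic (h2.to_quotient X') hmA
    (by norm_num : 3 ≠ 2) hγ hγ1 hcA
  obtain ⟨u, rfl⟩ := QuotientGroup.mk_surjective α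
  have hγm : ∀ x : X, γ (x : X ⧸ X') = ((β x : X) : X ⧸ X') := MetacyclicTwoAut.quotAut_mk X' β
  rw [hγm] at hinf hsup
  set v := β u with hv
  have huv : closure ({u, v} : Set X) = ⊤ := by
    refine Pivot.eq_top_of_sup_commutator h2 (eq_top_iff.2 fun x _ => ?_)
    have hle : zpowers (u : X ⧸ X') ⊔ zpowers (v : X ⧸ X') ≤
        (closure ({u, v} : Set X)).map (QuotientGroup.mk' X') :=
      sup_le (zpowers_le.2 ⟨u, subset_closure (Set.mem_insert _ _), rfl⟩)
        (zpowers_le.2 ⟨v, subset_closure (Set.mem_insert_of_mem _ rfl), rfl⟩)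
    obtain ⟨y, hy, hyx⟩ := hle (hsup ▸ mem_top (x : X ⧸ X'))
    have := mul_mem (mem_sup_left hy : y ∈ closure ({u, v} : Set X) ⊔ X')
      (mem_sup_right (QuotientGroup.eq.1 hyx))
    rwa [mul_inv_cancel_left] at this
  by_cases hab : X' = ⊥
  · exact meta_of_comm_pair (a := u) (b := v) (fun x y => by
      rw [← commutatorElement_eq_one_iff_mul_comm, ← mem_bot, ← hab]
      exact commutator_mem_commutator (mem_top _) (mem_top _)) huv
  obtain ⟨n, rfl⟩ : ∃ m, n = m + 1 := ⟨n - 1, by omega⟩
  rcases Nat.eq_zero_or_pos n with rfl | hn0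
  · -- index four: maximal class
    obtain ⟨m, hm⟩ := h2.exists_card_eq
    have hidx4 : X'.index = 4 := by
      rw [index_eq_card]
      set A₁ := zpowers (u : X ⧸ X')
      set A₂ := zpowers (v : X ⧸ X')
      have hcomm : ∀ x ∈ A₁, ∀ y ∈ A₂, x * y = y * x := fun x _ y _ => hcA x y
      have hbij : Function.Bijective fun p : A₁ × A₂ => (p.1 : X ⧸ X') * p.2 := by
        refine ⟨mul_injective_of_disjoint (disjoint_iff.2 hinf), fun q => ?_⟩
        haveI : A₁.Normal := ⟨fun x hx g => by rwa [hcA g, mul_inv_cancel_right]⟩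
        obtain ⟨x, hx, y, hy, rfl⟩ := mem_sup_of_normal_left.1 (hsup ▸ mem_top q : q ∈ A₁ ⊔ A₂)
        exact ⟨(⟨x, hx⟩, ⟨y, hy⟩), rfl⟩
      rw [← Nat.card_eq_of_bijective _ hbij, Nat.card_prod, Nat.card_zpowers, Nat.card_zpowers,
        ← hγm, MulEquiv.orderOf_eq, hord]
      rfl
    have hcl := maximalClass_of_index_commutator hm hidx4
    have hm3 : 3 ≤ m := by
      by_contra hlt
      apply hab
      refine eq_bot_of_card_eq _ ?_
      have h1 := X'.index_mul_card
      rw [hidx4, hm] at h1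
      have h3 : (2 : ℕ) ^ m ≤ 2 ^ 2 := Nat.pow_le_pow_right (by norm_num) (by omega)
      have h4 : 0 < Nat.card X' := Nat.card_pos
      omega
    obtain ⟨c, hc⟩ := exists_orderOf_eq_of_maximalClass hm3 hm hcl
    have hci : (zpowers c).index = 2 := by
      have h1 := (zpowers c).index_mul_card
      rw [Nat.card_zpowers, hc, hm, show m = (m - 1) + 1 by omega, pow_succ',
        Nat.add_sub_cancel] at h1
      exact Nat.eq_of_mul_eq_mul_right (pow_pos two_pos _) h1
    haveI := normal_of_index_eq_two hci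
    haveI : IsCyclic (X ⧸ zpowers c) :=
      isCyclic_of_prime_card (p := 2) (by rw [← index_eq_card, hci])
    exact ⟨zpowers c, inferInstance, inferInstance, inferInstance⟩
  -- `n ≥ 2` is absurd
  exfalso
  obtain ⟨n, rfl⟩ : ∃ m, n = m + 1 := ⟨n - 1, by omega⟩
  set L := ⁅X', (⊤ : Subgroup X)⁆ with hL
  set d := ⁅u, v⁆ with hd
  have hdX : d ∈ X' := commutator_mem_commutator (mem_top u) (mem_top v)
  have hLX : L ≤ X' := commutator_le_left _ _
  have hnormal : ∀ J : Subgroup X, L ≤ J → J ≤ X' → J.Normal := fun J h1 h2 => ⟨fun x hx g => by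
    have : g * x * g⁻¹ = ⁅x, g⁆⁻¹ * x := by rw [commutatorElement_def]; group
    rw [this]
    exact mul_mem (inv_mem (h1 (commutator_mem_commutator (h2 hx) (mem_top g)))) hx⟩
  have hX'le : X' ≤ L ⊔ zpowers d := by
    haveI := hnormal (L ⊔ zpowers d) le_sup_left (sup_le hLX (zpowers_le.2 hdX))
    exact commutator_le_of_gen huv _ (mem_sup_right (mem_zpowers d))
  set K := L ⊔ zpowers (d * d) with hK
  haveI hKn : K.Normal := hnormal K le_sup_left (sup_le hLX (zpowers_le.2 (mul_mem hdX hdX)))
  have hdK : d ∉ K := by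
    intro hdK
    obtain ⟨l, hl, y, hy, e⟩ := mem_sup_of_normal_left.1 hdK
    obtain ⟨k, rfl⟩ := mem_zpowers_iff.1 hy
    have hodd : d ^ (1 - 2 * k) ∈ L := by
      have : d ^ (1 - 2 * k) = l := by
        rw [zpow_sub, zpow_one, zpow_mul, zpow_two, mul_inv_eq_iff_eq_mul]; exact e.symm
      rw [this]; exact hl
    obtain ⟨p, hp⟩ := (IsPGroup.iff_orderOf.1 h2) d
    obtain ⟨x, y, hxy⟩ : IsCoprime (1 - 2 * k) ((2 : ℤ) ^ p) :=
      IsCoprime.pow_right ⟨1, k, by ring⟩
    have hdL : d ∈ L := by
      have h1 : d ^ (y * (2 : ℤ) ^ p) = 1 := by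
        rw [← orderOf_dvd_iff_zpow_eq_one, hp]; push_cast; exact Dvd.intro_left y rfl
      have h2 : d = (d ^ (1 - 2 * k)) ^ x := by
        calc d = d ^ (x * (1 - 2 * k) + y * 2 ^ p) := by rw [hxy, zpow_one]
          _ = _ := by rw [zpow_add, h1, mul_one, mul_comm x, zpow_mul]
      rw [h2]; exact zpow_mem hodd x
    exact (commutator_top_lt h2 hab).not_ge (hX'le.trans (sup_le le_rfl (zpowers_le.2 hdL)))
  let π := QuotientGroup.mk' K
  set c := π d with hcdef
  have hπ1 : ∀ {x : X}, π x = 1 ↔ x ∈ K := QuotientGroup.eq_one_iff _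
  have hc2 : c * c = 1 := by rw [hcdef, ← map_mul, hπ1]; exact mem_sup_right (mem_zpowers _)
  have hc1 : c ≠ 1 := fun h => hdK (hπ1.1 h)
  have hccen : ∀ q, Commute c q := by
    intro q
    obtain ⟨g, rfl⟩ := QuotientGroup.mk'_surjective K q
    rw [← commutatorElement_eq_one_iff_commute, hcdef, ← map_commutatorElement, hπ1]
    exact mem_sup_left (commutator_mem_commutator hdX (mem_top g))
  have hX'c : ∀ x ∈ X', π x = 1 ∨ π x = c := by
    intro x hx
    obtain ⟨l, hl, y, hy, rfl⟩ := mem_sup_of_normal_left.1 (hX'le hx)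
    obtain ⟨k, rfl⟩ := mem_zpowers_iff.1 hy
    rw [map_mul, hπ1.2 (mem_sup_left hl), one_mul, map_zpow]
    rcases Int.even_or_odd k with ⟨t, rfl⟩ | ⟨t, rfl⟩
    · left; rw [← two_mul, zpow_mul, zpow_two, ← hcdef, hc2, one_zpow]
    · right; rw [zpow_add, zpow_mul, zpow_two, ← hcdef, hc2, one_zpow, one_mul, zpow_one]
  have hβX : ∀ x ∈ X', β x ∈ X' := fun x hx =>
    (characteristic_iff_comap_eq.1 (inferInstance : X'.Characteristic) β).ge hx
  have hβK : ∀ x ∈ K, β x ∈ K := by
    intro x hx
    have hle : K ≤ K.comap β.toMonoidHom := by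
      refine sup_le ?_ (zpowers_le.2 ?_)
      · refine (commutator_le).2 fun y hy g _ => ?_
        show β ⁅y, g⁆ ∈ K
        rw [map_commutatorElement]
        exact mem_sup_left (commutator_mem_commutator (hβX y hy) (mem_top _))
      · show β (d * d) ∈ K
        rw [map_mul]
        rw [← hπ1, map_mul]
        rcases hX'c _ (hβX d hdX) with h | h <;> rw [h]
        · exact mul_one 1
        · exact hc2
    exact hle hx
  have hβ3 : ∀ x, β (β (β x)) = x := fun x => by
    have := congrArg (fun f : MulAut X => f x) hβ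
    simpa [pow_succ, MulAut.mul_apply] using this
  have hβc : ∀ x ∈ X', π (β x) = π x := by
    intro x hx
    rcases hX'c x hx with h | h
    · rw [h, hπ1]; exact hβK x (hπ1.1 h)
    · rw [h]
      refine (hX'c _ (hβX x hx)).resolve_left fun h' => hc1 ?_
      rw [← h, hπ1, ← hβ3 x]
      exact hβK _ (hβK _ (hπ1.1 h'))
  set w := β v with hw
  have hsum : u * v * w ∈ X' := by
    rw [← QuotientGroup.eq_one_iff]
    refine MetacyclicTwoAut.eq_one_of_fixed (h2.to_quotient X') hmA (by norm_num : 3 ≠ 2) hγ hγ1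
      hcA ?_
    rw [hγm, map_mul, map_mul, ← hv, ← hw, hw, hβ3 u, ← hw, QuotientGroup.mk_mul,
      QuotientGroup.mk_mul, QuotientGroup.mk_mul, QuotientGroup.mk_mul]
    exact (hcA _ _).trans (mul_assoc _ _ _).symm
  set N := 2 ^ (n + 1 + 1) with hN
  have huN : u ^ N ∈ X' := by
    rw [← QuotientGroup.eq_one_iff, QuotientGroup.mk_pow, ← hord, pow_orderOf_eq_one]
  set U := π u with hU
  set V := π v with hV
  have hvN : v ^ N = β (u ^ N) := (map_pow β u N).symm
  have hwN : w ^ N = β (v ^ N) := (map_pow β v N).symm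
  have hVN : V ^ N = U ^ N := by rw [hV, hU, ← map_pow π, ← map_pow π, hvN, hβc _ huN]
  have hWN : (π w) ^ N = U ^ N := by
    rw [hU, ← map_pow π, ← map_pow π, hwN, hvN, hβc _ (hβX _ huN), hβc _ huN]
  have hVU : V * U = c * (U * V) := by
    have h1 : c = U * V * U⁻¹ * V⁻¹ := by
      rw [hcdef, hd, map_commutatorElement, commutatorElement_def]
    have h2 : U * V = c * (V * U) := by rw [h1]; group
    rw [h2, ← mul_assoc, hc2, one_mul]
  have hU2V : Commute (U * U) V := by
    show U * U * V = V * (U * U)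
    have e : U * V = c * (V * U) := by rw [hVU, ← mul_assoc, hc2, one_mul]
    calc U * U * V = (U * c) * (V * U) := by rw [mul_assoc, e, ← mul_assoc]
      _ = c * (U * V) * U := by rw [← (hccen U).eq]; group
      _ = V * (U * U) := by rw [e, ← mul_assoc, hc2, one_mul, mul_assoc]
  have hUV2 : (U * V) * (U * V) = c * ((U * U) * (V * V)) := by
    calc (U * V) * (U * V) = U * (V * U) * V := by group
      _ = (U * c) * (U * V * V) := by rw [hVU]; group
      _ = c * ((U * U) * (V * V)) := by rw [← (hccen U).eq]; group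
  have hV2U2 : Commute (U * U) (V * V) := hU2V.mul_right hU2V
  have he : U ^ N = 1 := by
    obtain ⟨M, hM⟩ : 4 ∣ N := ⟨2 ^ n, by rw [hN, pow_succ, pow_succ]; ring⟩
    have h4 : (U * V) ^ 4 = (U * U) ^ 2 * (V * V) ^ 2 := by
      rw [show (4 : ℕ) = 2 * 2 from rfl, pow_mul, pow_two (U * V), hUV2, (hccen _).mul_pow,
        pow_two c, hc2, one_mul, hV2U2.mul_pow]
    have h5 : (U * V) ^ N = U ^ N * V ^ N := by
      rw [hM, pow_mul, h4, ((hV2U2.pow_pow 2 2)).mul_pow, ← pow_mul, ← pow_mul, ← pow_two U,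
        ← pow_two V, ← pow_mul, ← pow_mul, show 2 * (2 * M) = 4 * M by ring]
    have heN := hX'c _ huN
    rw [map_pow, ← hU] at heN
    have hw' : π w = (U * V)⁻¹ * π (u * v * w) := by
      simp only [hU, hV, map_mul]; group
    have hcN : π (u * v * w) ^ N = 1 := by
      rcases hX'c _ hsum with h | h <;> rw [h]
      · exact one_pow N
      · rw [hM, show 4 * M = 2 * (2 * M) by ring, pow_mul, pow_two, hc2, one_pow]
    have hcomm : Commute (U * V)⁻¹ (π (u * v * w)) := by
      rcases hX'c _ hsum with h | h <;> rw [h]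
      · exact Commute.one_right _
      · exact (hccen _).symm
    rw [hw', hcomm.mul_pow, hcN, mul_one, inv_pow, h5, hVN] at hWN
    rcases heN with h | h
    · exact h
    · rw [h, hc2, inv_one] at hWN
      exact absurd hWN.symm hc1
  -- a metacyclic subgroup of index two containing `v`
  have hYsq : ∀ x, x * x ∈ Y := mul_self_mem_of_index_two hY2
  have hYc : X' ≤ Y := by
    rw [show X' = commutator X from rfl, _root_.commutator_def, commutator_le]
    intro g _ g' _
    simp only [commutatorElement_def, mul_mem_iff_of_index_two hY2, inv_mem_iff]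
    tauto
  obtain ⟨f, hfv⟩ : ∃ f : MulAut X, v ∈ Y.map f.toMonoidHom := by
    by_cases hu : u ∈ Y
    · exact ⟨β, u, hu, rfl⟩
    by_cases hv' : v ∈ Y
    · exact ⟨1, v, hv', rfl⟩
    · refine ⟨β * β, w, ?_, ?_⟩
      · have huvY : u * v ∈ Y := by rw [mul_mem_iff_of_index_two hY2]; tauto
        have := mul_mem (inv_mem huvY) (hYc hsum)
        rwa [inv_mul_cancel_left] at this
      · show β (β w) = v
        rw [hw, hβ3]
  let H := Y.map f.toMonoidHom
  have hHm : IsMetacyclic ↥(H.map π) := by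
    refine OddOrder.isMetacyclic_of_surjective (π.subgroupMap H)
      (π.subgroupMap_surjective H) ?_
    exact OddOrder.isMetacyclic_of_surjective (f.toMonoidHom.subgroupMap Y)
      (f.toMonoidHom.subgroupMap_surjective Y) hYm
  have hHsq : ∀ x, x * x ∈ H := fun x => ⟨f.symm x * f.symm x, hYsq _, by simp⟩
  have hHd : d ∈ H := ⟨f.symm d, hYc ((characteristic_iff_comap_eq.1
    (inferInstance : X'.Characteristic) f.symm).ge hdX), by simp⟩
  set M := 2 ^ n with hMdef
  set P := (U * U) ^ M with hP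
  set Q := (V * V) ^ M with hQ
  have hPH : P ∈ H.map π := pow_mem (show U * U ∈ H.map π from ⟨u * u, hHsq u, map_mul π u u⟩) M
  have hQH : Q ∈ H.map π := pow_mem (show V * V ∈ H.map π from ⟨v * v, hHsq v, map_mul π v v⟩) M
  have hcH : c ∈ H.map π := ⟨d, hHd, rfl⟩
  have hNM : (2 * M) * 2 = N := by rw [hMdef, hN, pow_succ, pow_succ]; ring
  have hP2 : P * P = 1 := by
    rw [hP, ← pow_add, ← two_mul, ← pow_two, ← pow_mul, show 2 * (2 * M) = N by omega, he]
  have hQ2 : Q * Q = 1 := by
    rw [hQ, ← pow_add, ← two_mul, ← pow_two, ← pow_mul, show 2 * (2 * M) = N by omega, hVN, he]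
  have hPQ : Commute P Q := hV2U2.pow_pow M M
  let φ : Bool × Bool × Bool → ↥(H.map π) := fun p =>
    ⟨(if p.1 then P else 1) * (if p.2.1 then Q else 1) * (if p.2.2 then c else 1), by
      refine mul_mem (mul_mem ?_ ?_) ?_ <;> split_ifs <;> first | assumption | exact one_mem _⟩
  let E : Subgroup ↥(H.map π) := closure (Set.range φ)
  have hEsq : ∀ x ∈ E, x ^ 2 = 1 := by
    have hcomm : ∀ p q, Commute (φ p) (φ q) := fun p q => Subtype.ext <| by
      have h1 : ∀ r, Commute ((φ r : ↥(H.map π)) : X ⧸ K) P := fun r => by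
        refine ((Commute.mul_left ?_ ?_).mul_left ?_) <;> split_ifs <;>
          first | exact Commute.one_left _ | exact Commute.refl _ | exact hPQ.symm | exact hccen _
      have h2 : ∀ r, Commute ((φ r : ↥(H.map π)) : X ⧸ K) Q := fun r => by
        refine ((Commute.mul_left ?_ ?_).mul_left ?_) <;> split_ifs <;>
          first | exact Commute.one_left _ | exact Commute.refl _ | exact hPQ | exact hccen _
      show (φ p : X ⧸ K) * _ = _ * (φ p : X ⧸ K)
      refine Commute.eq (((Commute.mul_right ?_ ?_).mul_right ?_)) <;> split_ifs <;>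
        first | exact Commute.one_right _ | exact h1 p | exact h2 p | exact (hccen _).symm
    have hEc : ∀ x ∈ E, ∀ y ∈ E, Commute x y := by
      intro x hx y hy
      induction hx, hy using closure_induction₂ with
      | mem a b ha hb =>
        obtain ⟨p, rfl⟩ := ha
        obtain ⟨q, rfl⟩ := hb
        exact hcomm p q
      | one_left a _ => exact Commute.one_left a
      | one_right a _ => exact Commute.one_right a
      | mul_left a b c _ _ _ h1 h2 => exact h1.mul_left h2
      | mul_right a b c _ _ _ h1 h2 => exact h1.mul_right h2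
      | inv_left a b _ _ h1 => exact h1.inv_left
      | inv_right a b _ _ h1 => exact h1.inv_right
    intro x hx
    induction hx using closure_induction with
    | mem x hx =>
      obtain ⟨p, rfl⟩ := hx
      have hsq1 : ∀ s : X ⧸ K, s * s = 1 → ∀ t : Bool,
          (if t then s else 1) * (if t then s else 1) = 1 := fun s hs t => by
        cases t <;> simp [hs]
      refine Subtype.ext ?_
      rw [coe_pow, pow_two, coe_one]
      show ((if p.1 then P else 1) * (if p.2.1 then Q else 1) * (if p.2.2 then c else 1)) *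
        ((if p.1 then P else 1) * (if p.2.1 then Q else 1) * (if p.2.2 then c else 1)) = 1
      have c1 : Commute (if p.2.2 then c else 1)
          ((if p.1 then P else 1) * (if p.2.1 then Q else 1)) := by
        split_ifs <;> first | exact hccen _ | exact Commute.one_left _
      have c2 : Commute (if p.2.1 then Q else 1) (if p.1 then P else 1) := by
        split_ifs <;> first | exact hPQ.symm | exact Commute.one_left _ | exact Commute.one_right _
      rw [c1.mul_mul_mul_comm, hsq1 c hc2, mul_one, c2.mul_mul_mul_comm, hsq1 P hP2,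
        hsq1 Q hQ2, one_mul]
    | one => exact one_pow 2
    | mul x y hx hy h1 h2 => rw [(hEc x hx y hy).mul_pow, h1, h2, one_mul]
    | inv x _ h1 => rw [inv_pow, h1, inv_one]
  have hinjφ : Function.Injective φ := by
    -- read the exponents in the abelianization
    have hKX : K ≤ X' := sup_le hLX (zpowers_le.2 (mul_mem hdX hdX))
    let ρ : X ⧸ K →* X ⧸ X' :=
      QuotientGroup.map K X' (MonoidHom.id X) (by rwa [comap_id])
    have hρc : ρ c = 1 := (QuotientGroup.eq_one_iff d).2 hdX
    set A := (u : X ⧸ X') ^ (2 * M) with hA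
    set B := (v : X ⧸ X') ^ (2 * M) with hB
    have hρP : ρ P = A := by
      rw [hP, map_pow, map_mul, hA, pow_mul, pow_two]; rfl
    have hρQ : ρ Q = B := by
      rw [hQ, map_pow, map_mul, hB, pow_mul, pow_two]; rfl
    have hAne : A ≠ 1 := by
      refine pow_ne_one_of_lt_orderOf (by positivity) ?_
      rw [hord]
      show 2 * 2 ^ n < 2 ^ (n + 1 + 1)
      rw [pow_succ, pow_succ]
      have : 0 < 2 ^ n := by positivity
      omega
    have hBne : B ≠ 1 := by
      rw [hB, ← hγm, ← map_pow, ne_eq, EmbeddingLike.map_eq_one_iff]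
      exact hAne
    have hAB : A ≠ B := fun h => hAne <| mem_bot.1 <| hinf ▸
      ⟨pow_mem (mem_zpowers _) _, (h ▸ pow_mem (mem_zpowers _) _ : A ∈ zpowers (v : X ⧸ X'))⟩
    have hA2 : A * A = 1 := by rw [← hρP, ← map_mul, hP2, map_one]
    rintro ⟨i, j, k⟩ ⟨i', j', k'⟩ h
    have h' : ((if i then P else 1) * (if j then Q else 1) * (if k then c else 1) : X ⧸ K) =
        (if i' then P else 1) * (if j' then Q else 1) * (if k' then c else 1) :=
      congrArg Subtype.val h
    have h'' := congrArg ρ h'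
    simp only [map_mul, apply_ite ρ, hρP, hρQ, hρc, map_one, ite_self, mul_one] at h''
    have hij : i = i' ∧ j = j' :=
      bool_inj hAne hBne hAB (fun e => hAB (mul_left_cancel (hA2.trans e.symm))) h''
    obtain ⟨rfl, rfl⟩ := hij
    have h3 := mul_left_cancel h'
    cases k <;> cases k' <;> simp_all
  have hcard := MetacyclicTwoAut.card_le_four hHm E hEsq
  have h8 : 8 ≤ Nat.card E := by
    have := Nat.card_le_card_of_injective
      (fun p => (⟨φ p, subset_closure ⟨p, rfl⟩⟩ : E)) (fun p q h => hinjφ (congrArg Subtype.val h))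
    simpa using this
  omega

end CfsgLib.Bicyclic
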