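import Mathlib
import Cfsg.Agent.Lib.Bicyclic.Defs

/-!
# The automorphism of order three of `Q₈C`

`P` consists of the four cosets `C, iC, jC, ijC` of an abelian group `C` centralizing the
quaternion group `⟨i, j⟩` and containing `z = i²`; the cycle `i → j → ij` extends by the identity of `C`.
-/

set_option autoImplicit false
set_option linter.unusedSectionVars false
set_option linter.unusedSimpArgs false

namespace CfsgLib.Bicyclic.Quat

open Subgroup

universe u

variable {G : Type u} [Group G]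

/-- The data. -/
structure QC (i j z : G) (C : Subgroup G) : Prop where
  ii : i * i = z
  jj : j * j = z
  ji : j * i = i * (j * z)
  zz : z * z = 1
  z_mem : z ∈ C
  comm_i : ∀ c ∈ C, c * i = i * c
  comm_j : ∀ c ∈ C, c * j = j * c
  comm : ∀ c ∈ C, ∀ d ∈ C, c * d = d * c
  not_i : i ∉ C
  not_j : j ∉ C
  not_ij : i * j ∉ C

/-- The coset representatives. -/
def rep (i j : G) : Fin 4 → G := ![1, i, j, i * j]

/-- The cycle of the representatives. -/
def σ : Equiv.Perm (Fin 4) where
  toFun := ![0, 2, 3, 1]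
  invFun := ![0, 3, 1, 2]
  left_inv := by decide
  right_inv := by decide

/-- The multiplication table: coset and sign. -/
def tb : Fin 4 → Fin 4 → Fin 4 × Bool :=
  ![![(0, false), (1, false), (2, false), (3, false)],
    ![(1, false), (0, true), (3, false), (2, true)],
    ![(2, false), (3, true), (0, true), (1, false)],
    ![(3, false), (2, false), (1, true), (0, true)]]

/-- The sign as a power of `z`. -/
def sg (z : G) (b : Bool) : G := if b then z else 1

theorem tb_σ : ∀ k l : Fin 4, tb (σ k) (σ l) = (σ (tb k l).1, (tb k l).2) := by decide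

theorem tb_self : ∀ k : Fin 4, (tb k k).1 = 0 := by decide

theorem tb_sq : ∀ k : Fin 4, k ≠ 0 → tb k k = (0, true) := by decide

theorem tb_eq_zero : ∀ k l : Fin 4, (tb k l).1 = 0 → k = l := by decide

theorem cover_three : ∀ k l m : Fin 4, k ≠ 0 → l ≠ 0 → k ≠ l →
    m = 0 ∨ m = k ∨ m = l ∨ m = (tb k l).1 := by decide

variable {i j z : G} {C : Subgroup G} (h : QC i j z C)
include h

theorem z_comm_i : z * i = i * z := h.comm_i z h.z_mem
theorem z_comm_j : z * j = j * z := h.comm_j z h.z_mem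

theorem rep_mul (k l : Fin 4) : rep i j k * rep i j l = rep i j (tb k l).1 * sg z (tb k l).2 := by
  have a1 := h.ii
  have a2 := h.jj
  have a3 := h.ji
  have a4 := h.zz
  have a5 : z * i = i * z := z_comm_i h
  have a6 : z * j = j * z := z_comm_j h
  have b1 : ∀ x, i * (i * x) = z * x := fun x => by rw [← mul_assoc, a1]
  have b2 : ∀ x, j * (j * x) = z * x := fun x => by rw [← mul_assoc, a2]
  have b3 : ∀ x, j * (i * x) = i * (j * (z * x)) := fun x => by
    rw [← mul_assoc, a3]; simp only [mul_assoc]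
  have b4 : ∀ x, z * (z * x) = x := fun x => by rw [← mul_assoc, a4, one_mul]
  have b5 : ∀ x, z * (i * x) = i * (z * x) := fun x => by rw [← mul_assoc, a5, mul_assoc]
  have b6 : ∀ x, z * (j * x) = j * (z * x) := fun x => by rw [← mul_assoc, a6, mul_assoc]
  fin_cases k <;> fin_cases l <;>
    simp [rep, tb, sg, mul_assoc, a1, a2, a3, a4, a5, a6, b1, b2, b3, b4, b5, b6]

theorem sg_mem (b : Bool) : sg z b ∈ C := by
  unfold sg
  split
  · exact h.z_mem
  · exact C.one_mem

theorem comm_rep {c : G} (hc : c ∈ C) (k : Fin 4) : c * rep i j k = rep i j k * c := by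
  fin_cases k
  · simp [rep]
  · simpa [rep] using h.comm_i c hc
  · simpa [rep] using h.comm_j c hc
  · show c * (i * j) = i * j * c
    rw [← mul_assoc, h.comm_i c hc, mul_assoc, h.comm_j c hc, mul_assoc]

theorem rep_inv (k : Fin 4) : (rep i j k)⁻¹ = rep i j k * (sg z (tb k k).2)⁻¹ := by
  have e := rep_mul h k k
  rw [tb_self k] at e
  refine inv_eq_of_mul_eq_one_right ?_
  rw [← mul_assoc, e]
  simp [rep]

theorem rep_not_mem {k : Fin 4} (hk : k ≠ 0) : rep i j k ∉ C := by
  fin_cases k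
  · exact absurd rfl hk
  · exact h.not_i
  · exact h.not_j
  · exact h.not_ij

theorem mul_form (k l : Fin 4) {c d : G} (hc : c ∈ C) :
    rep i j k * c * (rep i j l * d) = rep i j (tb k l).1 * (sg z (tb k l).2 * (c * d)) := by
  calc rep i j k * c * (rep i j l * d) = rep i j k * (c * rep i j l) * d := by group
    _ = rep i j k * rep i j l * (c * d) := by rw [comm_rep h hc]; group
    _ = _ := by rw [rep_mul h k l, mul_assoc]

theorem unique {k l : Fin 4} {c d : G} (hc : c ∈ C) (hd : d ∈ C)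
    (e : rep i j k * c = rep i j l * d) : k = l ∧ c = d := by
  have h1 : (rep i j l)⁻¹ * rep i j k = d * c⁻¹ := by
    rw [eq_mul_inv_iff_mul_eq, mul_assoc, e, inv_mul_cancel_left]
  rw [rep_inv h, mul_assoc, comm_rep h (C.inv_mem (sg_mem h _)), ← mul_assoc, rep_mul h,
    mul_assoc] at h1
  have h2 : rep i j (tb l k).1 ∈ C := by
    rw [← mul_mem_cancel_right (C.mul_mem (sg_mem h (tb l k).2) (C.inv_mem (sg_mem h (tb l l).2))), h1]
    exact C.mul_mem hd (C.inv_mem hc)
  have h3 : (tb l k).1 = 0 := by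
    by_contra h3
    exact rep_not_mem h h3 h2
  obtain rfl := tb_eq_zero _ _ h3
  exact ⟨rfl, mul_left_cancel e⟩

theorem comm_rep_inv {c : G} (hc : c ∈ C) {k : Fin 4} :
    c * (rep i j k)⁻¹ = (rep i j k)⁻¹ * c := by
  rw [eq_inv_mul_iff_mul_eq, ← mul_assoc, ← comm_rep h hc, mul_inv_cancel_right]

/-- The group of the four cosets. -/
theorem cover {x : G} (hx : x ∈ closure {i, j} ⊔ C) :
    ∃ k, ∃ c ∈ C, x = rep i j k * c := by
  let R : Subgroup G :=
    { carrier := {x | ∃ k, ∃ c ∈ C, x = rep i j k * c}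
      one_mem' := ⟨0, 1, C.one_mem, by simp [rep]⟩
      mul_mem' := by
        rintro _ _ ⟨k, c, hc, rfl⟩ ⟨l, d, hd, rfl⟩
        exact ⟨_, _, C.mul_mem (sg_mem h _) (C.mul_mem hc hd), mul_form h k l hc⟩
      inv_mem' := by
        rintro _ ⟨k, c, hc, rfl⟩
        refine ⟨k, (sg z (tb k k).2)⁻¹ * c⁻¹, C.mul_mem (C.inv_mem (sg_mem h _)) (C.inv_mem hc), ?_⟩
        rw [mul_inv_rev, comm_rep_inv h (C.inv_mem hc), rep_inv h, mul_assoc] }
  have hle : closure {i, j} ⊔ C ≤ R := by
    refine sup_le ((closure_le _).2 ?_) fun c hc => ⟨0, c, hc, by simp [rep]⟩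
    rintro _ (rfl | rfl)
    · exact ⟨1, 1, C.one_mem, by simp [rep]⟩
    · exact ⟨2, 1, C.one_mem, by simp [rep]⟩
  exact hle hx

theorem rep_mem (k : Fin 4) : rep i j k ∈ closure {i, j} ⊔ C := by
  have hi : i ∈ closure {i, j} ⊔ C := mem_sup_left (subset_closure (Or.inl rfl))
  have hj : j ∈ closure {i, j} ⊔ C := mem_sup_left (subset_closure (Or.inr rfl))
  fin_cases k
  · exact one_mem _
  · exact hi
  · exact hj
  · exact mul_mem hi hj

/-- The automorphism. -/
theorem exists_aut : ∃ α : MulAut ↥(closure {i, j} ⊔ C),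
    ∀ (x : ↥(closure {i, j} ⊔ C)) (k : Fin 4) (c : G), c ∈ C → (x : G) = rep i j k * c →
      (α x : G) = rep i j (σ k) * c := by
  let e : Fin 4 × C → ↥(closure {i, j} ⊔ C) := fun p =>
    ⟨rep i j p.1 * p.2, mul_mem (rep_mem h p.1) (mem_sup_right p.2.2)⟩
  have he : Function.Bijective e := by
    refine ⟨fun p q hpq => ?_, fun x => ?_⟩
    · obtain ⟨h1, h2⟩ := unique h p.2.2 q.2.2 (congrArg Subtype.val hpq)
      exact Prod.ext h1 (Subtype.ext h2)
    · obtain ⟨k, c, hc, hx⟩ := cover h x.2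
      exact ⟨(k, ⟨c, hc⟩), Subtype.ext hx.symm⟩
  let E := Equiv.ofBijective e he
  let f : Equiv.Perm ↥(closure {i, j} ⊔ C) := (E.symm.trans (σ.prodCongr (Equiv.refl C))).trans E
  have hf : ∀ (x : ↥(closure {i, j} ⊔ C)) (k : Fin 4) (c : G), c ∈ C → (x : G) = rep i j k * c →
      (f x : G) = rep i j (σ k) * c := by
    intro x k c hc hx
    have : E.symm x = (k, ⟨c, hc⟩) := E.injective (by rw [E.apply_symm_apply]; exact Subtype.ext hx)
    show ((E ((σ.prodCongr (Equiv.refl C)) (E.symm x))) : G) = _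
    rw [this]
    rfl
  refine ⟨{ f with map_mul' := fun x y => ?_ }, hf⟩
  apply Subtype.ext
  obtain ⟨k, c, hc, hx⟩ := cover h x.2
  obtain ⟨l, d, hd, hy⟩ := cover h y.2
  show (f (x * y) : G) = (f x : G) * (f y : G)
  rw [hf x k c hc hx, hf y l d hd hy, mul_form h _ _ hc, tb_σ]
  exact hf (x * y) _ _ (C.mul_mem (sg_mem h _) (C.mul_mem hc hd))
    (by rw [Subgroup.coe_mul, hx, hy, mul_form h k l hc])

omit h in
theorem σ_cube : ∀ k : Fin 4, σ (σ (σ k)) = k := by decide

end CfsgLib.Bicyclic.Quat
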