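import Mathlib
import Cfsg.Agent.Lib.Bicyclic.TwistSystem
import Cfsg.Agent.Lib.Bicyclic.QuatAuto

/-!
# The fusion system of a quaternion datum (piece 5b of S5217)
-/

set_option autoImplicit false
set_option linter.unusedSectionVars false
set_option linter.style.haveILetI false

namespace CfsgLib.Bicyclic

open Cfsg Cfsg.FusionSystem CfsgLib.Fusion Subgroup Quat

universe u

/-- An odd order automorphism of a two generated abelian 2-group fixing an involution is trivial. -/
theorem two_gen_aut {X : Type*} [Group X] [Finite X] (hX : IsPGroup 2 X)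
    (hc : ∀ a b : X, a * b = b * a) {r w : X} (hgen : ∀ x : X, ∃ a b : ℤ, x = r ^ a * w ^ b)
    {φ : MulAut X} (hodd : Odd (orderOf φ)) {z : X} (hz1 : z ≠ 1) (hz2 : z * z = 1) (hzf : φ z = z) :
    φ = 1 := by
  classical
  letI : CommGroup X := { ‹Group X› with mul_comm := hc }
  haveI := Fintype.ofFinite X
  -- at most four elements square to one
  let sq : X →* X := powMonoidHom 2
  have hker : Nat.card sq.ker ≤ 4 := by
    have h1 : Nat.card sq.range * sq.range.index = Nat.card X := sq.range.card_mul_index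
    have h2 : Nat.card sq.ker * sq.ker.index = Nat.card X := sq.ker.card_mul_index
    rw [Subgroup.index_ker] at h2
    have h3 : sq.range.index ≤ 4 := by
      let g : Fin 2 × Fin 2 → X ⧸ sq.range := fun p =>
        ((r ^ ((p.1 : ℕ) : ℤ) * w ^ ((p.2 : ℕ) : ℤ) : X) : X ⧸ sq.range)
      have hg : Function.Surjective g := fun q => by
        obtain ⟨x, rfl⟩ := QuotientGroup.mk_surjective q
        obtain ⟨a, b, rfl⟩ := hgen x
        refine ⟨(⟨(a % 2).toNat, by omega⟩, ⟨(b % 2).toNat, by omega⟩), QuotientGroup.eq.2 ?_⟩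
        refine ⟨r ^ (a / 2) * w ^ (b / 2), ?_⟩
        have ha : (((a % 2).toNat : ℕ) : ℤ) = a - 2 * (a / 2) := by omega
        have hb : (((b % 2).toNat : ℕ) : ℤ) = b - 2 * (b / 2) := by omega
        show (r ^ (a / 2) * w ^ (b / 2)) ^ 2 = _
        rw [ha, hb, ← zpow_natCast, mul_zpow, ← zpow_mul, ← zpow_mul, mul_inv, ← zpow_neg, ← zpow_neg,
          mul_mul_mul_comm, ← zpow_add, ← zpow_add]
        congr 2 <;> push_cast <;> ring
      rw [Subgroup.index_eq_card]
      refine (Nat.card_le_card_of_surjective g hg).trans ?_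
      simp
    have h4 : 0 < Nat.card sq.range := Nat.card_pos
    nlinarith
  -- the elements squaring to one are fixed
  have hfix : ∀ u : X, u ^ 2 = 1 → φ u = u := by
    intro u hu
    refine fix_of_sq hodd ?_
    by_contra hne
    have h1 : φ u ≠ u := fun h => hne (by rw [h, h])
    have hinj := φ.injective
    have hu1 : u ≠ 1 := fun h => h1 (by rw [h, map_one])
    have huz : u ≠ z := fun h => h1 (by rw [h, hzf])
    have h2 : φ u ≠ 1 := fun h => hu1 (hinj (h.trans (map_one φ).symm))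
    have h3 : φ u ≠ z := fun h => huz (hinj (h.trans hzf.symm))
    have h4 : φ (φ u) ≠ 1 := fun h => h2 (hinj (h.trans (map_one φ).symm))
    have h5 : φ (φ u) ≠ z := fun h => h3 (hinj (h.trans hzf.symm))
    have h6 : φ (φ u) ≠ φ u := fun h => h1 (hinj h)
    have hsub : ({1, z, u, φ u, φ (φ u)} : Finset X) ⊆ Finset.univ.filter fun x => x ∈ sq.ker := by
      intro x hx
      simp only [Finset.mem_insert, Finset.mem_singleton] at hx
      simp only [Finset.mem_filter, Finset.mem_univ, true_and, MonoidHom.mem_ker]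
      show x ^ 2 = 1
      rcases hx with rfl | rfl | rfl | rfl | rfl
      · exact one_pow _
      · rw [pow_two, hz2]
      · exact hu
      · rw [← map_pow, hu, map_one]
      · rw [← map_pow, ← map_pow, hu, map_one, map_one]
    have h7 := Finset.card_le_card hsub
    rw [← Fintype.card_subtype, ← Nat.card_eq_fintype_card] at h7
    have h8 : ({1, z, u, φ u, φ (φ u)} : Finset X).card = 5 := by
      simp [Ne.symm hz1, Ne.symm hu1, Ne.symm h2, Ne.symm h4, Ne.symm huz, Ne.symm h3, Ne.symm h5,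
        Ne.symm h1, Ne.symm hne, Ne.symm h6]
    omega
  have key : ∀ (n : ℕ) (u : X), u ^ 2 ^ n = 1 → φ u = u := by
    intro n
    induction n with
    | zero => intro u hu; rw [pow_zero, pow_one] at hu; rw [hu, map_one]
    | succ n ih =>
      intro u hu
      have h1 : φ (u ^ 2) = u ^ 2 := ih _ (by rw [← pow_mul, ← pow_succ', hu])
      set o := u⁻¹ * φ u with ho
      have ho2 : o ^ 2 = 1 := by rw [ho, mul_pow, inv_pow, ← map_pow, h1, inv_mul_cancel]
      have h2 : φ u = u * o := by rw [ho, mul_inv_cancel_left]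
      refine fix_of_sq hodd ?_
      rw [h2, map_mul, hfix o ho2, h2, mul_assoc, ← pow_two, ho2, mul_one]
  refine MulEquiv.ext fun u => ?_
  obtain ⟨n, hn⟩ := hX u
  exact key n u hn

namespace QuatSys

variable {G : Type u} [Group G] {i j τ : G}

/-- The facts about the centralizer. -/
theorem qc (h : QuatData G i j τ) (hz : i * i ∈ center G) :
    QC i j (i * i) (quatCent i j) := by
  have hcm : ∀ g : G, g * (i * i) = i * i * g := fun g => mem_center_iff.1 hz g
  have h4 : i ^ 4 = 1 := h.order_i ▸ pow_orderOf_eq_one i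
  have h2 : i * i ≠ 1 := fun e => by
    have := orderOf_dvd_of_pow_eq_one (show i ^ 2 = 1 by rw [pow_two, e])
    rw [h.order_i] at this
    omega
  have hmem : ∀ c, c ∈ quatCent i j ↔ c * i = i * c ∧ c * j = j * c := fun c => by
    rw [quatCent, mem_centralizer_iff]
    simp only [SetLike.mem_coe, Set.mem_insert_iff, Set.mem_singleton_iff, forall_eq_or_imp, forall_eq]
    exact and_congr eq_comm eq_comm
  have hinv : i⁻¹ = i * (i * i) := inv_eq_of_mul_eq_one_right (by
    rw [← mul_assoc, show i * i * (i * i) = i ^ 4 by simp [pow_succ, mul_assoc], h4])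
  have hji : j * i = i * (j * (i * i)) := by
    rw [mul_inv_eq_iff_eq_mul.1 h.inv, hinv, mul_assoc, ← hcm j]
  have hno : j * i ≠ i * j := fun e => h2 (by
    rw [hji] at e
    exact mul_eq_left.1 (mul_left_cancel e))
  have hzz : i * i * (i * i) = 1 := by rw [show i * i * (i * i) = i ^ 4 by simp [pow_succ, mul_assoc], h4]
  have hzmem : i * i ∈ quatCent i j := (hmem _).2 ⟨(hcm i).symm, (hcm j).symm⟩
  refine ⟨rfl, h.sq, hji, hzz, hzmem, fun c hc => ((hmem c).1 hc).1, fun c hc => ((hmem c).1 hc).2,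
    ?_, fun hi => hno ((hmem i).1 hi).2.symm, fun hj => hno ((hmem j).1 hj).1,
    fun hij => hno ?_⟩
  · obtain ⟨w, hw, e⟩ := h.cent
    have hle : quatCent i j ≤ centralizer (quatCent i j : Set G) := by
      have hz' : ∀ X : Subgroup G, X ≤ centralizer (zpowers (i * i) : Set G) := fun X x _ =>
        mem_centralizer_iff.2 fun y hy => by
          obtain ⟨n, rfl⟩ := mem_zpowers_iff.1 hy
          exact ((show Commute x (i * i) from hcm x).zpow_right n).symm.eq
      conv => lhs; rw [e]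
      rw [e]
      refine sup_le ?_ ?_ <;> rw [le_centralizer_iff] <;> refine sup_le ?_ ?_
      · exact hz' _
      · exact hz' _
      · exact le_centralizer_iff.1 (hz' _)
      · intro x hx
        refine mem_centralizer_iff.2 fun y hy => ?_
        obtain ⟨a, rfl⟩ := mem_zpowers_iff.1 hx
        obtain ⟨b, rfl⟩ := mem_zpowers_iff.1 hy
        exact ((Commute.refl w).zpow_zpow b a).eq
    exact fun c hc d hd => mem_centralizer_iff.1 (hle hd) c hc
  · have := ((hmem _).1 hij).1
    rw [mul_assoc] at this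
    exact mul_left_cancel this

/-- Every element of the centralizer is a product of powers. -/
theorem cent_form (h : QuatData G i j τ) (hz : i * i ∈ center G) :
    ∃ w ∈ quatCent i j, ∀ c ∈ quatCent i j, ∃ a b : ℤ, c = (i * i) ^ a * w ^ b := by
  obtain ⟨w, hw, e⟩ := h.cent
  refine ⟨w, hw, fun c hc => ?_⟩
  rw [e] at hc
  haveI : (zpowers (i * i)).Normal := ⟨fun y hy g => by
    obtain ⟨n, rfl⟩ := mem_zpowers_iff.1 hy
    rw [((show Commute g (i * i) from mem_center_iff.1 hz g).zpow_right n).eq, mul_inv_cancel_right]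
    exact hy⟩
  obtain ⟨y, hy, x, hx, rfl⟩ := mem_sup_of_normal_left.1 hc
  obtain ⟨a, rfl⟩ := mem_zpowers_iff.1 hy
  obtain ⟨b, rfl⟩ := mem_zpowers_iff.1 hx
  exact ⟨a, b, rfl⟩

theorem tau_not (h : QuatData G i j τ) (hz : i * i ∈ center G) : τ ∉ quatProd i j := by
  intro hτ
  rw [← h.norm_i] at hτ
  have h1 : j ∈ zpowers i := by
    have := (mem_normalizer_iff.1 hτ i).1 (mem_zpowers i)
    rwa [h.tau_i] at this
  obtain ⟨n, hn⟩ := mem_zpowers_iff.1 h1
  have q := qc h hz
  refine q.not_i ?_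
  rw [quatCent, mem_centralizer_iff]
  rintro x (rfl | rfl)
  · rfl
  · rw [← hn]
    exact ((Commute.refl i).zpow_left n).eq

/-- The normalizer has two cosets. -/
theorem norm_cosets (h : QuatData G i j τ) {g : G}
    (hg : g ∈ normalizer (quatProd i j : Set G)) : g ∈ quatProd i j ∨ τ⁻¹ * g ∈ quatProd i j := by
  set P := quatProd i j
  have hτ : τ ∈ normalizer (P : Set G) := h.norm.ge (mem_sup_right (mem_zpowers τ))
  have hc : ∀ x, x ∈ P → τ⁻¹ * x * τ ∈ P := fun x hx => by
    have := (mem_normalizer_iff.1 (inv_mem hτ) x).1 hx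
    rwa [inv_inv] at this
  let R : Subgroup G :=
    { carrier := {g | g ∈ P ∨ τ⁻¹ * g ∈ P}
      one_mem' := Or.inl P.one_mem
      mul_mem' := by
        rintro a b (ha | ha) (hb | hb)
        · exact Or.inl (P.mul_mem ha hb)
        · refine Or.inr ?_
          have := P.mul_mem (hc a ha) hb
          simpa [mul_assoc] using this
        · refine Or.inr ?_
          rw [← mul_assoc]
          exact P.mul_mem ha hb
        · refine Or.inl ?_
          have := P.mul_mem (P.mul_mem h.tau_sq (hc _ ha)) hb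
          simpa [mul_assoc] using this
      inv_mem' := by
        rintro a (ha | ha)
        · exact Or.inl (P.inv_mem ha)
        · refine Or.inr ?_
          have := P.mul_mem (hc _ (P.inv_mem ha)) (P.inv_mem h.tau_sq)
          simpa [mul_assoc] using this }
  have hle : P ⊔ zpowers τ ≤ R :=
    sup_le (fun x hx => Or.inl hx) (zpowers_le.2 (Or.inr (by simp)))
  exact hle (h.norm.le hg)

/-- The flags of the conjugation by `τ`. -/
def fl : Bool → Fin 4 → Bool
  | true => ![false, false, false, true]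
  | false => ![false, false, true, false]

/-- The element inducing the inner correction. -/
def v0 : Bool → Fin 4
  | true => 1
  | false => 2

/-- The permutation of the cosets by `τ`. -/
def π : Fin 4 → Fin 4 := ![0, 2, 1, 3]

theorem tb_zero : ∀ k : Fin 4, tb 0 k = tb k 0 := by decide

theorem flip_check : ∀ (b : Bool) (k : Fin 4),
    π (σ k) = σ (σ (π k)) ∧ (tb (v0 b) (σ (σ (π k)))).1 = (tb (σ (σ (π k))) (v0 b)).1 ∧
      fl b (σ k) = (fl b k != ((tb (v0 b) (σ (σ (π k)))).2 != (tb (σ (σ (π k))) (v0 b)).2)) := by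
  decide

theorem sg_mul {z : G} (hzz : z * z = 1) (a b : Bool) : sg z (a != b) = sg z a * sg z b := by
  cases a <;> cases b <;> simp [sg, hzz]

/-- The conjugation by `τ` on the representatives. -/
theorem tau_rep (h : QuatData G i j τ) (hz : i * i ∈ center G) : ∃ b : Bool, ∀ k,
    τ * rep i j k * τ⁻¹ = rep i j (π k) * sg (i * i) (fl b k) := by
  have q := qc h hz
  have hij : τ * (i * j) * τ⁻¹ = (τ * i * τ⁻¹) * (τ * j * τ⁻¹) := by group
  rcases h.tau_j with e | e
  · refine ⟨true, fun k => ?_⟩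
    fin_cases k
    · simp [rep, π, fl, sg]
    · simpa [rep, π, fl, sg] using h.tau_i
    · simpa [rep, π, fl, sg] using e
    · show τ * (i * j) * τ⁻¹ = i * j * (i * i)
      rw [hij, h.tau_i, e, q.ji, mul_assoc]
  · have hinv : i⁻¹ = i * (i * i) := inv_eq_of_mul_eq_one_right (by rw [← mul_assoc, q.zz])
    refine ⟨false, fun k => ?_⟩
    fin_cases k
    · simp [rep, π, fl, sg]
    · simpa [rep, π, fl, sg] using h.tau_i
    · show τ * j * τ⁻¹ = i * (i * i)
      rw [e, hinv]
    · show τ * (i * j) * τ⁻¹ = i * j * 1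
      rw [hij, h.tau_i, e, mul_one, hinv, ← mul_assoc, q.ji, mul_assoc i (j * (i * i)), mul_assoc j,
        q.zz, mul_one]

/-- `τ` inverts the automorphism modulo an inner one. -/
theorem twist_rel (h : QuatData G i j τ) (hz : i * i ∈ center G) {α : MulAut ↥(quatProd i j)}
    (hα : ∀ (x : ↥(quatProd i j)) (k : Fin 4) (c : G), c ∈ quatCent i j → (x : G) = rep i j k * c →
      (α x : G) = rep i j (σ k) * c) :
    ∃ v ∈ quatProd i j, ∀ (x : ↥(quatProd i j)) (hx : τ * (x : G) * τ⁻¹ ∈ quatProd i j),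
      τ * (α x : G) * τ⁻¹ = v * ((α ^ 2) ⟨_, hx⟩ : G) * v⁻¹ := by
  have q := qc h hz
  obtain ⟨b, hb⟩ := tau_rep h hz
  refine ⟨rep i j (v0 b), rep_mem q _, fun x hx => ?_⟩
  obtain ⟨k, c, hc, hxe⟩ := cover q x.2
  have hτc : τ * c * τ⁻¹ ∈ quatCent i j := by
    have h1 : ∀ y, c * y = y * c → τ * c * τ⁻¹ * (τ * y * τ⁻¹) = τ * y * τ⁻¹ * (τ * c * τ⁻¹) := fun y e => by
      calc τ * c * τ⁻¹ * (τ * y * τ⁻¹) = τ * (c * y) * τ⁻¹ := by group
        _ = _ := by rw [e]; group
    have hj : (τ * c * τ⁻¹) * j = j * (τ * c * τ⁻¹) := by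
      have := h1 i (q.comm_i c hc); rwa [h.tau_i] at this
    have hi : (τ * c * τ⁻¹) * i = i * (τ * c * τ⁻¹) := by
      have h2 := h1 j (q.comm_j c hc)
      rcases h.tau_j with e | e <;> rw [e] at h2
      · exact h2
      · have h3 : Commute (τ * c * τ⁻¹) i⁻¹ := h2
        simpa using h3.inv_right.eq
    rw [quatCent, mem_centralizer_iff]
    rintro y (rfl | rfl)
    · exact hi.symm
    · exact hj.symm
  set c' := τ * c * τ⁻¹ with hc'
  have hL : τ * (α x : G) * τ⁻¹ = rep i j (π (σ k)) * (sg (i * i) (fl b (σ k)) * c') := by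
    rw [hα x k c hc hxe, hc', show τ * (rep i j (σ k) * c) * τ⁻¹ = (τ * rep i j (σ k) * τ⁻¹) * (τ * c * τ⁻¹) by group,
      hb, mul_assoc]
  have hR : τ * (x : G) * τ⁻¹ = rep i j (π k) * (sg (i * i) (fl b k) * c') := by
    rw [hxe, hc', show τ * (rep i j k * c) * τ⁻¹ = (τ * rep i j k * τ⁻¹) * (τ * c * τ⁻¹) by group,
      hb, mul_assoc]
  have hcc : sg (i * i) (fl b k) * c' ∈ quatCent i j := mul_mem (sg_mem q _) hτc
  have h2 : ((α ^ 2) ⟨_, hx⟩ : G) = rep i j (σ (σ (π k))) * (sg (i * i) (fl b k) * c') := by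
    rw [pow_two, MulAut.mul_apply]
    exact hα _ _ _ hcc (hα _ _ _ hcc hR)
  obtain ⟨e1, e2, e3⟩ := flip_check b k
  rw [hL, h2, e1, e3, sg_mul q.zz, sg_mul q.zz]
  set m := σ (σ (π k))
  set v := rep i j (v0 b)
  have hv : v * rep i j m =
      rep i j m * (sg (i * i) (tb (v0 b) m).2 * sg (i * i) (tb m (v0 b)).2) * v := by
    rw [rep_mul q, e2, mul_assoc (rep i j m),
      comm_rep q (mul_mem (sg_mem q _) (sg_mem q _)), ← mul_assoc, rep_mul q, mul_assoc]
    congr 1
    rw [q.comm _ (sg_mem q (tb (v0 b) m).2) _ (sg_mem q (tb m (v0 b)).2), ← mul_assoc]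
    cases (tb m (v0 b)).2 <;> simp [sg, q.zz]
  calc rep i j m * (sg (i * i) (fl b k) * (sg (i * i) (tb (v0 b) m).2 * sg (i * i) (tb m (v0 b)).2) * c')
      = rep i j m * (sg (i * i) (tb (v0 b) m).2 * sg (i * i) (tb m (v0 b)).2) * (sg (i * i) (fl b k) * c') := by
        rw [q.comm _ (sg_mem q (fl b k)) _ (mul_mem (sg_mem q _) (sg_mem q _))]
        simp only [mul_assoc]
    _ = v * rep i j m * v⁻¹ * (sg (i * i) (fl b k) * c') := by rw [hv]; group
    _ = _ := by
        have : v⁻¹ * (sg (i * i) (fl b k) * c') = sg (i * i) (fl b k) * c' * v⁻¹ :=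
          (Commute.inv_left (show Commute v (sg (i * i) (fl b k) * c') from (comm_rep q hcc _).symm)).eq
        rw [mul_assoc (v * rep i j m), this]
        group

end QuatSys

open QuatSys in
/-- **Piece 5b of S5217.** -/
theorem stmtQuatSystem : StmtQuatSystem.{u} := by
  intro Ω _ S _ hS i j τ h hz
  have q := qc h hz
  set P₀ : Subgroup ↥S := quatProd i j
  obtain ⟨α₀, hα⟩ : ∃ α : MulAut ↥P₀,
      ∀ (x : ↥P₀) (k : Fin 4) (c : ↥S), c ∈ quatCent i j → (x : ↥S) = rep i j k * c →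
        (α x : ↥S) = rep i j (σ k) * c := exists_aut q
  set P : Subgroup Ω := P₀.map S.subtype with hPdef
  let e : ↥P₀ ≃* ↥P := P₀.equivMapOfInjective S.subtype S.subtype_injective
  set α : MulAut ↥P := MulAut.congr e α₀ with hαdef
  have hval : ∀ (β : MulAut ↥P₀) (x : ↥P₀), autFun (MulAut.congr e β) ((x : ↥S) : Ω) = ((β x : ↥S) : Ω) := by
    intro β x
    have hm : ((x : ↥S) : Ω) ∈ P := mem_map_of_mem S.subtype x.2
    rw [autFun_of_mem _ hm, show (⟨_, hm⟩ : ↥P) = e x from Subtype.ext rfl, MulAut.congr_apply,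
      MulEquiv.trans_apply, MulEquiv.trans_apply, MulEquiv.symm_apply_apply]
    rfl
  have hmemP : ∀ g : ↥S, (g : Ω) ∈ P ↔ g ∈ P₀ := fun g =>
    mem_map_iff_mem S.subtype_injective
  have hle : P ≤ S := Subgroup.map_subtype_le _
  have hlift : ∀ y ∈ P, ∃ x : ↥P₀, ((x : ↥S) : Ω) = y := fun y hy => by
    obtain ⟨x, hx, rfl⟩ := mem_map.1 hy
    exact ⟨⟨x, hx⟩, rfl⟩
  have hnorm : ∀ g : ↥S, (g : Ω) ∈ normalizer (P : Set Ω) ↔ g ∈ normalizer (P₀ : Set ↥S) := by
    intro g
    constructor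
    · intro hg
      rw [mem_normalizer_iff] at hg ⊢
      intro x
      rw [← hmemP, ← hmemP]
      exact hg x
    · intro hg
      haveI : Finite ↥P := finite_of_le hle
      refine Subgroup.mem_normalizer_fintype fun y hy => ?_
      obtain ⟨x, rfl⟩ := hlift y hy
      exact (hmemP (g * (x : ↥S) * g⁻¹)).2 ((mem_normalizer_iff.1 hg _).1 x.2)
  have hτN : τ ∈ normalizer (P₀ : Set ↥S) := h.norm.ge (mem_sup_right (mem_zpowers τ))
  have hCP : quatCent i j ≤ P₀ := le_sup_right
  have hiP : i ∈ P₀ := mem_sup_left (subset_closure (Or.inl rfl))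
  have hjP : j ∈ P₀ := mem_sup_left (subset_closure (Or.inr rfl))
  have D : Twist S P (τ : Ω) α := by
    refine ⟨hle, τ.2, fun hτ => tau_not h hz ((hmemP τ).1 hτ), (hnorm τ).2 hτN, ?_, ?_, ?_, ?_, ?_⟩
    · intro g hg
      obtain ⟨hgS, hc⟩ := mem_centralizerIn.1 hg
      refine (hmemP ⟨g, hgS⟩).2 (hCP ?_)
      rw [quatCent, mem_centralizer_iff]
      rintro x (rfl | rfl) <;> refine (Subtype.ext (cj_fixed_iff.1 (hc _ ?_)).symm)
      · exact (hmemP _).2 hiP
      · exact (hmemP _).2 hjP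
    · intro g hg hn
      rcases norm_cosets h ((hnorm ⟨g, hg⟩).1 hn) with h1 | h1
      · exact Or.inl ((hmemP _).2 h1)
      · exact Or.inr ((hmemP (τ⁻¹ * ⟨g, hg⟩)).2 h1)
    · rw [hαdef, ← map_pow]
      have : α₀ ^ 3 = 1 := MulEquiv.ext fun x => Subtype.ext (by
        obtain ⟨k, c, hc, hx⟩ := cover q x.2
        rw [pow_succ, pow_two, MulAut.mul_apply, MulAut.mul_apply]
        show ((α₀ (α₀ (α₀ x)) : ↥P₀) : ↥S) = _
        rw [hα _ _ _ hc (hα _ _ _ hc (hα x k c hc hx)), σ_cube]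
        exact hx.symm)
      rw [this, map_one]
    · intro hα1
      have h1 := hval α₀ ⟨i, hiP⟩
      rw [← hαdef, hα1, autFun_one ((hmemP i).2 hiP), hα ⟨i, hiP⟩ 1 1 (one_mem _) (mul_one _).symm] at h1
      have h2 : i = rep i j (σ 1) * 1 := Subtype.ext h1
      exact absurd (Quat.unique q (one_mem _) (one_mem _) ((show rep i j 1 * 1 = i from mul_one _).trans h2)).1
        (by decide)
    · obtain ⟨v, hv, hvx⟩ := twist_rel h hz hα
      refine ⟨(v : Ω), (hmemP v).2 hv, fun y hy => ?_⟩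
      obtain ⟨x, rfl⟩ := hlift y hy
      have hx : τ * (x : ↥S) * τ⁻¹ ∈ P₀ := (mem_normalizer_iff.1 hτN _).1 x.2
      rw [hval, show cj (τ : Ω) ((x : ↥S) : Ω) = (((⟨_, hx⟩ : ↥P₀) : ↥S) : Ω) from rfl, hαdef,
        ← map_pow, hval]
      exact congrArg Subtype.val (hvx x hx)
  refine noninner_of_twist hS D fun X hXP hXc φ hodd hfix => ?_
  have hXS : X ≤ S := hXP.le.trans hle
  haveI := finite_of_le hXS
  -- the centralizer lies in `X`
  have hCX : ∀ c ∈ quatCent i j, (c : Ω) ∈ X := fun c hc => hXc (mem_centralizerIn.2 ⟨c.2, fun y hy => by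
    obtain ⟨x, rfl⟩ := hlift y (hXP.le hy)
    obtain ⟨k, d, hd, hx⟩ := cover q x.2
    rw [cj, cj_fixed_iff]
    refine congrArg Subtype.val (show c * (x : ↥S) = (x : ↥S) * c from ?_)
    rw [hx, ← mul_assoc, comm_rep q hc, mul_assoc, q.comm c hc d hd, ← mul_assoc]⟩)
  have hform : ∀ y ∈ X, ∃ k, ∃ c ∈ quatCent i j, y = ((rep i j k * c : ↥S) : Ω) ∧
      ((rep i j k : ↥S) : Ω) ∈ X := fun y hy => by
    obtain ⟨x, rfl⟩ := hlift y (hXP.le hy)
    obtain ⟨k, c, hc, hx⟩ := cover q x.2
    rw [hx] at hy ⊢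
    exact ⟨k, c, hc, rfl, (mul_mem_cancel_right (hCX c hc)).1 hy⟩
  obtain ⟨k₀, hk₀, hk₀X⟩ : ∃ k, k ≠ 0 ∧ ((rep i j k : ↥S) : Ω) ∈ X := by
    by_contra hno
    push Not at hno
    have hiX : (i : Ω) ∈ X := hXc (mem_centralizerIn.2 ⟨i.2, fun y hy => by
      obtain ⟨k, c, hc, rfl, hk⟩ := hform y hy
      obtain rfl : k = 0 := by
        by_contra hk0
        exact hno k hk0 hk
      rw [cj, cj_fixed_iff]
      refine congrArg Subtype.val (show i * (rep i j 0 * c) = rep i j 0 * c * i from ?_)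
      simp [rep, q.comm_i c hc]⟩)
    exact hno 1 (by decide) hiX
  have honly : ∀ k, ((rep i j k : ↥S) : Ω) ∈ X → k = 0 ∨ k = k₀ := by
    intro k hk
    by_contra hne
    push Not at hne
    refine hXP.not_ge fun y hy => ?_
    obtain ⟨x, rfl⟩ := hlift y hy
    obtain ⟨m, c, hc, hx⟩ := cover q x.2
    rw [hx]
    refine X.mul_mem ?_ (hCX c hc)
    rcases cover_three k k₀ m hne.1 hk₀ hne.2 with rfl | rfl | rfl | rfl
    · simp [rep, X.one_mem]
    · exact hk
    · exact hk₀X
    · have h1 := X.mul_mem hk hk₀X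
      rw [← Subgroup.coe_mul, rep_mul q, Subgroup.coe_mul] at h1
      exact (mul_mem_cancel_right (hCX _ (sg_mem q _))).1 h1
  obtain ⟨w, hw, hwf⟩ := cent_form h hz
  have hzsq : rep i j k₀ * rep i j k₀ = i * i := by
    rw [rep_mul q, tb_sq k₀ hk₀]; simp [rep, sg]
  have hzX : ((i * i : ↥S) : Ω) ∈ X := hCX _ q.z_mem
  refine two_gen_aut (isPGroup_of_le hXS hS) ?_ (r := ⟨_, hk₀X⟩) (w := ⟨_, hCX w hw⟩) ?_ hodd
    (z := ⟨_, hzX⟩) ?_ ?_ ?_
  · rintro ⟨a, ha⟩ ⟨b, hb⟩
    obtain ⟨k, c, hc, rfl, hk⟩ := hform a ha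
    obtain ⟨l, d, hd, rfl, hl⟩ := hform b hb
    apply Subtype.ext
    show ((rep i j k * c * (rep i j l * d) : ↥S) : Ω) = ((rep i j l * d * (rep i j k * c) : ↥S) : Ω)
    refine congrArg Subtype.val ?_
    rw [mul_form q k l hc, mul_form q l k hd, q.comm c hc d hd]
    have hsymm : tb k l = tb l k := by
      rcases honly k hk with e | e <;> rcases honly l hl with e' | e' <;> rw [e, e'] <;>
        first
          | rfl
          | exact tb_zero k₀
          | exact (tb_zero k₀).symm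
    rw [hsymm]
  · rintro ⟨y, hy⟩
    obtain ⟨k, c, hc, rfl, hk⟩ := hform y hy
    obtain ⟨a, b, rfl⟩ := hwf c hc
    have hpow : rep i j k₀ ^ (2 * a) = (i * i) ^ a := by rw [zpow_mul, zpow_two, hzsq]
    rcases honly k hk with rfl | rfl
    · refine ⟨2 * a, b, Subtype.ext ?_⟩
      refine (congrArg Subtype.val (show rep i j 0 * ((i * i) ^ a * w ^ b) =
        rep i j k₀ ^ (2 * a) * w ^ b by rw [hpow]; simp [rep])).trans ?_
      simp only [Subgroup.coe_mul, Subgroup.coe_zpow]
    · refine ⟨1 + 2 * a, b, Subtype.ext ?_⟩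
      refine (congrArg Subtype.val (show rep i j k * ((i * i) ^ a * w ^ b) =
        rep i j k ^ (1 + 2 * a) * w ^ b by rw [zpow_add, zpow_one, hpow, mul_assoc])).trans ?_
      simp only [Subgroup.coe_mul, Subgroup.coe_zpow]
  · intro e
    have e' : ((i * i : ↥S) : Ω) = 1 := congrArg Subtype.val e
    have h1 : i * i = 1 := Subtype.ext e'
    have h2 := orderOf_dvd_of_pow_eq_one (show i ^ 2 = 1 by rw [pow_two, h1])
    rw [h.order_i] at h2
    omega
  · apply Subtype.ext
    show ((i * i * (i * i) : ↥S) : Ω) = ((1 : ↥S) : Ω)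
    exact congrArg Subtype.val q.zz
  · refine Subtype.ext ?_
    rw [← autFun_coe]
    refine hfix _ hzX (fun s hs => congrArg Subtype.val ((mem_center_iff.1 hz) ⟨s, hs⟩)) ?_
    have h1 := hval α₀ ⟨i * i, hCP q.z_mem⟩
    rw [← hαdef, hα ⟨i * i, hCP q.z_mem⟩ 0 (i * i) q.z_mem (by simp [rep])] at h1
    simpa [rep, σ] using h1

end CfsgLib.Bicyclic
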