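import Cfsg.Agent.Lib.Bicyclic.Defs
import Cfsg.Agent.Lib.PGroups.Basic
import Cfsg.Agent.Lib.FgsC.MetacyclicRankTwo
import Cfsg.Agent.Lib.Fusion.MetacyclicClosedTwo
import Cfsg.Agent.Lib.OddOrder.MetacyclicAction

/-!
# The shape of a bicyclic non-metacyclic 2-group (S5217, piece 1)

`G = ⟨x⟩⟨y⟩`, `R` of index two in `G'` and normal, `z` the generator of `G'/R`.  Metacyclicity
lifts from `G/R`: so `z` is no even power of a generator, whence `z = x^(2i) y^(2j)` modulo `R`
needs `i`, `j` odd and `b = x^i y^j` squares into `R`.  The maximal subgroups `⟨x⟩⟨y²⟩` and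
`⟨y⟩⟨x²⟩` are bicyclic, and the same parity statement, pushed through conjugation by `y`, makes
them metacyclic.
-/

set_option autoImplicit false
set_option linter.unusedSectionVars false
set_option linter.style.haveILetI false

namespace CfsgLib.Bicyclic.ShapeProof

open Cfsg Subgroup
open CfsgLib.FgsC.MetaTwo (metacyclic_of_two_gen mem_zpowers_of_odd_zpow zpow_eq_one_of_even
  zpow_eq_self_of_odd)
open scoped commutatorElement

universe u

variable {G : Type u} [Group G]

/-- Membership in a subgroup of half the order. -/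
theorem mul_mem_half [Finite G] {A B : Subgroup G} (h : A ≤ B)
    (hc : Nat.card B = 2 * Nat.card A) {v w : G} (hv : v ∈ B) (hw : w ∈ B) :
    v * w ∈ A ↔ (v ∈ A ↔ w ∈ A) := by
  have h2 : (A.subgroupOf B).index = 2 := by
    have h1 := (A.subgroupOf B).card_mul_index
    rw [Nat.card_congr (subgroupOfEquivOfLe h).toEquiv, hc, mul_comm 2] at h1
    exact Nat.eq_of_mul_eq_mul_left Nat.card_pos h1
  simpa [mem_subgroupOf] using mul_mem_iff_of_index_two h2 (a := ⟨v, hv⟩) (b := ⟨w, hw⟩)

/-- A normal subgroup of twice the order of a normal subgroup is central modulo it. -/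
theorem comm_mem_half [Finite G] {A B : Subgroup G} [hA : A.Normal] [hB : B.Normal] (h : A ≤ B)
    (hc : Nat.card B = 2 * Nat.card A) {v : G} (hv : v ∈ B) (w : G) : ⁅w, v⁆ ∈ A := by
  rw [commutatorElement_def, mul_mem_half h hc (hB.conj_mem v hv w) (inv_mem hv), inv_mem_iff]
  constructor
  · intro h1
    simpa [mul_assoc] using hA.conj_mem _ h1 w⁻¹
  · exact fun h1 => hA.conj_mem v h1 w

/-- Commuting generators modulo a normal subgroup. -/
theorem commutator_le_of_gens {g h : G} (hgen : closure {g, h} = ⊤) {N : Subgroup G} [N.Normal]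
    (hc : Commute (QuotientGroup.mk' N g) (QuotientGroup.mk' N h)) : commutator G ≤ N := by
  have hw : ∀ w : G, Commute (QuotientGroup.mk' N g) (QuotientGroup.mk' N w) ∧
      Commute (QuotientGroup.mk' N h) (QuotientGroup.mk' N w) := by
    intro w
    have hw : w ∈ closure ({g, h} : Set G) := hgen ▸ mem_top w
    induction hw using closure_induction with
    | mem w hw =>
      rcases hw with rfl | rfl
      · exact ⟨Commute.refl _, hc.symm⟩
      · exact ⟨hc, Commute.refl _⟩
    | one => simp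
    | mul a b _ _ ha hb =>
      simp only [map_mul]; exact ⟨ha.1.mul_right hb.1, ha.2.mul_right hb.2⟩
    | inv a _ ha => simp only [map_inv]; exact ⟨ha.1.inv_right, ha.2.inv_right⟩
  refine Normal.quotient_commutative_iff_commutator_le.1 ⟨⟨fun p q => ?_⟩⟩
  induction q using QuotientGroup.induction_on with
  | H v =>
    induction p using QuotientGroup.induction_on with
    | H u =>
      have hu : u ∈ closure ({g, h} : Set G) := hgen ▸ mem_top u
      show QuotientGroup.mk' N u * QuotientGroup.mk' N v =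
        QuotientGroup.mk' N v * QuotientGroup.mk' N u
      induction hu using closure_induction with
      | mem u hu =>
        rcases hu with rfl | rfl
        · exact (hw v).1
        · exact (hw v).2
      | one => simp
      | mul a b _ _ ha hb => simp only [map_mul]; exact Commute.mul_left ha hb
      | inv a _ ha => simp only [map_inv]; exact Commute.inv_left ha

/-- A generator an even power of which generates the derived subgroup modulo a normal subgroup of
index two generates a normal subgroup. -/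
theorem crit [Finite G] (hG : IsPGroup 2 G) {g h : G} (hgen : closure {g, h} = ⊤) {R : Subgroup G}
    [R.Normal] (hR : R ≤ commutator G) (hidx : Nat.card (commutator G) = 2 * Nat.card R) {n : ℤ}
    (hn : Even n) (hgn : g ^ n ∈ commutator G) (hgR : g ^ n ∉ R) : IsMetacyclic G := by
  haveI : Fact (Nat.Prime 2) := ⟨Nat.prime_two⟩
  set F : Subgroup G := (frattini (commutator G)).map (commutator G).subtype with hF
  haveI : F.Normal := inferInstanceAs ((frattini (commutator G)).map (commutator G).subtype).Normal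
  have hFR : F ≤ R := by
    rw [hF, Subgroup.map_le_iff_le_comap]
    refine frattini_le_coatom (PGroups.isCoatom_of_index_eq_prime (p := 2) ?_)
    have h1 := (R.subgroupOf (commutator G)).card_mul_index
    rw [Nat.card_congr (subgroupOfEquivOfLe hR).toEquiv, hidx, mul_comm 2] at h1
    exact Nat.eq_of_mul_eq_mul_left Nat.card_pos h1
  have hRF : R ≤ F := by
    by_contra hnot
    obtain ⟨a, ha⟩ := PGroups.card_subgroup_eq_pow (p := 2) hG R
    obtain ⟨b, hb⟩ := PGroups.card_subgroup_eq_pow (p := 2) hG F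
    have hba : b < a := by
      have h1 : Nat.card F < Nat.card R := lt_of_le_of_ne (card_le_of_le hFR)
        fun e => hnot (eq_of_le_of_card_ge hFR e.ge).ge
      rw [ha, hb] at h1
      exact (Nat.pow_lt_pow_iff_right one_lt_two).1 h1
    obtain ⟨T, hT, hFT, hTR, hTc⟩ := PGroups.exists_normal_card_eq (p := 2) hG
      (N := F) (M := R) hFR (k := a - 1)
      (by rw [hb]; exact Nat.pow_le_pow_right two_pos (by omega))
      (by rw [ha]; exact Nat.pow_le_pow_right two_pos (by omega))
    haveI := hT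
    have hcard : Nat.card R = 2 * Nat.card T := by
      rw [ha, hTc, ← pow_succ']
      congr 1; omega
    set π := QuotientGroup.mk' T
    have hπ : ∀ v, π v = 1 ↔ v ∈ T := fun v => QuotientGroup.eq_one_iff v
    have hRcen : ∀ r ∈ R, ∀ w : G, Commute (π w) (π r) := fun r hr w => by
      have h1 := (hπ _).2 (comm_mem_half hTR hcard hr w)
      rwa [map_commutatorElement, commutatorElement_eq_one_iff_mul_comm] at h1
    have hsq : ∀ v ∈ commutator G, π v * π v = 1 := fun v hv => by
      rw [← map_mul, hπ]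
      exact hFT ⟨⟨v, hv⟩ ^ 2, PGroups.pow_mem_frattini (hG.to_subgroup _) _, by simp [pow_two]⟩
    -- a commuting element commutes with the whole derived subgroup modulo `T`
    have hall : ∀ w : G, Commute (π w) (π g ^ n) → ∀ v ∈ commutator G, Commute (π w) (π v) := by
      intro w hw v hv
      by_cases hvR : v ∈ R
      · exact hRcen v hvR w
      · have h1 : (g ^ n)⁻¹ * v ∈ R := (mul_mem_half hR hidx (inv_mem hgn) hv).2
          (by simp [inv_mem_iff, hgR, hvR])
        rw [show v = g ^ n * ((g ^ n)⁻¹ * v) by group, map_mul, map_zpow]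
        exact hw.mul_right (hRcen _ h1 w)
    set d := ⁅h, g⁆ with hd
    have hdG : d ∈ commutator G := commutator_mem_commutator (mem_top h) (mem_top g)
    have hgd : Commute (π g) (π d) := hall g ((Commute.refl _).zpow_right n) d hdG
    have hcn : Commute (π h) (π g ^ n) := by
      have h1 : π h * π g ^ n * (π h)⁻¹ = π g ^ n := by
        rw [← conj_zpow, show π h * π g * (π h)⁻¹ = π d * π g by
          rw [hd, commutatorElement_def]; simp [mul_assoc], hgd.symm.mul_zpow]
        obtain ⟨k, rfl⟩ := hn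
        rw [← two_mul, zpow_mul (π d), zpow_two, hsq d hdG, one_zpow, one_mul]
      exact mul_inv_eq_iff_eq_mul.1 h1
    have hdc : ∀ w : G, Commute (π w) (π d) := by
      intro w
      have hw : w ∈ closure ({g, h} : Set G) := hgen ▸ mem_top w
      induction hw using closure_induction with
      | mem w hw =>
        rcases hw with rfl | rfl
        · exact hgd
        · exact hall _ hcn d hdG
      | one => simp
      | mul a b _ _ ha hb => rw [map_mul]; exact ha.mul_left hb
      | inv a _ ha => rw [map_inv]; exact ha.inv_left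
    haveI : (zpowers (π d)).Normal := PGroups.normal_of_le_center (by
      rw [zpowers_le, mem_center_iff]
      intro q
      induction q using QuotientGroup.induction_on with
      | H w => exact hdc w)
    have hD : commutator G ≤ (zpowers (π d)).comap π := by
      refine commutator_le_of_gens hgen ?_
      refine (commutatorElement_eq_one_iff_mul_comm.1 ?_).symm
      rw [← map_commutatorElement]
      exact (QuotientGroup.eq_one_iff _).2 (mem_comap.2 (mem_zpowers _))
    have h2 : Nat.card ((commutator G).map π) ≤ 2 := by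
      refine (card_le_of_le (Subgroup.map_le_iff_le_comap.2 hD)).trans ?_
      rw [Nat.card_zpowers]
      exact orderOf_le_of_pow_eq_one two_pos (by rw [pow_two, hsq d hdG])
    have h4 : Nat.card ((commutator G).map π) * Nat.card T = Nat.card (commutator G) := by
      have h1 := Subgroup.card_eq_card_quotient_mul_card_subgroup (T.subgroupOf (commutator G))
      rw [Nat.card_congr (subgroupOfEquivOfLe (hTR.trans hR)).toEquiv] at h1
      rw [h1]
      congr 1
      have e := QuotientGroup.quotientKerEquivRange (π.comp (commutator G).subtype)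
      have hker : (π.comp (commutator G).subtype).ker = T.subgroupOf (commutator G) := by
        ext v; simp [π, mem_subgroupOf]
      rw [MonoidHom.range_comp, range_subtype] at e
      rw [← Nat.card_congr e.toEquiv, hker]
    rw [hidx, hcard] at h4
    have hpos : 0 < Nat.card T := Nat.card_pos
    nlinarith
  -- the derived subgroup is cyclic
  have htop : zpowers (⟨g ^ n, hgn⟩ : commutator G) ⊔ frattini (commutator G) = ⊤ := by
    rw [eq_top_iff]
    rintro ⟨v, hv⟩ -
    have hmem : ∀ r, (hr : r ∈ R) → (⟨r, hR hr⟩ : commutator G) ∈ frattini (commutator G) := by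
      intro r hr
      obtain ⟨w, hw, hwr⟩ := hRF hr
      rwa [show (⟨r, hR hr⟩ : commutator G) = w from Subtype.ext hwr.symm]
    by_cases hvR : v ∈ R
    · exact mem_sup_right (hmem v hvR)
    · have h1 : (g ^ n)⁻¹ * v ∈ R := (mul_mem_half hR hidx (inv_mem hgn) hv).2
        (by simp [inv_mem_iff, hgR, hvR])
      rw [show (⟨v, hv⟩ : commutator G) = ⟨g ^ n, hgn⟩ * ⟨(g ^ n)⁻¹ * v, hR h1⟩ from
        Subtype.ext (mul_inv_cancel_left _ _).symm]
      exact mul_mem (mem_sup_left (mem_zpowers _)) (mem_sup_right (hmem _ h1))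
  refine metacyclic_of_two_gen hgen (Normal.of_commutator_le G fun v hv => ?_)
  obtain ⟨k, hk⟩ := mem_zpowers_iff.1 ((frattini_nongenerating htop).ge (mem_top ⟨v, hv⟩))
  refine mem_zpowers_iff.2 ⟨n * k, ?_⟩
  rw [zpow_mul]
  exact congrArg Subtype.val hk

/-! ### A product of two cyclic groups modulo `R` -/

/-- The data of a bicyclic group: `R` is normal of index two in the derived subgroup. -/
structure Data (G : Type u) [Group G] (x y : G) (R : Subgroup G) : Prop where
  pgroup : IsPGroup 2 G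
  mem : ∀ g : G, ∃ i j : ℤ, g = x ^ i * y ^ j
  le : R ≤ commutator G
  card : Nat.card (commutator G) = 2 * Nat.card R
  not_meta : ¬ IsMetacyclic G

theorem closure_eq_top {x y : G} (h : ∀ g : G, ∃ i j : ℤ, g = x ^ i * y ^ j) :
    closure ({x, y} : Set G) = ⊤ := by
  rw [eq_top_iff]
  intro g _
  obtain ⟨i, j, rfl⟩ := h g
  exact mul_mem (zpow_mem (subset_closure (by simp)) _) (zpow_mem (subset_closure (by simp)) _)

variable [Finite G] {x y : G} {R : Subgroup G}

/-- The image of the commutator of the generators. -/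
def zeta (R : Subgroup G) [R.Normal] (x y : G) : G ⧸ R := QuotientGroup.mk' R ⁅y, x⁆

theorem Data.zeta_props [R.Normal] (D : Data G x y R) :
    zeta R x y * zeta R x y = 1 ∧ zeta R x y ≠ 1 ∧ (∀ q, Commute q (zeta R x y)) ∧
      ∀ v ∈ commutator G, v ∉ R → QuotientGroup.mk' R v = zeta R x y := by
  have hy : ⁅y, x⁆ ∈ commutator G := commutator_mem_commutator (mem_top y) (mem_top x)
  have hyR : ⁅y, x⁆ ∉ R := by
    intro h
    have h1 : commutator G ≤ R := by
      refine commutator_le_of_gens (closure_eq_top D.mem) ?_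
      refine (commutatorElement_eq_one_iff_mul_comm.1 ?_).symm
      rw [← map_commutatorElement, QuotientGroup.mk'_apply, QuotientGroup.eq_one_iff]
      exact h
    have h2 := card_le_of_le h1
    have := D.card
    have : 0 < Nat.card R := Nat.card_pos
    omega
  refine ⟨?_, ?_, ?_, ?_⟩
  · rw [zeta, ← map_mul, QuotientGroup.mk'_apply, QuotientGroup.eq_one_iff]
    exact (mul_mem_half D.le D.card hy hy).2 Iff.rfl
  · rw [zeta, Ne, QuotientGroup.mk'_apply, QuotientGroup.eq_one_iff]
    exact hyR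
  · intro q
    induction q using QuotientGroup.induction_on with
    | H w =>
      refine commutatorElement_eq_one_iff_mul_comm.1 ?_
      rw [zeta, ← QuotientGroup.mk'_apply, ← map_commutatorElement, QuotientGroup.mk'_apply,
        QuotientGroup.eq_one_iff]
      exact comm_mem_half D.le D.card hy w
  · intro v hv hvR
    refine inv_mul_eq_one.1 ?_
    rw [zeta, ← map_inv, ← map_mul, QuotientGroup.mk'_apply, QuotientGroup.eq_one_iff]
    exact (mul_mem_half D.le D.card (inv_mem hv) hy).2 (by simp [inv_mem_iff, hvR, hyR])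

theorem Data.conj [R.Normal] (D : Data G x y R) (i j : ℤ) :
    QuotientGroup.mk' R y ^ j * QuotientGroup.mk' R x ^ i =
      QuotientGroup.mk' R x ^ i * QuotientGroup.mk' R y ^ j * zeta R x y ^ (i * j) := by
  obtain ⟨-, -, hc, -⟩ := D.zeta_props
  set X := QuotientGroup.mk' R x
  set Y := QuotientGroup.mk' R y
  set z := zeta R x y with hz
  have h1 : Y * X * Y⁻¹ = X * z := by
    rw [hc X, hz, zeta, commutatorElement_def]
    simp [X, Y, mul_assoc]
  have h2 : X ^ i * z ^ i = Y * X ^ i * Y⁻¹ := by rw [← conj_zpow, h1, (hc X).mul_zpow]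
  -- the same for every power of `Y`
  have h3 : (X ^ i)⁻¹ * Y * X ^ i = Y * z ^ i := by
    rw [mul_assoc, show Y * X ^ i = X ^ i * z ^ i * Y by rw [h2, inv_mul_cancel_right],
      mul_assoc (X ^ i), inv_mul_cancel_left, ((hc Y).zpow_right i).eq]
  have h4 : ((X ^ i)⁻¹ * Y * X ^ i) ^ j = (X ^ i)⁻¹ * Y ^ j * X ^ i := by
    have := conj_zpow (a := (X ^ i)⁻¹) (b := Y) (i := j)
    rwa [inv_inv] at this
  rw [h3, ((hc Y).zpow_right i).mul_zpow, ← zpow_mul] at h4
  rw [mul_assoc (X ^ i), h4, ← mul_assoc, ← mul_assoc, mul_inv_cancel, one_mul]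

theorem Data.sq [R.Normal] (D : Data G x y R) (i j : ℤ) :
    QuotientGroup.mk' R (x ^ i * y ^ j) * QuotientGroup.mk' R (x ^ i * y ^ j) =
      QuotientGroup.mk' R x ^ (2 * i) * QuotientGroup.mk' R y ^ (2 * j) * zeta R x y ^ (i * j) := by
  obtain ⟨-, -, hc, -⟩ := D.zeta_props
  set X := QuotientGroup.mk' R x
  set Y := QuotientGroup.mk' R y
  set z := zeta R x y
  rw [map_mul, map_zpow, map_zpow]
  calc X ^ i * Y ^ j * (X ^ i * Y ^ j) = X ^ i * (Y ^ j * X ^ i) * Y ^ j := by group
    _ = X ^ i * X ^ i * Y ^ j * (z ^ (i * j) * Y ^ j) := by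
        rw [show Y ^ j * X ^ i = X ^ i * Y ^ j * z ^ (i * j) from D.conj i j]; group
    _ = _ := by
      rw [← ((hc (Y ^ j)).zpow_right (i * j)).eq, ← zpow_add, ← mul_assoc,
        mul_assoc (X ^ (i + i)), ← zpow_add, two_mul, two_mul]

theorem odd_gen (hG : IsPGroup 2 G) (hgen : closure {x, y} = ⊤) {i j : ℤ} (hj : Odd j) :
    closure ({x ^ i * y ^ j, x} : Set G) = ⊤ := by
  rw [eq_top_iff, ← hgen, closure_le]
  rintro v (rfl | rfl)
  · exact subset_closure (by simp)
  · refine (zpowers_le.2 ?_) (mem_zpowers_of_odd_zpow hG hj)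
    rw [show v ^ j = (x ^ i)⁻¹ * (x ^ i * v ^ j) by group]
    exact mul_mem (inv_mem (zpow_mem (subset_closure (by simp)) _)) (subset_closure (by simp))

theorem odd_gen' (hG : IsPGroup 2 G) (hgen : closure {x, y} = ⊤) {i j : ℤ} (hi : Odd i) :
    closure ({x ^ i * y ^ j, y} : Set G) = ⊤ := by
  rw [eq_top_iff, ← hgen, closure_le]
  rintro v (rfl | rfl)
  · refine (zpowers_le.2 ?_) (mem_zpowers_of_odd_zpow hG hi)
    rw [show v ^ i = v ^ i * y ^ j * (y ^ j)⁻¹ by group]
    exact mul_mem (subset_closure (by simp)) (inv_mem (zpow_mem (subset_closure (by simp)) _))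
  · exact subset_closure (by simp)

/-- no generator has an even power outside `R` in the derived subgroup -/
theorem Data.no_pow [R.Normal] (D : Data G x y R) {g h : G} (hgen : closure {g, h} = ⊤) {n : ℤ}
    (hn : Even n) : QuotientGroup.mk' R g ^ n ≠ zeta R x y := by
  obtain ⟨-, h1, -, -⟩ := D.zeta_props
  intro he
  rw [← map_zpow] at he
  have hm : g ^ n ∈ commutator G := by
    have hv : (g ^ n)⁻¹ * ⁅y, x⁆ ∈ R := QuotientGroup.eq.1 he
    have := mul_mem (commutator_mem_commutator (mem_top y) (mem_top x)) (inv_mem (D.le hv))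
    rwa [mul_inv_rev, inv_inv, mul_inv_cancel_left] at this
  refine D.not_meta (crit D.pgroup hgen D.le D.card hn hm fun hR => h1 ?_)
  rw [← he, QuotientGroup.mk'_apply, QuotientGroup.eq_one_iff]
  exact hR

/-- `z` is a product of two squares of odd powers only. -/
theorem Data.both_odd [R.Normal] (D : Data G x y R) : ∀ (m : ℕ) (e : ℕ) (i j : ℤ),
    i.natAbs + j.natAbs ≤ m →
    QuotientGroup.mk' R x ^ (2 ^ (e + 1) * i) * QuotientGroup.mk' R y ^ (2 ^ (e + 1) * j) =
      zeta R x y → e = 0 ∧ Odd i ∧ Odd j := by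
  obtain ⟨hzz, hz1, hc, -⟩ := D.zeta_props
  set X := QuotientGroup.mk' R x with hX
  set Y := QuotientGroup.mk' R y with hY
  set z := zeta R x y with hz
  intro m
  induction m with
  | zero =>
    intro e i j hm he
    obtain ⟨rfl, rfl⟩ : i = 0 ∧ j = 0 := by omega
    simp only [mul_zero, zpow_zero, mul_one] at he
    exact absurd he.symm hz1
  | succ m ih =>
    intro e i j hm he
    by_cases hev : Even i ∧ Even j
    · obtain ⟨⟨i', rfl⟩, ⟨j', rfl⟩⟩ := hev
      rcases eq_or_ne (i'.natAbs + j'.natAbs) 0 with h0 | h0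
      · obtain ⟨rfl, rfl⟩ : i' = 0 ∧ j' = 0 := by omega
        simp only [add_zero, mul_zero, zpow_zero, mul_one] at he
        exact absurd he.symm hz1
      · have h := ih (e + 1) i' j' (by omega) (by
          rw [← he]; congr 2 <;> (rw [pow_succ (2 : ℤ) (e + 1)]; ring))
        exact absurd h.1 (by omega)
    by_cases hgood : e = 0 ∧ Odd i ∧ Odd j
    · exact hgood
    exfalso
    set g := x ^ i * y ^ j with hg
    have hg2 : QuotientGroup.mk' R g ^ ((2 : ℤ) ^ (e + 1)) =
        z * z ^ (i * j * (2 : ℤ) ^ e) := by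
      rw [pow_succ', zpow_mul, zpow_two, D.sq i j, ← hz, ← hX, ← hY]
      have hs : ∀ (k l : ℤ), Commute (X ^ (2 * k)) (Y ^ (2 * l)) := fun k l => by
        show X ^ (2 * k) * Y ^ (2 * l) = Y ^ (2 * l) * X ^ (2 * k)
        rw [D.conj, ← hz, show 2 * k * (2 * l) = 2 * (2 * k * l) by ring, zpow_mul z, zpow_two, hzz,
          one_zpow, mul_one]
      rw [(((hc _).zpow_right _)).mul_zpow, (hs i j).mul_zpow, ← zpow_mul, ← zpow_mul, ← zpow_mul,
        ← he]
      congr 2 <;> (congr 1; rw [pow_succ (2 : ℤ) e]; ring)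
    have heven : z ^ (i * j * (2 : ℤ) ^ e) = 1 := by
      refine zpow_eq_one_of_even hzz ?_
      rcases e with _ | e
      · rw [pow_zero, mul_one, Int.even_mul]
        simp only [true_and, not_and, ← Int.not_even_iff_odd] at hgood
        tauto
      · exact ((Int.even_pow.2 ⟨even_two, by omega⟩)).mul_left _
    rw [heven, mul_one] at hg2
    have hgen := closure_eq_top D.mem
    have h2 : Even ((2 : ℤ) ^ (e + 1)) := Int.even_pow.2 ⟨even_two, by omega⟩
    rcases not_and_or.1 hev with hi | hj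
    · exact D.no_pow (odd_gen' D.pgroup hgen (j := j) (Int.not_even_iff_odd.1 hi)) h2 hg2
    · exact D.no_pow (odd_gen D.pgroup hgen (i := i) (Int.not_even_iff_odd.1 hj)) h2 hg2

/-- the pair -/
theorem Data.odd_pair [R.Normal] (D : Data G x y R) {i j : ℤ}
    (he : QuotientGroup.mk' R x ^ (2 * i) * QuotientGroup.mk' R y ^ (2 * j) = zeta R x y) :
    Odd i ∧ Odd j :=
  (D.both_odd (i.natAbs + j.natAbs) 0 i j le_rfl (by simpa using he)).2

theorem not_isCyclic_of_not_meta (h : ¬ IsMetacyclic G) : ¬ IsCyclic G := by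
  intro hc
  obtain ⟨g, hg⟩ := IsCyclic.exists_generator (α := G)
  exact h (metacyclic_of_two_gen (x := g) (y := g) (eq_top_iff.2 fun v _ =>
    (zpowers_le.2 (subset_closure (by simp))) (hg v))
    ⟨fun v _ w => hg _⟩)

theorem Data.exists_sq [R.Normal] (D : Data G x y R) : ∃ i j : ℤ, Odd i ∧ Odd j ∧
    QuotientGroup.mk' R x ^ (2 * i) * QuotientGroup.mk' R y ^ (2 * j) = zeta R x y := by
  haveI : Fact (Nat.Prime 2) := ⟨Nat.prime_two⟩
  set c := ⁅y, x⁆ with hc
  obtain ⟨I, J, hIJ⟩ := D.mem c
  have hcF : c ∈ frattini G :=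
    PGroups.commutator_le_frattini (p := 2) D.pgroup (commutator_mem_commutator (mem_top y) (mem_top x))
  have hncyc := not_isCyclic_of_not_meta D.not_meta
  have hgen := closure_eq_top D.mem
  -- neither generator lies in the join of the other with the Frattini subgroup
  have hsingle : ∀ v w : G, closure ({v, w} : Set G) = ⊤ → v ∉ zpowers w ⊔ frattini G := by
    intro v w hvw hv
    refine hncyc (isCyclic_iff_exists_zpowers_eq_top.2 ⟨w, frattini_nongenerating ?_⟩)
    rw [eq_top_iff, ← hvw, closure_le]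
    rintro u (rfl | rfl)
    · exact hv
    · exact mem_sup_left (mem_zpowers _)
  have hI : Even I := by
    by_contra hI
    rw [Int.not_even_iff_odd] at hI
    refine hsingle x y hgen ((zpowers_le.2 ?_) (mem_zpowers_of_odd_zpow D.pgroup hI))
    rw [show x ^ I = c * (y ^ J)⁻¹ by rw [hIJ]; group]
    exact mul_mem (mem_sup_right hcF) (inv_mem (zpow_mem (mem_sup_left (mem_zpowers y)) _))
  have hJ : Even J := by
    by_contra hJ
    rw [Int.not_even_iff_odd] at hJ
    refine hsingle y x (by rw [Set.pair_comm]; exact hgen)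
      ((zpowers_le.2 ?_) (mem_zpowers_of_odd_zpow D.pgroup hJ))
    rw [show y ^ J = (x ^ I)⁻¹ * c by rw [hIJ]; group]
    exact mul_mem (inv_mem (zpow_mem (mem_sup_left (mem_zpowers x)) _)) (mem_sup_right hcF)
  obtain ⟨i, rfl⟩ := hI
  obtain ⟨j, rfl⟩ := hJ
  have he : QuotientGroup.mk' R x ^ (2 * i) * QuotientGroup.mk' R y ^ (2 * j) = zeta R x y := by
    rw [← map_zpow, ← map_zpow, ← map_mul, zeta, ← hc, hIJ, two_mul, two_mul]
  exact ⟨i, j, (D.odd_pair he).1, (D.odd_pair he).2, he⟩

/-! ### The maximal subgroups through a generator -/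

/-- a normal subgroup of index two in the derived subgroup of a normal subgroup -/
theorem exists_half (hG : IsPGroup 2 G) (N : Subgroup G) [N.Normal] (hne : N ≠ ⊥) :
    ∃ R : Subgroup G, R.Normal ∧ R ≤ N ∧ Nat.card N = 2 * Nat.card R := by
  haveI : Fact (Nat.Prime 2) := ⟨Nat.prime_two⟩
  obtain ⟨a, ha⟩ := PGroups.card_subgroup_eq_pow (p := 2) hG N
  have ha0 : a ≠ 0 := fun h => hne (Subgroup.card_eq_one.1 (by rw [ha, h, pow_zero]))
  obtain ⟨R, hR, -, hRN, hc⟩ := PGroups.exists_normal_card_eq (p := 2) hG (N := (⊥ : Subgroup G))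
    (M := N) bot_le (k := a - 1) (by rw [Subgroup.card_bot]; exact Nat.one_le_two_pow)
    (by rw [ha]; exact Nat.pow_le_pow_right two_pos (by omega))
  refine ⟨R, hR, hRN, ?_⟩
  rw [ha, hc, ← pow_succ']
  congr 1; omega

theorem mem_of_swap (h : ∀ g : G, ∃ i j : ℤ, g = x ^ i * y ^ j) :
    ∀ g : G, ∃ i j : ℤ, g = y ^ i * x ^ j := fun g => by
  obtain ⟨i, j, hij⟩ := h g⁻¹
  exact ⟨-j, -i, by rw [← inv_inv g, hij, mul_inv_rev, zpow_neg, zpow_neg]⟩

theorem zpow_mem_iff_even {K : Subgroup G} (hK : K.index = 2) {v : G} (hv : v ∉ K) {j : ℤ} :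
    v ^ j ∈ K ↔ Even j := by
  constructor
  · intro h
    by_contra hj
    obtain ⟨k, rfl⟩ := Int.not_even_iff_odd.1 hj
    rw [zpow_add_one, zpow_mul, zpow_two] at h
    exact hv ((K.mul_mem_cancel_left
      (zpow_mem ((mul_mem_iff_of_index_two hK).2 Iff.rfl) k)).1 h)
  · rintro ⟨k, rfl⟩
    rw [← two_mul, zpow_mul, zpow_two]
    exact zpow_mem ((mul_mem_iff_of_index_two hK).2 Iff.rfl) k

/-- A subgroup of index two through a generator is metacyclic. -/
theorem meta_of_gen (hG : IsPGroup 2 G) (hmem : ∀ g : G, ∃ i j : ℤ, g = x ^ i * y ^ j)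
    {K : Subgroup G} (hK : K.index = 2) (hx : x ∈ K) (hy : y ∉ K) : IsMetacyclic ↥K := by
  by_contra hm
  haveI : Fact (Nat.Prime 2) := ⟨Nat.prime_two⟩
  haveI hKn : K.Normal := normal_of_index_eq_two hK
  have hyy : y * y ∈ K := (mul_mem_iff_of_index_two hK).2 Iff.rfl
  set v : K := ⟨x, hx⟩
  set u : K := ⟨y * y, hyy⟩
  have hKmem : ∀ g : K, ∃ i j : ℤ, g = v ^ i * u ^ j := by
    intro g
    obtain ⟨i, j, hij⟩ := hmem g
    obtain ⟨k, rfl⟩ := (zpow_mem_iff_even hK hy).1
      ((K.mul_mem_cancel_left (zpow_mem hx i)).1 (hij ▸ g.2))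
    refine ⟨i, k, Subtype.ext ?_⟩
    rw [hij, ← two_mul, zpow_mul, zpow_two]
    rfl
  have hK' : commutator K ≠ ⊥ := by
    intro h
    refine hm (metacyclic_of_two_gen (closure_eq_top hKmem) (Normal.of_commutator_le _ ?_))
    rw [h]; exact bot_le
  haveI : ((commutator K).map K.subtype).Normal :=
    inferInstanceAs ((commutator K).map K.subtype).Normal
  obtain ⟨R₀, hR₀n, hR₀, hR₀c⟩ := exists_half hG ((commutator K).map K.subtype)
    (fun h => hK' (by rwa [map_eq_bot_iff_of_injective _ K.subtype_injective] at h))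
  haveI := hR₀n
  set R : Subgroup K := R₀.subgroupOf K
  have hR₀K : R₀ ≤ K := hR₀.trans (map_subtype_le _)
  have D : Data ↥K v u R := by
    refine ⟨hG.to_subgroup K, hKmem, fun r hr => ?_, ?_, hm⟩
    · obtain ⟨w, hw, hwr⟩ := hR₀ hr
      rwa [← show w = r from Subtype.ext hwr]
    · rw [Nat.card_congr (subgroupOfEquivOfLe hR₀K).toEquiv, ← hR₀c,
        card_map_of_injective K.subtype_injective]
  -- conjugation by `y`
  let σ : K →* K :=
    { toFun := fun k => ⟨y * k * y⁻¹, hKn.conj_mem _ k.2 y⟩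
      map_one' := by ext; simp
      map_mul' := fun a b => by ext; simp [mul_assoc] }
  have hσR : ∀ r ∈ R, σ r ∈ R := fun r hr => hR₀n.conj_mem _ hr y
  let τ : K ⧸ R →* K ⧸ R := QuotientGroup.map R R σ hσR
  set π := QuotientGroup.mk' R
  have hτπ : ∀ k, τ (π k) = π (σ k) := fun k => rfl
  obtain ⟨hzz, hz1, hc, hzv⟩ := D.zeta_props
  set z := zeta R v u with hzdef
  set X := π v
  set U := π u
  have hτU : τ U = U := by
    rw [hτπ]; congr 1; ext; simp [σ, u, mul_assoc]
  have hτ2 : τ (τ X) = U * X * U⁻¹ := by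
    rw [hτπ, hτπ, ← map_inv, ← map_mul, ← map_mul]
    congr 1
    ext
    simp [σ, u, v, mul_assoc]
  have hconj : U * X * U⁻¹ = X * z := by
    have h := D.conj 1 1
    simp only [zpow_one, mul_one] at h
    rw [show U * X = X * U * z from h, mul_assoc (X * U) z U⁻¹, ← (hc U⁻¹).eq, mul_assoc X U,
      mul_inv_cancel_left]
  have hτz : τ z = z := by
    rw [hzdef, zeta, hτπ]
    refine hzv _ ?_ ?_
    · rw [map_commutatorElement]
      exact commutator_mem_commutator (mem_top _) (mem_top _)
    · intro h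
      refine hz1 ?_
      rw [hzdef, zeta, QuotientGroup.mk'_apply, QuotientGroup.eq_one_iff]
      have h' := hR₀n.conj_mem _ h y⁻¹
      change y⁻¹ * (y * ((⁅u, v⁆ : K) : G) * y⁻¹) * y⁻¹⁻¹ ∈ R₀ at h'
      rwa [show y⁻¹ * (y * ((⁅u, v⁆ : K) : G) * y⁻¹) * y⁻¹⁻¹ = ((⁅u, v⁆ : K) : G) by group] at h'
  obtain ⟨α, β, hαβ⟩ := hKmem (σ v)
  have hτX : τ X = X ^ α * U ^ β := by rw [hτπ, hαβ, map_mul, map_zpow, map_zpow]
  have hτX2 : τ (X * X) = X ^ (2 * α) * U ^ (2 * β) * z ^ (α * β) := by
    rw [map_mul, hτX, ← map_zpow, ← map_zpow, ← map_mul]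
    exact D.sq α β
  -- squares are central
  have hX2 : ∀ k l : ℤ, Commute (X ^ (2 * k)) (U ^ l) := fun k l => by
    show X ^ (2 * k) * U ^ l = U ^ l * X ^ (2 * k)
    rw [D.conj, ← hzdef, show 2 * k * l = 2 * (k * l) by ring, zpow_mul z, zpow_two, hzz, one_zpow,
      mul_one]
  have hα : Odd α := by
    rw [← Int.not_even_iff_odd]
    intro hα
    obtain ⟨a, rfl⟩ := hα
    -- `σ v` and `u` would generate the group
    have hσsurj : Function.Surjective σ := fun k =>
      ⟨⟨y⁻¹ * k * y⁻¹⁻¹, hKn.conj_mem _ k.2 y⁻¹⟩, by ext; simp [σ, mul_assoc]⟩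
    have hgen : closure ({σ v, σ u} : Set K) = ⊤ := by
      rw [← Set.image_pair, ← MonoidHom.map_closure, closure_eq_top hKmem, map_top_of_surjective _ hσsurj]
    refine not_isCyclic_of_not_meta hm (isCyclic_iff_exists_zpowers_eq_top.2
      ⟨u, frattini_nongenerating ?_⟩)
    rw [eq_top_iff, ← hgen, closure_le]
    rintro w (rfl | rfl)
    · rw [SetLike.mem_coe, hαβ]
      refine mul_mem (mem_sup_right ?_) (mem_sup_left (zpow_mem (mem_zpowers u) _))
      rw [← two_mul, mul_comm, zpow_mul, zpow_two, ← pow_two]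
      exact PGroups.pow_mem_frattini (hG.to_subgroup K) _
    · refine mem_sup_left ?_
      convert mem_zpowers u using 1
      ext; simp [σ, u, mul_assoc]
  obtain ⟨s, hs⟩ := hα
  have hsq : X * X = X ^ (2 * (1 : ℤ)) := by rw [mul_one, zpow_two]
  have hτpow : ∀ k : ℤ, τ (X ^ (2 * k)) =
      X ^ (2 * α * k) * U ^ (2 * β * k) * z ^ (α * β * k) := by
    intro k
    rw [zpow_mul, zpow_two, map_zpow, hτX2, (((hc _).zpow_right _)).mul_zpow, (hX2 α _).mul_zpow,
      ← zpow_mul, ← zpow_mul, ← zpow_mul]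
  rcases Int.even_or_odd β with hβ | hβ
  · -- `z` would be a product of fourth powers
    obtain ⟨b, rfl⟩ := hβ
    have hτ2X : τ (τ X) = X ^ (α + 2 * α * s) * U ^ (4 * b * s + 4 * b) := by
      rw [hτX, map_mul, map_zpow τ U, hτU, show X ^ α = X * X ^ (2 * s) by
        rw [hs, add_comm, zpow_one_add], map_mul, hτX, hτpow,
        zpow_eq_one_of_even hzz ⟨α * b * s, by ring⟩, mul_one]
      calc X ^ α * U ^ (b + b) * (X ^ (2 * α * s) * U ^ (2 * (b + b) * s)) * U ^ (b + b)
          = X ^ α * (U ^ (b + b) * X ^ (2 * α * s)) * (U ^ (2 * (b + b) * s) * U ^ (b + b)) := by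
            group
        _ = X ^ α * (X ^ (2 * α * s) * U ^ (b + b)) * (U ^ (2 * (b + b) * s) * U ^ (b + b)) := by
            rw [mul_assoc 2 α s, (hX2 (α * s) (b + b)).eq]
        _ = X ^ (α + 2 * α * s) * U ^ (4 * b * s + 4 * b) := by
            rw [show 4 * b * s + 4 * b = (b + b) + (2 * (b + b) * s + (b + b)) by ring,
              zpow_add X α, zpow_add U (b + b), zpow_add U (2 * (b + b) * s)]
            group
    have he : X ^ (2 * (2 * s * (s + 1))) * U ^ (2 * (2 * b * (s + 1))) = z := by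
      have h1 : X * z = X ^ (α + 2 * α * s) * U ^ (4 * b * s + 4 * b) := by
        rw [← hτ2X, hτ2, hconj]
      rw [show α + 2 * α * s = 1 + 2 * (2 * s * (s + 1)) by rw [hs]; ring, zpow_add, zpow_one,
        mul_assoc, show 4 * b * s + 4 * b = 2 * (2 * b * (s + 1)) by ring] at h1
      exact (mul_left_cancel h1).symm
    exact Int.not_even_iff_odd.2 (D.odd_pair he).1 ⟨s * (s + 1), by ring⟩
  · -- `x²` would be a power of `u` modulo `R`
    obtain ⟨i, j, hi, hj, hij⟩ := D.exists_sq
    have hαo : Odd α := ⟨s, hs⟩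
    have h1 : X ^ (2 * α * i) * U ^ (2 * β * i + 2 * j) = 1 := by
      have h2 : τ (X ^ (2 * i) * U ^ (2 * j)) = z := by rw [hij, hτz]
      rw [map_mul, hτpow, map_zpow, hτU, zpow_eq_self_of_odd hzz ((hαo.mul hβ).mul hi),
        mul_assoc, ← (((hc (U ^ (2 * j)))).eq), ← mul_assoc, mul_eq_right, mul_assoc,
        ← zpow_add] at h2
      exact h2
    have h3 : X ^ (2 * i) ∈ zpowers U := by
      have h4 : (X ^ (2 * i)) ^ α ∈ zpowers U := by
        rw [← zpow_mul, show 2 * i * α = 2 * α * i by ring, mul_eq_one_iff_eq_inv.1 h1]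
        exact inv_mem (zpow_mem (mem_zpowers U) _)
      exact zpowers_le.2 h4
        (mem_zpowers_of_odd_zpow ((hG.to_subgroup K).to_quotient R) hαo)
    obtain ⟨k, hk⟩ := mem_zpowers_iff.1 h3
    rcases Int.even_or_odd k with hke | hko
    · obtain ⟨k', rfl⟩ := hke
      have he : X ^ (2 * (0 : ℤ)) * U ^ (2 * (k' + j)) = z := by
        refine Eq.trans ?_ hij
        rw [show QuotientGroup.mk' R v ^ (2 * i) = U ^ (k' + k') from hk.symm, mul_zero, zpow_zero,
          one_mul, mul_add, zpow_add, two_mul k']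
      exact absurd (D.odd_pair he).1 (by decide)
    · -- then `u` would be a power of `x`
      refine not_isCyclic_of_not_meta hm (isCyclic_iff_exists_zpowers_eq_top.2
        ⟨v, frattini_nongenerating ?_⟩)
      rw [eq_top_iff, ← closure_eq_top hKmem, closure_le]
      rintro w (rfl | rfl)
      · exact mem_sup_left (mem_zpowers _)
      · refine (zpowers_le.2 ?_) (mem_zpowers_of_odd_zpow (hG.to_subgroup K) hko)
        have hr : (u ^ k)⁻¹ * v ^ (2 * i) ∈ R := by
          refine QuotientGroup.eq.1 ?_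
          show π (u ^ k) = π (v ^ (2 * i))
          rw [map_zpow, map_zpow]
          exact hk
        rw [show u ^ k = v ^ (2 * i) * ((u ^ k)⁻¹ * v ^ (2 * i))⁻¹ by group]
        exact mul_mem (mem_sup_left (zpow_mem (mem_zpowers v) _))
          (mem_sup_right (inv_mem (PGroups.commutator_le_frattini (p := 2) (hG.to_subgroup K)
            (D.le hr))))

/-- **S5217, piece 1.** -/
theorem shape_of (hG : IsPGroup 2 G) (hmem : ∀ g : G, ∃ i j : ℤ, g = x ^ i * y ^ j)
    (hm : ¬ IsMetacyclic G) : ∃ M : Subgroup G, Shape G M := by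
  haveI : Fact (Nat.Prime 2) := ⟨Nat.prime_two⟩
  have hgen := closure_eq_top hmem
  have hncyc := not_isCyclic_of_not_meta hm
  have hne : commutator G ≠ ⊥ := fun h =>
    hm (metacyclic_of_two_gen hgen (Normal.of_commutator_le _ (by rw [h]; exact bot_le)))
  obtain ⟨R, hRn, hR, hRc⟩ := exists_half hG (commutator G) hne
  haveI := hRn
  have D : Data G x y R := ⟨hG, hmem, hR, hRc, hm⟩
  obtain ⟨hzz, hz1, hc, -⟩ := D.zeta_props
  obtain ⟨i, j, hi, hj, hij⟩ := D.exists_sq
  set b := x ^ i * y ^ j with hb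
  have hb2 : b * b ∈ R := by
    rw [← QuotientGroup.eq_one_iff, ← QuotientGroup.mk'_apply, map_mul, D.sq i j, hij,
      zpow_eq_self_of_odd hzz (hi.mul hj), hzz]
  have hxb : closure ({x, b} : Set G) = ⊤ := by rw [Set.pair_comm]; exact odd_gen hG hgen hj
  have hyb : closure ({y, b} : Set G) = ⊤ := by rw [Set.pair_comm]; exact odd_gen' hG hgen hi
  -- three maximal subgroups
  have hco : ∀ v : G, ∃ K : Subgroup G, K.index = 2 ∧ v ∈ K := by
    intro v
    obtain h | ⟨K, hK, hvK⟩ := IsCoatomic.eq_top_or_exists_le_coatom (zpowers v)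
    · exact absurd (isCyclic_iff_exists_zpowers_eq_top.2 ⟨v, h⟩) hncyc
    · exact ⟨K, PGroups.index_eq_of_isCoatom (p := 2) hG hK, hvK (mem_zpowers v)⟩
  have hnot : ∀ {K : Subgroup G}, K.index = 2 → ∀ {v w : G}, closure ({v, w} : Set G) = ⊤ →
      v ∈ K → w ∉ K := by
    intro K hK v w hvw hv hw
    have h : K = ⊤ := by
      rw [eq_top_iff, ← hvw, closure_le]
      rintro u (rfl | rfl) <;> assumption
    rw [h, index_top] at hK
    omega
  obtain ⟨M, hM, hbM⟩ := hco b
  obtain ⟨Mx, hMx, hxMx⟩ := hco x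
  obtain ⟨My, hMy, hyMy⟩ := hco y
  have hxy' : closure ({y, x} : Set G) = ⊤ := by rw [Set.pair_comm]; exact hgen
  have hyMx : y ∉ Mx := hnot hMx hgen hxMx
  have hxMy : x ∉ My := hnot hMy hxy' hyMy
  have hxM : x ∉ M := hnot hM (by rw [Set.pair_comm]; exact hxb) hbM
  have hyM : y ∉ M := hnot hM (by rw [Set.pair_comm]; exact hyb) hbM
  have hmetax : IsMetacyclic ↥Mx := meta_of_gen hG hmem hMx hxMx hyMx
  have hmetay : IsMetacyclic ↥My := meta_of_gen hG (mem_of_swap hmem) hMy hyMy hxMy
  -- a subgroup of index two is determined by the generators it contains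
  have hchar : ∀ {K : Subgroup G}, K.index = 2 → ∀ p q : ℤ,
      x ^ p * y ^ q ∈ K ↔ ((x ∈ K ∨ Even p) ↔ (y ∈ K ∨ Even q)) := by
    intro K hK p q
    rw [mul_mem_iff_of_index_two hK]
    have h : ∀ (w : G) (r : ℤ), w ^ r ∈ K ↔ (w ∈ K ∨ Even r) := fun w r => by
      by_cases hw : w ∈ K
      · simp [hw, zpow_mem hw]
      · simp [hw, zpow_mem_iff_even hK hw]
    rw [h, h]
  have hsame : ∀ {K L : Subgroup G}, K.index = 2 → L.index = 2 → (x ∈ K ↔ x ∈ L) →
      (y ∈ K ↔ y ∈ L) → K = L := by
    intro K L hK hL h1 h2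
    ext g
    obtain ⟨p, q, rfl⟩ := hmem g
    rw [hchar hK, hchar hL, h1, h2]
  have hcoatom : ∀ {K : Subgroup G}, IsCoatom K → K = M ∨ K = Mx ∨ K = My := by
    intro K hK
    have hKi := PGroups.index_eq_of_isCoatom (p := 2) hG hK
    by_cases hxK : x ∈ K
    · exact Or.inr (Or.inl (hsame hKi hMx (iff_of_true hxK hxMx)
        (iff_of_false (hnot hKi hgen hxK) hyMx)))
    by_cases hyK : y ∈ K
    · exact Or.inr (Or.inr (hsame hKi hMy (iff_of_false hxK hxMy) (iff_of_true hyK hyMy)))
    exact Or.inl (hsame hKi hM (iff_of_false hxK hxM) (iff_of_false hyK hyM))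
  have hWx : frattini G ≤ Mx := frattini_le_coatom (PGroups.isCoatom_of_index_eq_prime hMx)
  have hW : frattini G = Mx ⊓ My := by
    refine le_antisymm
      (le_inf hWx (frattini_le_coatom (PGroups.isCoatom_of_index_eq_prime hMy))) fun g hg => ?_
    rw [PGroups.mem_frattini_iff]
    intro K hK
    rcases hcoatom hK with rfl | rfl | rfl
    · obtain ⟨p, q, rfl⟩ := hmem g
      have h1 := (hchar hMx p q).1 hg.1
      have h2 := (hchar hMy p q).1 hg.2
      simp only [hxMx, hyMx, hxMy, hyMy, true_or, false_or, true_iff, iff_true] at h1 h2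
      rw [hchar hM]
      simp [hxM, hyM, h1, h2]
    · exact hg.1
    · exact hg.2
  refine ⟨M, ⟨hG, hm, hM, ?_, ?_, ?_, ⟨x, b, hxb, hR hb2, ?_⟩⟩⟩
  · -- index four
    haveI := normal_of_index_eq_two hMx
    have h1 : (Mx ⊓ My).relIndex My = 2 := by
      rw [inf_relIndex_right]
      rcases (Nat.dvd_prime Nat.prime_two).1 (hMx ▸ relIndex_dvd_index_of_normal Mx My) with h | h
      · exact absurd (relIndex_eq_one.1 h hyMy) hyMx
      · exact h
    rw [hW, ← relIndex_mul_index (inf_le_right : Mx ⊓ My ≤ My), h1, hMy]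
  · obtain ⟨N, hN, hNc, hQc⟩ :=
      CfsgLib.Fusion.MetacyclicTwo.isMetacyclic_subgroup hmetax ((frattini G).subgroupOf Mx)
    exact CfsgLib.OddOrder.isMetacyclic_of_surjective (subgroupOfEquivOfLe hWx).toMonoidHom
      (subgroupOfEquivOfLe hWx).surjective ⟨N, hN, hNc, hQc⟩
  · intro H hH
    by_cases htop : H = ⊤
    · exact Or.inl htop
    obtain ⟨K, hK, hHK⟩ := (IsCoatomic.eq_top_or_exists_le_coatom H).resolve_left htop
    refine Or.inr ?_
    rcases hcoatom hK with rfl | rfl | rfl
    · exact hHK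
    all_goals
      refine absurd ?_ hH
      exact CfsgLib.OddOrder.isMetacyclic_of_surjective (subgroupOfEquivOfLe hHK).toMonoidHom
        (subgroupOfEquivOfLe hHK).surjective
        (CfsgLib.Fusion.MetacyclicTwo.isMetacyclic_subgroup (by assumption) (H.subgroupOf _))
  · intro hcon
    set π := QuotientGroup.mk' R
    obtain ⟨w, hw, v, hv, hwv⟩ := mem_sup_of_normal_left.1 hcon
    obtain ⟨l, rfl⟩ := mem_zpowers_iff.1 hv
    have hbW : b ∉ frattini G := fun hbF => hncyc (isCyclic_iff_exists_zpowers_eq_top.2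
      ⟨x, frattini_nongenerating (by
        rw [eq_top_iff, ← hxb, closure_le]
        rintro u (rfl | rfl)
        · exact mem_sup_left (mem_zpowers _)
        · exact mem_sup_right hbF)⟩)
    have hCW : commutator G ≤ frattini G := PGroups.commutator_le_frattini (p := 2) hG
    have hl : Even l := by
      by_contra hl
      refine hbW ((zpowers_le.2 ?_) (mem_zpowers_of_odd_zpow hG (Int.not_even_iff_odd.1 hl)))
      rw [show b ^ l = w⁻¹ * (x * x) by rw [← hwv, inv_mul_cancel_left]]
      exact mul_mem (inv_mem (hCW hw)) (pow_two x ▸ PGroups.pow_mem_frattini (p := 2) hG x)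
    have hπ : π x ^ (2 : ℤ) = π w := by
      obtain ⟨l', rfl⟩ := hl
      rw [zpow_two, ← map_mul, ← hwv, map_mul, map_zpow, ← two_mul, zpow_mul, zpow_two, ← map_mul,
        show π (b * b) = 1 from (QuotientGroup.eq_one_iff _).2 hb2, one_zpow, mul_one]
    by_cases hwR : w ∈ R
    · refine D.no_pow (g := y) (h := x) hxy' (n := 2 * j) ⟨j, two_mul j⟩ ?_
      rw [show π w = 1 from (QuotientGroup.eq_one_iff _).2 hwR] at hπ
      rw [← hij, zpow_mul, zpow_mul (QuotientGroup.mk' R x), hπ, one_zpow, one_mul, ← zpow_mul]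
    · refine D.no_pow hgen (n := 2) ⟨1, rfl⟩ ?_
      rw [hπ]
      exact D.zeta_props.2.2.2 w hw hwR

theorem stmtShape_aux : ∀ (G : Type u) [Group G] [Finite G], IsPGroup 2 G → IsBicyclic G →
    ¬ IsMetacyclic G → ∃ M : Subgroup G, Shape G M := fun _ _ _ hG ⟨_, _, hb⟩ hm =>
  shape_of hG hb hm

end CfsgLib.Bicyclic.ShapeProof

namespace CfsgLib.Bicyclic

universe u

/-- Piece 1: the structure. -/
theorem stmtShape : StmtShape.{u} := ShapeProof.stmtShape_aux

end CfsgLib.Bicyclic
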